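import Cfsg.Agent.Lib.SecRank.FourCentral

/-!
# Alperin's lemma for the prime two

If `W` is maximal among normal abelian subgroups of exponent dividing four of a finite 2-group,
then every element of order at most four centralizing `W` lies in `W`.
-/

set_option autoImplicit false

namespace Cfsg.Agent.SecRank

open scoped commutatorElement

universe u

variable {S : Type u} [Group S]

/-- `W` is a normal abelian subgroup of exponent dividing four. -/
structure AbFour (W : Subgroup S) : Prop where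
  normal : W.Normal
  comm : ∀ a ∈ W, ∀ b ∈ W, a * b = b * a
  exp : ∀ a ∈ W, a ^ 4 = 1

theorem exists_maximal_abFour [Finite S] {B : Subgroup S} (hB : AbFour B) :
    ∃ W : Subgroup S, B ≤ W ∧ AbFour W ∧ ∀ W', AbFour W' → W ≤ W' → W' ≤ W := by
  obtain ⟨W, hW⟩ := (Set.toFinite {W : Subgroup S | B ≤ W ∧ AbFour W}).exists_maximal
    ⟨B, le_rfl, hB⟩
  exact ⟨W, hW.prop.1, hW.prop.2, fun W' h1 h2 => hW.le_of_ge ⟨hW.prop.1.trans h2, h1⟩ h2⟩

theorem AbFour.le_centralizer {W : Subgroup S} (h : AbFour W) :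
    W ≤ Subgroup.centralizer (W : Set S) := fun w hw =>
  Subgroup.mem_centralizer_iff.mpr fun v hv => h.comm v hv w hw

theorem mem_of_pow_four [Finite S] (hS : IsPGroup 2 S) {W : Subgroup S} (hW : AbFour W)
    (hmax : ∀ W', AbFour W' → W ≤ W' → W' ≤ W) {x : S}
    (hx : x ∈ Subgroup.centralizer (W : Set S)) (hx4 : x ^ 4 = 1) : x ∈ W := by
  have : Fact (Nat.Prime 2) := ⟨Nat.prime_two⟩
  have := hW.normal
  by_contra hxW
  let C := Subgroup.centralizer (W : Set S)
  obtain ⟨E, hE⟩ := (Set.toFinite {E : Subgroup S | E.Normal ∧ W ≤ E ∧ E ≤ C ∧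
      ∃ x ∈ E, x ^ 4 = 1 ∧ x ∉ W}).exists_minimal ⟨C, inferInstance, hW.le_centralizer, le_rfl,
      x, hx, hx4, hxW⟩
  obtain ⟨hEn, hWE, hEC, x, hxE, hx4, hxW⟩ := hE.prop
  let π := QuotientGroup.mk' W
  have : (E.map π).Normal := Subgroup.Normal.map hEn _ (QuotientGroup.mk'_surjective W)
  have hne : E.map π ≠ ⊥ := by
    rw [Ne, Subgroup.map_eq_bot_iff, QuotientGroup.ker_mk']
    exact fun h => hxW (h hxE)
  have hlt := PGroup.commutator_top_lt (hS.to_quotient W) (E.map π) hne
  let E0 := ⁅E, (⊤ : Subgroup S)⁆ ⊔ W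
  have hE0E : E0 ≤ E := sup_le (Subgroup.commutator_le_left _ _) hWE
  have hE0lt : ¬ E ≤ E0 := fun h => by
    have h1 : E.map π ≤ E0.map π := Subgroup.map_mono h
    rw [Subgroup.map_sup, Subgroup.map_commutator,
      Subgroup.map_top_of_surjective _ (QuotientGroup.mk'_surjective W),
      show W.map π = ⊥ by rw [Subgroup.map_eq_bot_iff, QuotientGroup.ker_mk'], sup_bot_eq] at h1
    exact hlt.not_ge h1
  have hgood : ∀ y ∈ E0, y ^ 4 = 1 → y ∈ W := fun y hy hy4 => by
    by_contra hyW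
    exact hE0lt (hE.le_of_le ⟨inferInstance, le_sup_right, hE0E.trans hEC, y, hy, hy4, hyW⟩ hE0E)
  have hcW : ∀ c ∈ E, ∀ w ∈ W, c * w = w * c := fun c hc w hw =>
    (Subgroup.mem_centralizer_iff.mp (hEC hc) w hw).symm
  have hfc : FourCentral E0 := fun y hy z =>
    Subtype.ext (hcW _ (hE0E z.2) _ (hgood _ y.2 (by simpa using congrArg Subtype.val hy))).symm
  have hE0n : E0.Normal := inferInstance
  let α : E0 ≃* E0 :=
    { toFun := fun c => ⟨x⁻¹ * c * x, by simpa using hE0n.conj_mem c c.2 x⁻¹⟩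
      invFun := fun c => ⟨x * c * x⁻¹, hE0n.conj_mem c c.2 x⟩
      left_inv := fun c => Subtype.ext (by simp [mul_assoc])
      right_inv := fun c => Subtype.ext (by simp [mul_assoc])
      map_mul' := fun a b => Subtype.ext (by simp [mul_assoc]) }
  have hαfix : ∀ y : E0, y ^ 4 = 1 → α y = y := fun y hy => by
    apply Subtype.ext
    show x⁻¹ * (y : S) * x = y
    rw [mul_assoc, ← hcW x hxE _ (hgood _ y.2 (by simpa using congrArg Subtype.val hy)),
      inv_mul_cancel_left]
  have key : ∀ g : S, x⁻¹ * (g⁻¹ * x * g) ∈ W := by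
    intro g
    set c := x⁻¹ * (g⁻¹ * x * g) with hc
    have hcE0 : c ∈ E0 := by
      refine (le_sup_left : ⁅E, (⊤ : Subgroup S)⁆ ≤ E0) ?_
      have e : c = ⁅x⁻¹, g⁻¹⁆ := by rw [hc, commutatorElement_def]; group
      rw [e]
      exact Subgroup.commutator_mem_commutator (inv_mem hxE) (Subgroup.mem_top _)
    refine hgood c hcE0 ?_
    have h1 := hfc.mem_of_sq_fix (hS.to_subgroup E0) α hαfix (c := ⟨c, hcE0⟩) ?_
    · simpa using congrArg Subtype.val h1
    apply Subtype.ext
    show x⁻¹ * (x⁻¹ * (x⁻¹ * c * x) * x) * x * (x⁻¹ * (x⁻¹ * c * x) * x) * (x⁻¹ * c * x) * c = 1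
    have e1 : (x * c) ^ 4 = 1 := by
      have e2 : x * c = (MulAut.conj g⁻¹) x := by rw [hc]; simp [mul_assoc]
      rw [e2, ← map_pow, hx4, map_one]
    calc x⁻¹ * (x⁻¹ * (x⁻¹ * c * x) * x) * x * (x⁻¹ * (x⁻¹ * c * x) * x) * (x⁻¹ * c * x) * c
        = (x ^ 4)⁻¹ * (x * c) ^ 4 := by
          simp only [pow_succ, pow_zero, one_mul]; group
      _ = 1 := by rw [hx4, e1, inv_one, one_mul]
  let W' := W ⊔ Subgroup.zpowers x
  have hxW' : x ∈ W' := Subgroup.mem_sup_right (Subgroup.mem_zpowers x)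
  have hW'C : ∀ a ∈ W', ∀ b ∈ W', a * b = b * a := by
    have hle : W' ≤ Subgroup.centralizer (W' : Set S) := by
      have h0 : W' ≤ Subgroup.centralizer ((W : Set S) ∪ {x}) := by
        refine sup_le (fun w hw => Subgroup.mem_centralizer_iff.mpr ?_) (Subgroup.zpowers_le.mpr
          (Subgroup.mem_centralizer_iff.mpr ?_))
        · rintro v (hv | rfl)
          · exact hW.comm v hv w hw
          · exact hcW _ hxE w hw
        · rintro v (hv | rfl)
          · exact (hcW x hxE v hv).symm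
          · rfl
      have e : Subgroup.closure ((W : Set S) ∪ {x}) = W' := by
        rw [Subgroup.closure_union, Subgroup.closure_eq, ← Subgroup.zpowers_eq_closure]
      intro a ha
      have := h0 ha
      rw [← Subgroup.centralizer_closure, e] at this
      exact this
    exact fun a ha b hb => (Subgroup.mem_centralizer_iff.mp (hle hb) a ha)
  have hn : W'.Normal := by
    constructor
    intro a ha g
    have hle : W' ≤ W'.comap (MulAut.conj g).toMonoidHom := by
      refine sup_le (fun w hw => ?_) (Subgroup.zpowers_le.mpr ?_)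
      · exact Subgroup.mem_sup_left (hW.normal.conj_mem w hw g)
      · show g * x * g⁻¹ ∈ W'
        have e : g * x * g⁻¹ = x * (x⁻¹ * (g⁻¹⁻¹ * x * g⁻¹)) := by group
        rw [e]
        exact mul_mem hxW' (Subgroup.mem_sup_left (key g⁻¹))
    exact hle ha
  have hexp : ∀ a ∈ W', a ^ 4 = 1 := by
    let K : Subgroup S :=
      { carrier := {a | a ∈ W' ∧ a ^ 4 = 1}
        one_mem' := ⟨one_mem _, one_pow 4⟩
        mul_mem' := fun {a b} ha hb => ⟨mul_mem ha.1 hb.1, by
          rw [Commute.mul_pow (hW'C a ha.1 b hb.1), ha.2, hb.2, one_mul]⟩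
        inv_mem' := fun {a} ha => ⟨inv_mem ha.1, by rw [inv_pow, ha.2, inv_one]⟩ }
    have hK : W' ≤ K := sup_le (fun w hw => ⟨Subgroup.mem_sup_left hw, hW.exp w hw⟩)
      (Subgroup.zpowers_le.mpr ⟨hxW', hx4⟩)
    exact fun a ha => (hK ha).2
  exact hxW (hmax W' ⟨hn, hW'C, hexp⟩ le_sup_left hxW')

theorem fourCentral_centralizer [Finite S] (hS : IsPGroup 2 S) {W : Subgroup S} (hW : AbFour W)
    (hmax : ∀ W', AbFour W' → W ≤ W' → W' ≤ W) :
    FourCentral (Subgroup.centralizer (W : Set S)) := fun x hx y => Subtype.ext <| by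
  have hxW := mem_of_pow_four hS hW hmax x.2 (by simpa using congrArg Subtype.val hx)
  exact Subgroup.mem_centralizer_iff.mp y.2 _ hxW

end Cfsg.Agent.SecRank
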