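import Mathlib
import Cfsg.Prelude.Def_EvenTechniques
import Cfsg.Agent.Lib.PGroup.Basic

/-!
# Counting elementary abelian sections of 2-groups

A pair `N ≤ H` with all squares of `H` in `N` is a section of exponent at most two.

* `sectional_of_sq`: sectional 2-rank at most `k` from `|H| ≤ 2^k |N|` for all such pairs;
* `card_split`: `|H| = |f H| |H ⊓ ker f|`;
* `exists_complement`: a maximal subgroup between `N` and `H` avoiding a given element;
* `index_le_two_of_four`: a 2-group normalizing a group of order four centralizes it up to index two;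
* `exists_central_step`: a central element of a normal section.
-/

set_option autoImplicit false

namespace Cfsg.Agent.SecRank

variable {S : Type*} [Group S]

/-- `H / N` has exponent at most two. -/
def SqSub (N H : Subgroup S) : Prop := N ≤ H ∧ ∀ h ∈ H, h * h ∈ N

theorem SqSub.comm_mem {N H : Subgroup S} (h : SqSub N H) {a b : S} (ha : a ∈ H) (hb : b ∈ H) :
    a⁻¹ * b⁻¹ * a * b ∈ N := by
  have e : a⁻¹ * b⁻¹ * a * b = (a⁻¹ * a⁻¹) * ((a * b⁻¹) * (a * b⁻¹)) * (b * b) := by group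
  rw [e]
  exact mul_mem (mul_mem (h.2 _ (inv_mem ha)) (h.2 _ (mul_mem ha (inv_mem hb)))) (h.2 _ hb)

theorem SqSub.conj_mem {N H : Subgroup S} (h : SqSub N H) {g n : S} (hg : g ∈ H) (hn : n ∈ N) :
    g⁻¹ * n * g ∈ N := by
  have e : g⁻¹ * n * g = n * (n⁻¹ * g⁻¹ * n * g) := by group
  rw [e]
  exact mul_mem hn (h.comm_mem (h.1 hn) hg)

theorem SqSub.map {T : Type*} [Group T] {N H : Subgroup S} (h : SqSub N H) (f : S →* T) :
    SqSub (N.map f) (H.map f) := by
  refine ⟨Subgroup.map_mono h.1, ?_⟩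
  rintro _ ⟨x, hx, rfl⟩
  exact ⟨x * x, h.2 x hx, map_mul f x x⟩

theorem SqSub.inf {N H : Subgroup S} (h : SqSub N H) (C : Subgroup S) : SqSub (N ⊓ C) (H ⊓ C) :=
  ⟨inf_le_inf_right C h.1, fun x hx => ⟨h.2 x hx.1, mul_mem hx.2 hx.2⟩⟩

theorem SqSub.mono_right {N K H : Subgroup S} (h : SqSub N H) (hN : N ≤ K) (hK : K ≤ H) :
    SqSub N K :=
  ⟨hN, fun x hx => h.2 x (hK hx)⟩

theorem SqSub.subgroupOf {N H K : Subgroup S} (h : SqSub N H) :
    SqSub (N.subgroupOf K) (H.subgroupOf K) :=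
  ⟨fun _ hx => h.1 hx, fun x hx => h.2 (x : S) hx⟩

theorem card_split {T : Type*} [Group T] (f : S →* T) (H : Subgroup S) :
    Nat.card H = Nat.card (H.map f) * Nat.card ↥(H ⊓ f.ker) := by
  have h1 := Subgroup.card_mul_index ((f.ker).subgroupOf H)
  have h2 : Nat.card ((f.ker).subgroupOf H) = Nat.card ↥(H ⊓ f.ker) :=
    Nat.card_congr
      { toFun := fun x => ⟨((x : H) : S), (x : H).2, x.2⟩
        invFun := fun x => ⟨⟨(x : S), x.2.1⟩, x.2.2⟩
        left_inv := fun x => rfl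
        right_inv := fun x => rfl }
  have h3 : ((f.ker).subgroupOf H).index = Nat.card (H.map f) := Subgroup.relIndex_ker (K := H) f
  rw [← h1, h2, h3, mul_comm]

/-- Bounds for image and kernel multiply. -/
theorem SqSub.card_le_of_split {T : Type*} [Group T] {N H : Subgroup S} (f : S →* T)
    {a b : ℕ} (h1 : Nat.card (H.map f) ≤ a * Nat.card (N.map f))
    (h2 : Nat.card ↥(H ⊓ f.ker) ≤ b * Nat.card ↥(N ⊓ f.ker)) :
    Nat.card H ≤ a * b * Nat.card N := by
  rw [card_split f H, card_split f N]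
  calc _ ≤ (a * Nat.card (N.map f)) * (b * Nat.card ↥(N ⊓ f.ker)) := Nat.mul_le_mul h1 h2
    _ = _ := by ring

theorem sectional_of_sq [Finite S] {k : ℕ}
    (h : ∀ N H : Subgroup S, SqSub N H → Nat.card H ≤ 2 ^ k * Nat.card N) :
    Cfsg.SectionalPRankLE 2 k S := by
  intro H N hN A hA hA2
  let π := QuotientGroup.mk' N
  let H' : Subgroup S := (A.comap π).map H.subtype
  have hle : N ≤ A.comap π := fun n hn => by
    rw [Subgroup.mem_comap]
    have : π n = 1 := (QuotientGroup.eq_one_iff n).mpr hn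
    rw [this]; exact one_mem A
  have hsq : SqSub (N.map H.subtype) H' := by
    refine ⟨Subgroup.map_mono hle, ?_⟩
    rintro _ ⟨x, hx, rfl⟩
    refine ⟨x * x, ?_, map_mul _ x x⟩
    show x * x ∈ N
    rw [← QuotientGroup.eq_one_iff]
    show π (x * x) = 1
    rw [map_mul, ← pow_two]
    exact hA2 _ hx
  have h1 := h _ _ hsq
  have hH' : Nat.card H' = Nat.card A * Nat.card (N.map H.subtype) := by
    rw [Subgroup.card_map_of_injective H.subtype_injective,
      Subgroup.card_map_of_injective H.subtype_injective, card_split π (A.comap π),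
      Subgroup.map_comap_eq_self_of_surjective (QuotientGroup.mk'_surjective N),
      QuotientGroup.ker_mk', inf_eq_right.mpr hle]
  rw [hH'] at h1
  exact Nat.le_of_mul_le_mul_right h1 Nat.card_pos

theorem card_union_two {G : Type*} [Group G] [Finite G] {H K : Subgroup G} (x : G)
    (hcov : ∀ h ∈ H, h ∈ K ∨ x * h ∈ K) : Nat.card H ≤ 2 * Nat.card K := by
  classical
  have key : ∀ h : H, (if (h : G) ∈ K then (h : G) else x * h) ∈ K := fun h => by
    rcases em ((h : G) ∈ K) with hk | hk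
    · rw [if_pos hk]; exact hk
    · rw [if_neg hk]; exact (hcov h h.2).resolve_left hk
  have hinj : Function.Injective fun h : H =>
      (decide ((h : G) ∈ K), (⟨_, key h⟩ : K)) := by
    intro a b hab
    simp only [Prod.mk.injEq, decide_eq_decide, Subtype.mk.injEq] at hab
    obtain ⟨h1, h2⟩ := hab
    apply Subtype.ext
    by_cases ha : (a : G) ∈ K
    · rw [if_pos ha, if_pos (h1.mp ha)] at h2; exact h2
    · rw [if_neg ha, if_neg (fun hb => ha (h1.mpr hb))] at h2; exact mul_left_cancel h2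
  have := Nat.card_le_card_of_injective _ hinj
  rw [Nat.card_prod] at this
  simpa [Nat.card_eq_fintype_card (α := Bool)] using this

/-- A subgroup of exponent two over `N` of index two in `H` avoiding `u`. -/
theorem SqSub.exists_complement [Finite S] {N H : Subgroup S} (h : SqSub N H) {u : S}
    (huN : u ∉ N) :
    ∃ M : Subgroup S, N ≤ M ∧ M ≤ H ∧ u ∉ M ∧ Nat.card H ≤ 2 * Nat.card M := by
  obtain ⟨M, hM⟩ :=
    (Set.toFinite {M : Subgroup S | N ≤ M ∧ M ≤ H ∧ u ∉ M}).exists_maximal ⟨N, le_rfl, h.1, huN⟩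
  obtain ⟨hNM, hMH, huM⟩ := hM.prop
  refine ⟨M, hNM, hMH, huM, card_union_two u fun x hx => ?_⟩
  by_cases hxM : x ∈ M
  · exact Or.inl hxM
  right
  have hMx : ∀ m ∈ M, x⁻¹ * m * x ∈ M := fun m hm => by
    have e : x⁻¹ * m * x = m * (m⁻¹ * x⁻¹ * m * x) := by group
    rw [e]
    exact mul_mem hm (hNM (h.comm_mem (hMH hm) hx))
  have hxx : x * x ∈ M := hNM (h.2 x hx)
  let M' : Subgroup S :=
    { carrier := {y | y ∈ M ∨ x * y ∈ M}
      one_mem' := Or.inl (one_mem M)
      mul_mem' := by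
        rintro a b (ha | ha) (hb | hb)
        · exact Or.inl (mul_mem ha hb)
        · right
          have e : x * (a * b) = (x * x) * (x⁻¹ * a * x) * (x * x)⁻¹ * (x * b) := by group
          rw [e]
          exact mul_mem (mul_mem (mul_mem hxx (hMx a ha)) (inv_mem hxx)) hb
        · right
          rw [← mul_assoc]
          exact mul_mem ha hb
        · left
          have e : a * b = (x⁻¹ * (x * a) * x) * (x * x)⁻¹ * (x * b) := by group
          rw [e]
          exact mul_mem (mul_mem (hMx _ ha) (inv_mem hxx)) hb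
      inv_mem' := by
        rintro a (ha | ha)
        · exact Or.inl (inv_mem ha)
        · right
          have e : x * a⁻¹ = (x * x) * (x⁻¹ * (x * a)⁻¹ * x) := by group
          show x * a⁻¹ ∈ M
          rw [e]
          exact mul_mem hxx (hMx _ (inv_mem ha)) }
  have hxM' : x ∈ M' := Or.inr hxx
  have hlt : M ≤ M' := fun y hy => Or.inl hy
  have hnot : ¬ (N ≤ M' ∧ M' ≤ H ∧ u ∉ M') := fun hh => hxM (hM.le_of_ge hh hlt hxM')
  have huM' : u ∈ M' := by
    by_contra hu
    refine hnot ⟨hNM.trans hlt, ?_, hu⟩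
    rintro y (hy | hy)
    · exact hMH hy
    · have e : y = x⁻¹ * (x * y) := by group
      rw [e]; exact mul_mem (inv_mem hx) (hMH hy)
  rcases huM' with hu | hu
  · exact absurd hu huM
  have e : u * x = x⁻¹ * (x * u) * x := by group
  rw [e]; exact hMx _ hu

theorem exists_central_step [Finite S] (hS : IsPGroup 2 S) {N M : Subgroup S} [N.Normal] [M.Normal]
    (hNM : N ≤ M) (hne : ¬ M ≤ N) :
    ∃ c ∈ M, c ∉ N ∧ c * c ∈ N ∧ ∀ g : S, c⁻¹ * (g⁻¹ * c * g) ∈ N := by
  have : Fact (Nat.Prime 2) := ⟨Nat.prime_two⟩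
  obtain ⟨L, hL, hNL, hLM, hcard⟩ := PGroup.exists_normal_step hS N M (lt_of_le_not_ge hNM hne)
  obtain ⟨c, hcL, hcN⟩ := SetLike.exists_of_lt hNL
  have hidx : (N.subgroupOf L).index = 2 := by
    have h1 := Subgroup.card_mul_index (N.subgroupOf L)
    rw [Nat.card_congr (Subgroup.subgroupOfEquivOfLe hNL.le).toEquiv, hcard] at h1
    exact Nat.eq_of_mul_eq_mul_left Nat.card_pos h1
  have key : ∀ a b : L, (a : S) ∉ N → (b : S) ∉ N → ((a * b : L) : S) ∈ N := fun a b ha hb =>
    (Subgroup.mul_mem_iff_of_index_two hidx).mpr (iff_of_false ha hb)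
  refine ⟨c, hLM hcL, hcN, key ⟨c, hcL⟩ ⟨c, hcL⟩ hcN hcN, fun g => ?_⟩
  have hg : g⁻¹ * c * g ∈ L := by simpa using hL.conj_mem c hcL g⁻¹
  refine key ⟨c⁻¹, inv_mem hcL⟩ ⟨_, hg⟩ (fun h => hcN (inv_mem_iff.mp h)) fun h => hcN ?_
  have := (inferInstance : N.Normal).conj_mem _ h g
  simpa [mul_assoc] using this

/-- In a group of order four with nontrivial `l, f`, `l ≠ f`, the elements are `1, f, l, l f`. -/
theorem four_cases {L : Subgroup S} (h4 : Nat.card L = 4) {f l : S} (hf : f ∈ L) (hl : l ∈ L)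
    (hf1 : f ≠ 1) (hl1 : l ≠ 1) (hlf : l ≠ f) (hprod : l * f ≠ 1) {x : S} (hx : x ∈ L) :
    x = 1 ∨ x = f ∨ x = l ∨ x = l * f := by
  classical
  have : Finite L := Nat.finite_of_card_ne_zero (by omega)
  have := Fintype.ofFinite L
  by_contra! hne
  obtain ⟨h1, h2, h3, h5⟩ := hne
  have hs : ({1, ⟨f, hf⟩, ⟨l, hl⟩, ⟨l * f, mul_mem hl hf⟩, ⟨x, hx⟩} : Finset L).card = 5 := by
    repeat rw [Finset.card_insert_of_notMem]
    · simp
    all_goals simp [Subtype.ext_iff, hf1.symm, hl1.symm, hlf.symm, Ne.symm h1, Ne.symm h2,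
      Ne.symm h3, Ne.symm h5, Ne.symm hprod, hl1, hf1, eq_comm (a := l), eq_comm (a := f)]
  have := Finset.card_le_univ ({1, ⟨f, hf⟩, ⟨l, hl⟩, ⟨l * f, mul_mem hl hf⟩, ⟨x, hx⟩} : Finset L)
  rw [hs, ← Nat.card_eq_fintype_card, h4] at this
  omega

/-- A group of order four of exponent two normalized by `X` with a fixed nontrivial element. -/
theorem index_le_two_of_four [Finite S] {X X0 L : Subgroup S} (h4 : Nat.card L = 4)
    (hsq : ∀ x ∈ L, x * x = 1) (hconj : ∀ g ∈ X, ∀ x ∈ L, g⁻¹ * x * g ∈ L)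
    {f l : S} (hf : f ∈ L) (hl : l ∈ L) (hf1 : f ≠ 1) (hl1 : l ≠ 1) (hlf : l ≠ f)
    (hfix : ∀ g ∈ X, g * f = f * g)
    (hX0 : ∀ g ∈ X, g * l = l * g → g ∈ X0) :
    Nat.card X ≤ 2 * Nat.card X0 := by
  have hprod : l * f ≠ 1 := fun h => hlf (by
    rw [eq_inv_of_mul_eq_one_left h, inv_eq_of_mul_eq_one_right (hsq f hf)])
  by_cases hall : ∀ g ∈ X, g * l = l * g
  · exact card_union_two 1 fun g hg => Or.inl (hX0 g hg (hall g hg))
  push Not at hall
  obtain ⟨x, hx, hxl⟩ := hall
  have act : ∀ g ∈ X, g * l ≠ l * g → g⁻¹ * l * g = l * f := by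
    intro g hg hne
    have hgl : g * (g⁻¹ * l * g) = l * g := by group
    rcases four_cases h4 hf hl hf1 hl1 hlf hprod (hconj g hg l hl) with h | h | h | h
    · rw [h, mul_one] at hgl
      exact absurd (by simpa using hgl.symm) hl1
    · rw [h] at hgl
      rw [hfix g hg] at hgl
      exact absurd (mul_right_cancel hgl).symm hlf
    · rw [h] at hgl
      exact absurd hgl hne
    · exact h
  refine card_union_two x fun g hg => ?_
  by_cases hgl : g * l = l * g
  · exact Or.inl (hX0 g hg hgl)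
  right
  refine hX0 _ (mul_mem hx hg) ?_
  have e : (x * g)⁻¹ * l * (x * g) = g⁻¹ * (x⁻¹ * l * x) * g := by group
  have hfg : g⁻¹ * f * g = f := by rw [mul_assoc, ← hfix g hg, inv_mul_cancel_left]
  have e2 : g⁻¹ * (l * f) * g = (g⁻¹ * l * g) * (g⁻¹ * f * g) := by group
  have key : (x * g)⁻¹ * l * (x * g) = l := by
    rw [e, act x hx hxl, e2, act g hg hgl, hfg, mul_assoc, hsq f hf, mul_one]
  calc x * g * l = x * g * ((x * g)⁻¹ * l * (x * g)) := by rw [key]
    _ = l * (x * g) := by group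

end Cfsg.Agent.SecRank
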