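import Cfsg.Agent.Lib.SecRank.SelfCentralizingEight

/-!
# Extraspecial groups of order 32: automorphisms fixing a self-centralizing subgroup of order eight

* `ESData`: `Q` has order 32, squares and commutators in the central subgroup `{1, z}` which is its
  centre;
* `ESData.inner`: an element normalizing `Q`, fixing `A` and centralizing some `q ∉ A` modulo
  `⟨z⟩` induces an inner automorphism;
* `ESData.card_le_sixteen`: two such subgroups meeting in `{1, z}` and `C(Q) ≤ Q` give sectional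
  2-rank at most four.
-/

set_option autoImplicit false

namespace Cfsg.Agent.SecRank

universe u

variable {S : Type u} [Group S]

/-- An extraspecial subgroup of order 32 of a 2-group. -/
structure ESData (S : Type u) [Group S] where
  Q : Subgroup S
  z : S
  pGroup : IsPGroup 2 S
  card_Q : Nat.card Q = 32
  zQ : z ∈ Q
  z1 : z ≠ 1
  z2 : z * z = 1
  zc : ∀ v ∈ Q, v * z = z * v
  sq : ∀ v ∈ Q, v * v = 1 ∨ v * v = z
  comm : ∀ v ∈ Q, ∀ w ∈ Q, v⁻¹ * (w⁻¹ * v * w) = 1 ∨ v⁻¹ * (w⁻¹ * v * w) = z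
  centre : ∀ v ∈ Q, (∀ w ∈ Q, v * w = w * v) → v = 1 ∨ v = z

/-- An elementary abelian self-centralizing subgroup of order eight of `D.Q`. -/
structure ESData.Good (D : ESData S) (A : Subgroup S) : Prop where
  le : A ≤ D.Q
  zA : D.z ∈ A
  exp : ∀ v ∈ A, v * v = 1
  card : Nat.card A = 8
  self : ∀ v ∈ D.Q, (∀ w ∈ A, v * w = w * v) → v ∈ A

namespace ESData

variable (D : ESData S) [Finite S]

theorem inner {A : Subgroup S} (hA : D.Good A) (hC : Subgroup.centralizer (D.Q : Set S) ≤ D.Q)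
    {x : S} (hxN : ∀ v ∈ D.Q, x⁻¹ * v * x ∈ D.Q) (hxA : ∀ w ∈ A, x * w = w * x)
    {q : S} (hq : q ∈ D.Q) (hqA : q ∉ A)
    (hqx : q⁻¹ * (x⁻¹ * q * x) = 1 ∨ q⁻¹ * (x⁻¹ * q * x) = D.z) : x ∈ D.Q := by
  have : Fact (Nat.Prime 2) := ⟨Nat.prime_two⟩
  have hz2 := D.z2
  -- an element of `A` moving `q`
  obtain ⟨a0, ha0, ha0q⟩ : ∃ a0 ∈ A, a0 * q ≠ q * a0 := by
    by_contra! hall
    exact hqA (hA.self q hq fun w hw => (hall w hw).symm)
  have hqa0 : a0⁻¹ * q * a0 = q * D.z := by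
    rcases D.comm q hq a0 (hA.le ha0) with h | h
    · exfalso
      apply ha0q
      have e := inv_mul_eq_one.mp h
      calc a0 * q = a0 * (a0⁻¹ * q * a0) := by rw [← e]
        _ = q * a0 := by group
    · calc a0⁻¹ * q * a0 = q * (q⁻¹ * (a0⁻¹ * q * a0)) := by group
        _ = q * D.z := by rw [h]
  -- adjust so that `q` is fixed
  obtain ⟨x', hx'N, hx'A, hx'q, hback⟩ : ∃ x' : S, (∀ v ∈ D.Q, x'⁻¹ * v * x' ∈ D.Q) ∧
      (∀ w ∈ A, x' * w = w * x') ∧ x'⁻¹ * q * x' = q ∧ (x' ∈ D.Q → x ∈ D.Q) := by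
    rcases hqx with h | h
    · exact ⟨x, hxN, hxA, (inv_mul_eq_one.mp h).symm, id⟩
    · refine ⟨x * a0, fun v hv => ?_, fun w hw => ?_, ?_, fun h' => ?_⟩
      · rw [show (x * a0)⁻¹ * v * (x * a0) = a0⁻¹ * (x⁻¹ * v * x) * a0 by group]
        exact mul_mem (mul_mem (inv_mem (hA.le ha0)) (hxN v hv)) (hA.le ha0)
      · rw [mul_assoc, comm_of_sq hA.exp ha0 hw, ← mul_assoc, hxA w hw, mul_assoc]
      · have e : x⁻¹ * q * x = q * D.z := by
          calc x⁻¹ * q * x = q * (q⁻¹ * (x⁻¹ * q * x)) := by group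
            _ = q * D.z := by rw [h]
        have ez : a0⁻¹ * D.z * a0 = D.z := by
          rw [mul_assoc, ← D.zc a0 (hA.le ha0), inv_mul_cancel_left]
        rw [show (x * a0)⁻¹ * q * (x * a0) = a0⁻¹ * (x⁻¹ * q * x) * a0 by group, e,
          show a0⁻¹ * (q * D.z) * a0 = (a0⁻¹ * q * a0) * (a0⁻¹ * D.z * a0) by group, hqa0, ez,
          mul_assoc, hz2, mul_one]
      · have := mul_mem h' (inv_mem (hA.le ha0))
        rwa [mul_inv_cancel_right] at this
  refine hback ?_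
  let K0 : Subgroup S := D.Q ⊓ Subgroup.centralizer ({x'} : Set S)
  have hfix : ∀ v ∈ K0, x'⁻¹ * v * x' = v := fun v hv => by
    rw [mul_assoc, Subgroup.mem_centralizer_singleton_iff.mp (Subgroup.mem_inf.mp hv).2,
      inv_mul_cancel_left]
  have hAK : A ≤ K0 := fun w hw => Subgroup.mem_inf.mpr
    ⟨hA.le hw, Subgroup.mem_centralizer_singleton_iff.mpr (hx'A w hw).symm⟩
  have hqK : q ∈ K0 := Subgroup.mem_inf.mpr ⟨hq, Subgroup.mem_centralizer_singleton_iff.mpr (by
    calc q * x' = x' * (x'⁻¹ * q * x') := by group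
      _ = x' * q := by rw [hx'q])⟩
  by_cases htop : D.Q ≤ K0
  · refine hC (Subgroup.mem_centralizer_iff.mpr fun v hv => ?_)
    exact Subgroup.mem_centralizer_singleton_iff.mp (Subgroup.mem_inf.mp (htop hv)).2
  obtain ⟨r, hr, hrK⟩ := SetLike.not_le_iff_exists.mp htop
  have h16 : Nat.card K0 = 16 := by
    have h1 := PGroup.mul_card_le_card D.pGroup (lt_of_le_of_ne hAK fun he => hqA (he ▸ hqK))
    have h2 := PGroup.mul_card_le_card D.pGroup
      (lt_of_le_of_ne (inf_le_left : K0 ≤ D.Q) fun he => htop (le_of_eq he.symm))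
    rw [hA.card] at h1
    rw [D.card_Q] at h2
    change 2 * Nat.card K0 ≤ 32 at h2
    omega
  have hidx : (K0.subgroupOf D.Q).index = 2 := by
    have h1 := Subgroup.card_mul_index (K0.subgroupOf D.Q)
    rw [Nat.card_congr (Subgroup.subgroupOfEquivOfLe inf_le_left).toEquiv, h16, D.card_Q] at h1
    omega
  have hAidx : (A.subgroupOf K0).index = 2 := by
    have h1 := Subgroup.card_mul_index (A.subgroupOf K0)
    rw [Nat.card_congr (Subgroup.subgroupOfEquivOfLe hAK).toEquiv, hA.card, h16] at h1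
    omega
  set e := r⁻¹ * (x'⁻¹ * r * x') with he
  have heQ : e ∈ D.Q := mul_mem (inv_mem hr) (hx'N r hr)
  have hre : x'⁻¹ * r * x' = r * e := by rw [he]; group
  have hek : ∀ k ∈ K0, e * k = k * e := by
    intro k hk
    have hkQ : k ∈ D.Q := (Subgroup.mem_inf.mp hk).1
    obtain ⟨c, hc, hkr⟩ : ∃ c : S, (c = 1 ∨ c = D.z) ∧ r⁻¹ * k * r = k * c :=
      ⟨_, D.comm k hkQ r hr, by group⟩
    have hzK : D.z ∈ K0 := hAK hA.zA
    have hcK : c ∈ K0 := by rcases hc with rfl | rfl; exacts [one_mem _, hzK]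
    have h1 : e⁻¹ * (k * c) * e = k * c := by
      calc e⁻¹ * (k * c) * e = e⁻¹ * (r⁻¹ * k * r) * e := by rw [hkr]
        _ = (r * e)⁻¹ * k * (r * e) := by group
        _ = (x'⁻¹ * r * x')⁻¹ * (x'⁻¹ * k * x') * (x'⁻¹ * r * x') := by rw [hre, hfix k hk]
        _ = x'⁻¹ * (r⁻¹ * k * r) * x' := by group
        _ = x'⁻¹ * (k * c) * x' := by rw [hkr]
        _ = k * c := hfix _ (mul_mem hk hcK)
    have h2 : e * (k * c) = k * c * e := by
      calc e * (k * c) = e * (e⁻¹ * (k * c) * e) := by rw [h1]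
        _ = k * c * e := by group
    rcases hc with rfl | rfl
    · simpa using h2
    · refine mul_right_cancel (b := D.z) ?_
      calc e * k * D.z = k * D.z * e := by rw [mul_assoc, h2]
        _ = k * e * D.z := by rw [mul_assoc, ← D.zc e heQ, ← mul_assoc]
  have heA : e ∈ A := hA.self e heQ fun w hw => hek w (hAK hw)
  have her : e * r = r * e := by
    have hrr : x'⁻¹ * (r * r) * x' = r * r := by
      rcases D.sq r hr with h | h <;> rw [h]
      · group
      · exact hfix _ (hAK hA.zA)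
    have h1 : r * e * (r * e) = r * r := by
      rw [← hre, show x'⁻¹ * r * x' * (x'⁻¹ * r * x') = x'⁻¹ * (r * r) * x' by group, hrr]
    have h2 : e * r * e = r := by
      calc e * r * e = r⁻¹ * (r * e * (r * e)) := by group
        _ = r := by rw [h1]; group
    calc e * r = e * r * (e * e) := by rw [hA.exp e heA, mul_one]
      _ = (e * r * e) * e := by group
      _ = r * e := by rw [h2]
  have hform : ∀ v ∈ D.Q, v ∈ K0 ∨ r * v ∈ K0 := fun v hv => by
    by_cases h : v ∈ K0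
    · exact Or.inl h
    · exact Or.inr ((Subgroup.mul_mem_iff_of_index_two hidx (a := ⟨r, hr⟩) (b := ⟨v, hv⟩)).mpr
        (iff_of_false hrK h))
  -- an element commuting with `r` and `K0` commutes with `Q`
  have hcentQ : ∀ g : S, (∀ k ∈ K0, g * k = k * g) → g * r = r * g →
      ∀ v ∈ D.Q, g * v = v * g := by
    intro g hgk hgr v hv
    rcases hform v hv with h | h
    · exact hgk v h
    · have e1 : v = r⁻¹ * (r * v) := by group
      rw [e1]
      exact ((Commute.inv_right (show Commute g r from hgr)).mul_right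
        (show Commute g (r * v) from hgk _ h)).eq
  rcases D.centre e heQ (fun w hw => hcentQ e hek her w hw) with he1 | hez
  · refine absurd (Subgroup.mem_inf.mpr ⟨hr, Subgroup.mem_centralizer_singleton_iff.mpr ?_⟩) hrK
    calc r * x' = x' * (x'⁻¹ * r * x') := by group
      _ = x' * r := by rw [hre, he1, mul_one]
  -- `h ∈ A` centralizing `K0` and moving `r`
  let Ker : Subgroup S := A ⊓ Subgroup.centralizer ({q} : Set S)
  have hKer : Nat.card A ≤ 2 * Nat.card Ker := by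
    refine card_union_two a0 fun w hw => ?_
    by_cases h : w * q = q * w
    · exact Or.inl (Subgroup.mem_inf.mpr ⟨hw, Subgroup.mem_centralizer_singleton_iff.mpr h⟩)
    refine Or.inr (Subgroup.mem_inf.mpr ⟨mul_mem ha0 hw, Subgroup.mem_centralizer_singleton_iff.mpr ?_⟩)
    have hqw : w⁻¹ * q * w = q * D.z := by
      rcases D.comm q hq w (hA.le hw) with h' | h'
      · exfalso
        apply h
        have e := inv_mul_eq_one.mp h'
        calc w * q = w * (w⁻¹ * q * w) := by rw [← e]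
          _ = q * w := by group
      · calc w⁻¹ * q * w = q * (q⁻¹ * (w⁻¹ * q * w)) := by group
          _ = q * D.z := by rw [h']
    have ez : w⁻¹ * D.z * w = D.z := by
      rw [mul_assoc, ← D.zc w (hA.le hw), inv_mul_cancel_left]
    have h1 : (a0 * w)⁻¹ * q * (a0 * w) = q := by
      rw [show (a0 * w)⁻¹ * q * (a0 * w) = w⁻¹ * (a0⁻¹ * q * a0) * w by group, hqa0,
        show w⁻¹ * (q * D.z) * w = (w⁻¹ * q * w) * (w⁻¹ * D.z * w) by group, hqw, ez, mul_assoc,
        hz2, mul_one]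
    calc a0 * w * q = a0 * w * ((a0 * w)⁻¹ * q * (a0 * w)) := by rw [h1]
      _ = q * (a0 * w) := by group
  obtain ⟨h, hh, hhz⟩ : ∃ h ∈ Ker, h ∉ Subgroup.zpowers D.z := by
    refine SetLike.not_le_iff_exists.mp fun hle => ?_
    have h1 := Subgroup.card_le_of_le hle
    rw [hA.card] at hKer
    have : orderOf D.z ≤ 2 := orderOf_le_of_pow_eq_one two_pos (by rw [pow_two]; exact hz2)
    rw [Nat.card_zpowers] at h1
    omega
  obtain ⟨hhA, hhq⟩ := Subgroup.mem_inf.mp hh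
  rw [Subgroup.mem_centralizer_singleton_iff] at hhq
  have hhK : ∀ k ∈ K0, h * k = k * h := fun k hk => by
    by_cases hkA : k ∈ A
    · exact comm_of_sq hA.exp hhA hkA
    · have hqk : q * k ∈ A := (Subgroup.mul_mem_iff_of_index_two hAidx (a := ⟨q, hqK⟩)
        (b := ⟨k, hk⟩)).mpr (iff_of_false hqA hkA)
      have e1 : k = q⁻¹ * (q * k) := by group
      rw [e1]
      exact ((Commute.inv_right (show Commute h q from hhq)).mul_right
        (show Commute h (q * k) from comm_of_sq hA.exp hhA hqk)).eq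
  have hhr : h⁻¹ * r * h = r * D.z := by
    rcases D.comm r hr h (hA.le hhA) with h' | h'
    · exfalso
      have hhr : h * r = r * h := by
        have e := inv_mul_eq_one.mp h'
        calc h * r = h * (h⁻¹ * r * h) := by rw [← e]
          _ = r * h := by group
      rcases D.centre h (hA.le hhA) (fun w hw => hcentQ h hhK hhr w hw) with rfl | rfl
      · exact hhz (one_mem _)
      · exact hhz (Subgroup.mem_zpowers _)
    · calc h⁻¹ * r * h = r * (r⁻¹ * (h⁻¹ * r * h)) := by group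
        _ = r * D.z := by rw [h']
  suffices hxh : x' * h ∈ D.Q by
    have := mul_mem hxh (inv_mem (hA.le hhA))
    rwa [mul_inv_cancel_right] at this
  refine hC (Subgroup.mem_centralizer_iff.mpr fun v hv => ?_)
  refine (hcentQ (x' * h) (fun k hk => ?_) ?_ v hv).symm
  · have hkx : k * x' = x' * k :=
      Subgroup.mem_centralizer_singleton_iff.mp (Subgroup.mem_inf.mp hk).2
    rw [mul_assoc, hhK k hk, ← mul_assoc, ← hkx, mul_assoc]
  · have h1 : (x' * h)⁻¹ * r * (x' * h) = r := by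
      rw [show (x' * h)⁻¹ * r * (x' * h) = h⁻¹ * (x'⁻¹ * r * x') * h by group, hre, hez,
        show h⁻¹ * (r * D.z) * h = (h⁻¹ * r * h) * (h⁻¹ * D.z * h) by group, hhr,
        show h⁻¹ * D.z * h = D.z by rw [mul_assoc, ← D.zc h (hA.le hhA), inv_mul_cancel_left],
        mul_assoc, hz2, mul_one]
    calc x' * h * r = x' * h * ((x' * h)⁻¹ * r * (x' * h)) := by rw [h1]
      _ = r * (x' * h) := by group

/-- If no element of `N(Q) ∖ Q` centralizes `A`, then `A` is self-centralizing in `S`. -/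
theorem centralizer_eq {A : Subgroup S} (hA : D.Good A)
    (hN : ∀ x : S, (∀ v ∈ D.Q, x⁻¹ * v * x ∈ D.Q) → (∀ w ∈ A, x * w = w * x) → x ∈ D.Q) :
    Subgroup.centralizer (A : Set S) = A := by
  refine le_antisymm ?_ fun v hv => Subgroup.mem_centralizer_iff.mpr fun w hw =>
    comm_of_sq hA.exp hw hv
  by_contra hne
  let C := Subgroup.centralizer (A : Set S)
  have hQA : ∀ v ∈ D.Q, ∀ w ∈ A, v⁻¹ * w * v ∈ A := fun v hv w hw => by
    have e : v⁻¹ * w * v = w * (w⁻¹ * (v⁻¹ * w * v)) := by group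
    rw [e]
    refine mul_mem hw ?_
    rcases D.comm w (hA.le hw) v hv with h | h <;> rw [h]
    · exact one_mem _
    · exact hA.zA
  have hQC : ∀ v ∈ D.Q, ∀ c ∈ C, v * c * v⁻¹ ∈ C := fun v hv c hc =>
    Subgroup.mem_centralizer_iff.mpr fun w hw => by
      have h1 := Subgroup.mem_centralizer_iff.mp hc _ (hQA v hv w hw)
      calc w * (v * c * v⁻¹) = v * ((v⁻¹ * w * v) * c) * v⁻¹ := by group
        _ = v * (c * (v⁻¹ * w * v)) * v⁻¹ := by rw [h1]
        _ = v * c * v⁻¹ * w := by group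
  let M : Subgroup S :=
    { carrier := {g | ∃ v ∈ D.Q, ∃ c ∈ C, g = v * c}
      one_mem' := ⟨1, one_mem _, 1, one_mem _, (one_mul 1).symm⟩
      mul_mem' := by
        rintro _ _ ⟨v, hv, c, hc, rfl⟩ ⟨v', hv', c', hc', rfl⟩
        refine ⟨v * v', mul_mem hv hv', v'⁻¹ * c * v' * c', mul_mem ?_ hc', by group⟩
        simpa using hQC v'⁻¹ (inv_mem hv') c hc
      inv_mem' := by
        rintro _ ⟨v, hv, c, hc, rfl⟩
        exact ⟨v⁻¹, inv_mem hv, v * c⁻¹ * v⁻¹, hQC v hv _ (inv_mem hc), by group⟩ }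
  have hQM : D.Q ≤ M := fun v hv => ⟨v, hv, 1, one_mem _, (mul_one v).symm⟩
  obtain ⟨c0, hc0, hc0A⟩ := SetLike.not_le_iff_exists.mp hne
  have hne2 : D.Q.subgroupOf M ≠ ⊤ := fun ht => by
    have hm : (⟨c0, ⟨1, one_mem _, c0, hc0, (one_mul c0).symm⟩⟩ : M) ∈ D.Q.subgroupOf M :=
      ht ▸ Subgroup.mem_top _
    exact hc0A (hA.self c0 hm fun w hw => (Subgroup.mem_centralizer_iff.mp hc0 w hw).symm)
  have : Fact (Nat.Prime 2) := ⟨Nat.prime_two⟩
  have hlt := PGroup.lt_normalizer (D.pGroup.to_subgroup M) hne2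
  obtain ⟨g, hg, hgQ⟩ := SetLike.exists_of_lt hlt
  obtain ⟨v, hv, c, hc, hgvc⟩ := g.2
  have hcN : ∀ w ∈ D.Q, c⁻¹ * w * c ∈ D.Q := by
    intro w hw
    have hw' : (v * w * v⁻¹ : S) ∈ D.Q := mul_mem (mul_mem hv hw) (inv_mem hv)
    have h1 := (Subgroup.mem_normalizer_iff.mp (inv_mem hg) ⟨v * w * v⁻¹, hQM hw'⟩).mp hw'
    have h2 : ((g : S)⁻¹ * (v * w * v⁻¹) * ((g : S)⁻¹)⁻¹) ∈ D.Q := h1
    rwa [hgvc, show (v * c)⁻¹ * (v * w * v⁻¹) * ((v * c)⁻¹)⁻¹ = c⁻¹ * w * c by group] at h2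
  apply hgQ
  show (g : S) ∈ D.Q
  rw [hgvc]
  exact mul_mem hv (hN c hcN fun w hw => (Subgroup.mem_centralizer_iff.mp hc w hw).symm)

/-- Sections of exponent two have order at most sixteen. -/
theorem card_le_sixteen {A₁ A₂ : Subgroup S} (h1 : D.Good A₁) (h2 : D.Good A₂)
    (h12 : ∀ v ∈ A₁, v ∈ A₂ → v = 1 ∨ v = D.z)
    (hC : Subgroup.centralizer (D.Q : Set S) ≤ D.Q) {N H : Subgroup S} (h : SqSub N H) :
    Nat.card H ≤ 16 * Nat.card N := by
  suffices hsel : ∃ A, D.Good A ∧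
      ∀ x : S, (∀ v ∈ D.Q, x⁻¹ * v * x ∈ D.Q) → (∀ w ∈ A, x * w = w * x) → x ∈ D.Q by
    obtain ⟨A, hA, hN⟩ := hsel
    exact card_le_sixteen_mul_of_selfCentralizing D.pGroup hA.exp hA.card
      (D.centralizer_eq hA hN) h
  by_contra hall
  push Not at hall
  obtain ⟨x, hxN, hxA, hxQ⟩ := hall A₁ h1
  obtain ⟨y, hyN, hyA, hyQ⟩ := hall A₂ h2
  let NQ : Subgroup S :=
    { carrier := {g | ∀ v, v ∈ D.Q ↔ g⁻¹ * v * g ∈ D.Q}
      one_mem' := fun v => by simp
      mul_mem' := fun {a b} ha hb v => by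
        rw [show (a * b)⁻¹ * v * (a * b) = b⁻¹ * (a⁻¹ * v * a) * b by group, ← hb, ← ha]
      inv_mem' := fun {a} ha v => by
        rw [ha (a⁻¹⁻¹ * v * a⁻¹), show a⁻¹ * (a⁻¹⁻¹ * v * a⁻¹) * a = v by group] }
  have hmemNQ : ∀ g : S, (∀ v ∈ D.Q, g⁻¹ * v * g ∈ D.Q) → g ∈ NQ := fun g hg => by
    have heq : D.Q.map (MulAut.conj g⁻¹).toMonoidHom = D.Q := Subgroup.eq_of_le_of_card_ge
      (by rintro _ ⟨v, hv, rfl⟩; simpa using hg v hv)
      (by rw [Subgroup.card_map_of_injective (MulAut.conj g⁻¹).injective])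
    intro v
    refine ⟨hg v, fun hv => ?_⟩
    obtain ⟨v', hv', he⟩ := (heq.symm ▸ hv : g⁻¹ * v * g ∈ D.Q.map (MulAut.conj g⁻¹).toMonoidHom)
    have hvv : v' = v := by simpa [mul_assoc] using he
    exact hvv ▸ hv'
  have hQN : D.Q ≤ NQ := fun g hg => hmemNQ g fun v hv => mul_mem (mul_mem (inv_mem hg) hv) hg
  let Z := Subgroup.zpowers D.z
  have hZQ : Z ≤ D.Q := Subgroup.zpowers_le.mpr D.zQ
  have hzfix : ∀ g ∈ NQ, g⁻¹ * D.z * g = D.z := fun g hg => by
    have hm : g⁻¹ * D.z * g ∈ D.Q := (hg D.z).mp D.zQ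
    rcases D.centre _ hm (fun w hw => by
      have hw' : g * w * g⁻¹ ∈ D.Q := by
        rw [hg (g * w * g⁻¹), show g⁻¹ * (g * w * g⁻¹) * g = w by group]; exact hw
      calc g⁻¹ * D.z * g * w = g⁻¹ * (D.z * (g * w * g⁻¹)) * g := by group
        _ = g⁻¹ * ((g * w * g⁻¹) * D.z) * g := by rw [D.zc _ hw']
        _ = w * (g⁻¹ * D.z * g) := by group) with h' | h'
    · exact absurd (by
        calc D.z = g * (g⁻¹ * D.z * g) * g⁻¹ := by group
          _ = 1 := by rw [h']; group) D.z1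
    · exact h'
  have : (Z.subgroupOf NQ).Normal := ⟨fun v hv g => by
    show (g : S) * (v : S) * (g : S)⁻¹ ∈ Z
    obtain ⟨i, hi⟩ := hv
    have hgz : (g : S) * D.z * (g : S)⁻¹ = D.z := by
      have := hzfix _ (inv_mem g.2)
      rwa [inv_inv] at this
    rw [show (v : S) = D.z ^ i from hi.symm,
      show (g : S) * D.z ^ i * (g : S)⁻¹ = (MulAut.conj (g : S)) (D.z ^ i) from rfl, map_zpow,
      MulAut.conj_apply, hgz]
    exact zpow_mem (Subgroup.mem_zpowers _) i⟩
  have : (D.Q.subgroupOf NQ).Normal := ⟨fun v hv g => by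
    show (g : S) * (v : S) * (g : S)⁻¹ ∈ D.Q
    have := (inv_mem g.2 (x := (g : S)) (v : S)).mp hv
    rwa [inv_inv] at this⟩
  obtain ⟨qN, hqQ, hqz, -, hqg⟩ := exists_central_step (D.pGroup.to_subgroup NQ)
    (N := Z.subgroupOf NQ) (M := D.Q.subgroupOf NQ) (fun v hv => hZQ hv) (fun hle => by
      have hle' : D.Q ≤ Z := fun v hv => hle (show (⟨v, hQN hv⟩ : NQ) ∈ D.Q.subgroupOf NQ from hv)
      have := Subgroup.card_le_of_le hle'
      have hz : orderOf D.z ≤ 2 := orderOf_le_of_pow_eq_one two_pos (by rw [pow_two]; exact D.z2)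
      rw [D.card_Q, Nat.card_zpowers] at this
      omega)
  have hZform : ∀ v ∈ Z, v = 1 ∨ v = D.z := by
    rintro v ⟨i, rfl⟩
    rcases Int.even_or_odd' i with ⟨k, hk | hk⟩
    · left
      show D.z ^ i = 1
      rw [hk, zpow_mul, zpow_two, D.z2, one_zpow]
    · right
      show D.z ^ i = D.z
      rw [hk, zpow_add, zpow_mul, zpow_two, D.z2, one_zpow, one_mul, zpow_one]
  have hq : (qN : S) ∈ D.Q := hqQ
  by_cases hq1 : (qN : S) ∈ A₁
  · refine hyQ (D.inner h2 hC hyN hyA hq (fun hq2 => hqz ?_) (hZform _ (hqg ⟨y, hmemNQ y hyN⟩)))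
    show (qN : S) ∈ Z
    rcases h12 _ hq1 hq2 with h' | h' <;> rw [h']
    · exact one_mem _
    · exact Subgroup.mem_zpowers _
  · exact hxQ (D.inner h1 hC hxN hxA hq hq1 (hZform _ (hqg ⟨x, hmemNQ x hxN⟩)))

end ESData

end Cfsg.Agent.SecRank
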