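import Cfsg.Agent.Lib.SecRank.Basic

/-!
# 2-groups acting faithfully on a flag of three elements

* `card_le_four_mul_of_flag`: sections of exponent two of the acting group have order at most four;
* `exists_flag`: a normal abelian subgroup of order at most eight has such a flag.
-/

set_option autoImplicit false

namespace Cfsg.Agent.SecRank

variable {S : Type*} [Group S] [Finite S]

theorem card_le_four_mul_of_flag (hS : IsPGroup 2 S) (z f y : S)
    (hf : ∀ g : S, g⁻¹ * f * g = f ∨ g⁻¹ * f * g = f * z)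
    (hy : ∀ g : S, g⁻¹ * y * g = y ∨ g⁻¹ * y * g = y * z ∨ g⁻¹ * y * g = y * f ∨
      g⁻¹ * y * g = y * f * z)
    (C : Subgroup S) [C.Normal] (hC : ∀ g : S, g⁻¹ * f * g = f → g⁻¹ * y * g = y → g ∈ C)
    (hC' : ∀ g ∈ C, g⁻¹ * f * g = f ∧ g⁻¹ * y * g = y)
    {N H : Subgroup (S ⧸ C)} (h : SqSub N H) : Nat.card H ≤ 4 * Nat.card N := by
  classical
  let T : Finset (S × S) := ({f, f * z} : Finset S) ×ˢ ({y, y * z, y * f, y * f * z} : Finset S)
  have hmem : ∀ g : S, (g⁻¹ * f * g, g⁻¹ * y * g) ∈ T := fun g => by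
    rw [Finset.mem_product]
    refine ⟨?_, ?_⟩
    · rcases hf g with h | h <;> simp [h]
    · rcases hy g with h | h | h | h <;> simp [h]
  let φ : S ⧸ C → T := fun q => ⟨_, hmem q.out⟩
  have hinj : Function.Injective φ := by
    intro p q hpq
    simp only [φ, Subtype.mk.injEq, Prod.mk.injEq] at hpq
    obtain ⟨h1, h2⟩ := hpq
    have key : ∀ x : S, p.out⁻¹ * x * p.out = q.out⁻¹ * x * q.out →
        (p.out * q.out⁻¹)⁻¹ * x * (p.out * q.out⁻¹) = x := fun x hx => by
      rw [show (p.out * q.out⁻¹)⁻¹ * x * (p.out * q.out⁻¹) =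
        q.out * (p.out⁻¹ * x * p.out) * q.out⁻¹ by group, hx]
      group
    have hd := hC _ (key f h1) (key y h2)
    rw [← QuotientGroup.out_eq' p, ← QuotientGroup.out_eq' q]
    refine QuotientGroup.eq.mpr ?_
    have := (inferInstance : C.Normal).conj_mem _ (inv_mem hd) q.out⁻¹
    convert (inferInstance : C.Normal).conj_mem _ (inv_mem hd) p.out⁻¹ using 1
    group
  have hf2 : ({f, f * z} : Finset S).card ≤ 2 := by
    refine (Finset.card_insert_le _ _).trans ?_
    simp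
  have hy4 : ({y, y * z, y * f, y * f * z} : Finset S).card ≤ 4 := by
    refine (Finset.card_insert_le _ _).trans ?_
    refine Nat.succ_le_succ ((Finset.card_insert_le _ _).trans ?_)
    refine Nat.succ_le_succ ((Finset.card_insert_le _ _).trans ?_)
    simp
  have hT : T.card ≤ 8 := by
    rw [Finset.card_product]
    calc _ ≤ 2 * 4 := Nat.mul_le_mul hf2 hy4
      _ = 8 := by norm_num
  have hTT : Nat.card T = T.card := by rw [Nat.card_eq_fintype_card, Fintype.card_coe]
  have hQ : Nat.card (S ⧸ C) ≤ T.card := hTT ▸ Nat.card_le_card_of_injective φ hinj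
  by_contra hlt
  push Not at hlt
  have hHc := Subgroup.card_le_card_group H
  have hN : Nat.card N = 1 := by
    have : 0 < Nat.card N := Nat.card_pos
    omega
  have hH8 : 8 ≤ Nat.card H := by
    obtain ⟨k, hk⟩ := ((hS.to_quotient C).to_subgroup H).exists_card_eq
    have hk3 : 3 ≤ k := by
      by_contra hk3
      have := Nat.pow_le_pow_right (show 1 ≤ 2 by norm_num) (show k ≤ 2 by omega)
      omega
    have := Nat.pow_le_pow_right (show 1 ≤ 2 by norm_num) hk3
    omega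
  have hTc : T.card = 8 := by omega
  have hcomm : ∀ p q : S ⧸ C, p * q = q * p := by
    have htop : H = ⊤ := Subgroup.eq_top_of_le_card H (by omega)
    have hbot : N = ⊥ := Subgroup.card_eq_one.mp hN
    intro p q
    have h1 := h.comm_mem (a := p) (b := q) (htop ▸ Subgroup.mem_top _) (htop ▸ Subgroup.mem_top _)
    rw [hbot, Subgroup.mem_bot] at h1
    calc p * q = q * p * (p⁻¹ * q⁻¹ * p * q) := by group
      _ = q * p := by rw [h1, mul_one]
  have hbij : Function.Bijective φ := hinj.bijective_of_nat_card_le (by omega)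
  have hsurj : ∀ u ∈ ({f, f * z} : Finset S), ∀ v ∈ ({y, y * z, y * f, y * f * z} : Finset S),
      ∃ g : S, g⁻¹ * f * g = u ∧ g⁻¹ * y * g = v := fun u hu v hv => by
    obtain ⟨q, hq⟩ := hbij.2 ⟨(u, v), Finset.mem_product.mpr ⟨hu, hv⟩⟩
    simp only [φ, Subtype.mk.injEq, Prod.mk.injEq] at hq
    exact ⟨q.out, hq⟩
  obtain ⟨g1, hg1f, hg1y⟩ := hsurj (f * z) (by simp) y (by simp)
  obtain ⟨g2, hg2f, hg2y⟩ := hsurj f (by simp) (y * f) (by simp)
  have hd : (g1 * g2)⁻¹ * (g2 * g1) ∈ C := by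
    rw [← QuotientGroup.eq_one_iff]
    rw [QuotientGroup.mk_mul, QuotientGroup.mk_inv, QuotientGroup.mk_mul, QuotientGroup.mk_mul,
      hcomm (g2 : S ⧸ C) g1, inv_mul_cancel]
  have key : (g1 * g2)⁻¹ * y * (g1 * g2) = (g2 * g1)⁻¹ * y * (g2 * g1) := by
    set d := (g1 * g2)⁻¹ * (g2 * g1) with hd'
    have e : g2 * g1 = g1 * g2 * d := by rw [hd']; group
    have h1 : (g1 * g2)⁻¹ * y * (g1 * g2) = y * f := by
      rw [show (g1 * g2)⁻¹ * y * (g1 * g2) = g2⁻¹ * (g1⁻¹ * y * g1) * g2 by group, hg1y, hg2y]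
    rw [e, show (g1 * g2 * d)⁻¹ * y * (g1 * g2 * d) =
      d⁻¹ * ((g1 * g2)⁻¹ * y * (g1 * g2)) * d by group, h1,
      show d⁻¹ * (y * f) * d = (d⁻¹ * y * d) * (d⁻¹ * f * d) by group, (hC' d hd).1, (hC' d hd).2]
  have h1 : (g1 * g2)⁻¹ * y * (g1 * g2) = y * f := by
    rw [show (g1 * g2)⁻¹ * y * (g1 * g2) = g2⁻¹ * (g1⁻¹ * y * g1) * g2 by group, hg1y, hg2y]
  have h2 : (g2 * g1)⁻¹ * y * (g2 * g1) = y * (f * z) := by
    rw [show (g2 * g1)⁻¹ * y * (g2 * g1) = g1⁻¹ * (g2⁻¹ * y * g2) * g1 by group, hg2y,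
      show g1⁻¹ * (y * f) * g1 = (g1⁻¹ * y * g1) * (g1⁻¹ * f * g1) by group, hg1y, hg1f]
  rw [h1, h2] at key
  have hz1 : z = 1 := by
    have := mul_left_cancel key
    exact mul_left_cancel (a := f) (by rw [mul_one]; exact this.symm)
  have : T.card ≤ 4 := by
    rw [Finset.card_product, hz1, mul_one]
    have : ({f, f} : Finset S).card = 1 := by simp
    rw [this, one_mul]
    exact hz1 ▸ hy4
  omega

theorem exists_half (hS : IsPGroup 2 S) (M : Subgroup S) [M.Normal] :
    ∃ (N : Subgroup S) (y : S), N.Normal ∧ N ≤ M ∧ y ∈ M ∧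
      Nat.card N ≤ Nat.card M / 2 + Nat.card M % 2 ∧
      (∀ x ∈ M, x ∈ N ∨ ∃ n ∈ N, x = y * n) := by
  classical
  have : Fact (Nat.Prime 2) := ⟨Nat.prime_two⟩
  obtain ⟨k, hk⟩ := PGroup.card_eq_pow hS M
  cases k with
  | zero =>
    have hM : M = ⊥ := Subgroup.card_eq_one.mp (by rw [hk, pow_zero])
    exact ⟨M, 1, inferInstance, le_rfl, one_mem M, by rw [hk]; simp, fun x hx => Or.inl hx⟩
  | succ k =>
    obtain ⟨N, hN, -, hNM, hNc⟩ := PGroup.exists_normal_card_between hS ⊥ M bot_le k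
      (by rw [Subgroup.card_bot]; exact Nat.one_le_two_pow)
      (hk ▸ Nat.pow_le_pow_right two_pos (Nat.le_succ k))
    have hidx : (N.subgroupOf M).index = 2 := by
      have h1 := Subgroup.card_mul_index (N.subgroupOf M)
      rw [Nat.card_congr (Subgroup.subgroupOfEquivOfLe hNM).toEquiv, hk, hNc, pow_succ] at h1
      exact Nat.eq_of_mul_eq_mul_left (Nat.pow_pos two_pos) h1
    have hne : ¬ M ≤ N := fun hle => by
      have := Subgroup.card_le_of_le hle
      rw [hk, hNc, pow_succ] at this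
      have := Nat.pow_pos (n := k) two_pos
      omega
    obtain ⟨y, hy, hyN⟩ := SetLike.not_le_iff_exists.mp hne
    refine ⟨N, y, hN, hNM, hy, by rw [hk, hNc, pow_succ]; omega, fun x hx => ?_⟩
    by_cases hxN : x ∈ N
    · exact Or.inl hxN
    · refine Or.inr ⟨y⁻¹ * x, ?_, by group⟩
      exact (Subgroup.mul_mem_iff_of_index_two hidx (a := ⟨y⁻¹, inv_mem hy⟩) (b := ⟨x, hx⟩)).mpr
        (iff_of_false (fun h => hyN (inv_mem_iff.mp h)) hxN)

/-- A normal subgroup of order at most eight is covered by a flag. -/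
theorem exists_flag (hS : IsPGroup 2 S) (W : Subgroup S) [W.Normal] (h8 : Nat.card W ≤ 8) :
    ∃ z f y : S,
      (∀ g : S, g⁻¹ * f * g = f ∨ g⁻¹ * f * g = f * z) ∧
      (∀ g : S, g⁻¹ * y * g = y ∨ g⁻¹ * y * g = y * z ∨ g⁻¹ * y * g = y * f ∨
        g⁻¹ * y * g = y * f * z) ∧
      f ∈ W ∧ y ∈ W ∧
      (∀ g : S, g⁻¹ * f * g = f → g⁻¹ * y * g = y → ∀ w ∈ W, g⁻¹ * w * g = w) := by
  have hc := fun (N : Subgroup S) (hN : N.Normal) (x g : S) (hx : x ∈ N) =>
    (show g⁻¹ * x * g ∈ N by simpa using hN.conj_mem x hx g⁻¹)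
  obtain ⟨W2, y, hW2, hW2W, hy, hc2, hcov⟩ := exists_half hS W
  obtain ⟨W1, f, hW1, hW12, hf, hc1, hcov2⟩ := @exists_half S _ _ hS W2 hW2
  obtain ⟨W0, z, hW0, hW01, hz, hc0, hcov1⟩ := @exists_half S _ _ hS W1 hW1
  have h1 : Nat.card W1 ≤ 2 := by omega
  have h0 : W0 = ⊥ := Subgroup.card_eq_one.mp (by
    have : 0 < Nat.card W0 := Nat.card_pos
    omega)
  have hW1' : ∀ x ∈ W1, x = 1 ∨ x = z := fun x hx => by
    rcases hcov1 x hx with h | ⟨n, hn, rfl⟩
    · rw [h0, Subgroup.mem_bot] at h; exact Or.inl h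
    · rw [h0, Subgroup.mem_bot] at hn; exact Or.inr (by rw [hn, mul_one])
  have hW2' : ∀ x ∈ W2, x = 1 ∨ x = z ∨ x = f ∨ x = f * z := fun x hx => by
    rcases hcov2 x hx with h | ⟨n, hn, rfl⟩
    · rcases hW1' x h with h' | h' <;> simp [h']
    · rcases hW1' n hn with h' | h' <;> simp [h']
  have hzc : ∀ g : S, g⁻¹ * z * g = z := fun g => by
    rcases hW1' _ (hc W1 hW1 z g hz) with h | h
    · have e : z = g * (g⁻¹ * z * g) * g⁻¹ := by group
      rw [h] at e
      have hz1 : z = 1 := by simpa using e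
      rw [hz1]; group
    · exact h
  refine ⟨z, f, y, fun g => ?_, fun g => ?_, hW2W hf, hy, fun g hgf hgy w hw => ?_⟩
  · rcases hcov2 _ (hc W2 hW2 f g hf) with h | ⟨n, hn, h⟩
    · have hfW1 : f ∈ W1 := by
        have := hc W1 hW1 _ g⁻¹ h
        rwa [show g⁻¹⁻¹ * (g⁻¹ * f * g) * g⁻¹ = f by group] at this
      rcases hW1' f hfW1 with h' | h' <;> rw [h']
      · left; group
      · exact Or.inl (hzc g)
    · rcases hW1' n hn with h' | h' <;> rw [h'] at h
      · left; rw [h, mul_one]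
      · exact Or.inr h
  · rcases hcov _ (hc W inferInstance y g hy) with h | ⟨n, hn, h⟩
    · have hyW2 : y ∈ W2 := by
        have := hc W2 hW2 _ g⁻¹ h
        rwa [show g⁻¹⁻¹ * (g⁻¹ * y * g) * g⁻¹ = y by group] at this
      have hmem : y⁻¹ * (g⁻¹ * y * g) ∈ W2 := mul_mem (inv_mem hyW2) h
      rcases hW2' _ hmem with h' | h' | h' | h'
      · left; exact (inv_mul_eq_one.mp h').symm
      · right; left; rw [← h']; group
      · right; right; left; rw [← h']; group
      · right; right; right; rw [mul_assoc y f z, ← h']; group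
    · rcases hW2' n hn with h' | h' | h' | h' <;> rw [h'] at h
      · left; rw [h, mul_one]
      · exact Or.inr (Or.inl h)
      · exact Or.inr (Or.inr (Or.inl h))
      · exact Or.inr (Or.inr (Or.inr (by rw [h, mul_assoc])))
  · have hW2g : ∀ n ∈ W2, g⁻¹ * n * g = n := fun n hn => by
      rcases hW2' n hn with h | h | h | h <;> rw [h]
      · group
      · exact hzc g
      · exact hgf
      · rw [show g⁻¹ * (f * z) * g = (g⁻¹ * f * g) * (g⁻¹ * z * g) by group, hgf, hzc]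
    rcases hcov w hw with h | ⟨n, hn, rfl⟩
    · exact hW2g w h
    · rw [show g⁻¹ * (y * n) * g = (g⁻¹ * y * g) * (g⁻¹ * n * g) by group, hgy, hW2g n hn]

/-- The group induced on a normal subgroup of order at most eight. -/
theorem card_le_four_mul_quotient (hS : IsPGroup 2 S) (W : Subgroup S) [W.Normal]
    (h8 : Nat.card W ≤ 8) {N H : Subgroup (S ⧸ Subgroup.centralizer (W : Set S))}
    (h : SqSub N H) : Nat.card H ≤ 4 * Nat.card N := by
  obtain ⟨z, f, y, hf, hy, hfW, hyW, hgen⟩ := exists_flag hS W h8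
  refine card_le_four_mul_of_flag hS z f y hf hy _ (fun g h1 h2 => ?_) (fun g hg => ?_) h
  · rw [Subgroup.mem_centralizer_iff]
    intro w hw
    calc w * g = g * (g⁻¹ * w * g) := by group
      _ = g * w := by rw [hgen g h1 h2 w hw]
  · rw [Subgroup.mem_centralizer_iff] at hg
    exact ⟨by rw [mul_assoc, hg f hfW, inv_mul_cancel_left],
      by rw [mul_assoc, hg y hyW, inv_mul_cancel_left]⟩

end Cfsg.Agent.SecRank
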