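import Cfsg.Agent.Lib.SecRank.Basic
import Cfsg.Agent.Lib.PGroup.Frattini

/-!
# 2-groups in which all elements of order at most four are central

* `comm_facts`: commutators with elements of order at most eight are central of order at most two;
* `quotient_omega`: the quotient by the central involutions again has the property;
* `card_le`: `|R| ≤ |Ω| |N|` when all squares lie in `N`;
* `mem_of_sq_fix`: the fixed-point lemma behind Alperin's lemma;
* `abelian_of_small`: if the second quotient has at most two central involutions, `R` is abelian.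
-/

set_option autoImplicit false

namespace Cfsg.Agent.SecRank

open scoped commutatorElement

universe u

/-- Every element of order dividing four is central. -/
def FourCentral (R : Type u) [Group R] : Prop :=
  ∀ x : R, x ^ 4 = 1 → ∀ y : R, x * y = y * x

theorem FourCentral.subgroup {R : Type u} [Group R] (h : FourCentral R) (H : Subgroup R) :
    FourCentral H := fun x hx y =>
  Subtype.ext (h (x : R) (by simpa using congrArg Subtype.val hx) (y : R))

/-- The central elements squaring to one. -/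
def omega (R : Type u) [Group R] : Subgroup R where
  carrier := {x | (∀ y, x * y = y * x) ∧ x * x = 1}
  one_mem' := ⟨fun y => by simp, by simp⟩
  mul_mem' := by
    rintro a b ⟨ha, ha2⟩ ⟨hb, hb2⟩
    refine ⟨fun y => by rw [mul_assoc, hb, ← mul_assoc, ha, mul_assoc], ?_⟩
    calc a * b * (a * b) = a * (b * a) * b := by group
      _ = (a * a) * (b * b) := by rw [hb a]; group
      _ = 1 := by rw [ha2, hb2, one_mul]
  inv_mem' := by
    rintro a ⟨ha, ha2⟩
    rw [show a⁻¹ = a from inv_eq_of_mul_eq_one_right ha2]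
    exact ⟨ha, ha2⟩

theorem mem_omega {R : Type u} [Group R] {x : R} :
    x ∈ omega R ↔ (∀ y, x * y = y * x) ∧ x * x = 1 := Iff.rfl

instance omega_normal (R : Type u) [Group R] : (omega R).Normal :=
  ⟨fun x hx g => by rwa [← hx.1 g, mul_inv_cancel_right]⟩

theorem pow4_of_sq {R : Type u} [Group R] {x : R} (h : x * x = 1) : x ^ 4 = 1 := by
  rw [show (4 : ℕ) = 2 * 2 from rfl, pow_mul, pow_two, pow_two, h, one_mul]

theorem FourCentral.mem_omega_of_sq {R : Type u} [Group R] (h : FourCentral R) {x : R}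
    (hx : x * x = 1) : x ∈ omega R := ⟨h x (pow4_of_sq hx), hx⟩

theorem comm_facts : ∀ n : ℕ, ∀ (R : Type u) [Group R] [Finite R], Nat.card R = n →
    IsPGroup 2 R → FourCentral R → ∀ d y : R, d ^ 8 = 1 →
      d⁻¹ * (y⁻¹ * d * y) ∈ omega R := by
  intro n
  induction n using Nat.strong_induction_on with
  | _ n ih =>
  intro R _ _ hn hR h d y hd
  have : Fact (Nat.Prime 2) := ⟨Nat.prime_two⟩
  set d' := y⁻¹ * d * y with hd'
  have hd'8 : d' ^ 8 = 1 := by
    rw [hd', show y⁻¹ * d * y = (MulAut.conj y⁻¹) d by simp, ← map_pow, hd, map_one]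
  have hd2 : (d * d) ^ 4 = 1 := by rw [← pow_two, ← pow_mul]; exact hd
  have hd'sq : d' * d' = d * d := by
    rw [hd', show y⁻¹ * d * y * (y⁻¹ * d * y) = y⁻¹ * (d * d * y) by group, h _ hd2 y,
      inv_mul_cancel_left]
  set H0 := Subgroup.closure ({d, d'} : Set R) with hH0
  have hdH : d ∈ H0 := Subgroup.subset_closure (Or.inl rfl)
  have hd'H : d' ∈ H0 := Subgroup.subset_closure (Or.inr rfl)
  -- the commutator of `d` and `d'` is a central involution
  have hc : d⁻¹ * (d'⁻¹ * d * d') ∈ omega R := by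
    by_cases htop : H0 = ⊤
    · have hz : Subgroup.zpowers d = ⊤ := by
        rw [Subgroup.zpowers_eq_closure]
        refine PGroup.closure_eq_top_of_sup_frattini (top_le_iff.mp ?_)
        rw [← htop, hH0, Subgroup.closure_le]
        have hdm : d ∈ Subgroup.closure {d} ⊔ frattini R :=
          Subgroup.mem_sup_left (Subgroup.subset_closure rfl)
        rintro x (rfl | rfl)
        · exact hdm
        · have e : d' = d * ⁅d⁻¹, y⁻¹⁆ := by rw [hd', commutatorElement_def]; group
          rw [e]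
          exact mul_mem hdm (Subgroup.mem_sup_right (PGroup.commutator_le_frattini hR
            (Subgroup.commutator_mem_commutator (Subgroup.mem_top _) (Subgroup.mem_top _))))
      have hyz : d' ∈ Subgroup.zpowers d := hz ▸ Subgroup.mem_top _
      obtain ⟨i, hi⟩ := hyz
      have hi' : d' = d ^ i := hi.symm
      rw [hi']
      have e : d⁻¹ * ((d ^ i)⁻¹ * d * d ^ i) = 1 := by group
      rw [e]
      exact one_mem _
    · have hlt : Nat.card H0 < n := hn ▸ Nat.lt_of_le_of_ne (Subgroup.card_le_card_group H0)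
        (fun he => htop (Subgroup.card_eq_iff_eq_top H0 |>.mp he))
      have h' := (ih _ hlt H0 rfl (hR.to_subgroup H0) (h.subgroup H0) ⟨d, hdH⟩ ⟨d', hd'H⟩
        (Subtype.ext (by simpa using hd))).2
      exact h.mem_omega_of_sq (by simpa using congrArg Subtype.val h')
  set c := d⁻¹ * (d'⁻¹ * d * d') with hc'
  have hcd : d * d' = d' * d * c := by rw [hc']; group
  set v := d⁻¹ * d' with hv
  have hvv : v * v = c := by
    have e1 : d' * d⁻¹ = d⁻¹ * d' * c := by
      calc d' * d⁻¹ = d⁻¹ * (d * d') * d⁻¹ := by group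
        _ = d⁻¹ * (d' * d * c) * d⁻¹ := by rw [hcd]
        _ = d⁻¹ * d' * (d * (c * d⁻¹)) := by group
        _ = d⁻¹ * d' * c := by rw [hc.1 d⁻¹, mul_inv_cancel_left]
    calc v * v = d⁻¹ * (d' * d⁻¹) * d' := by rw [hv]; group
      _ = d⁻¹ * (d⁻¹ * d' * c) * d' := by rw [e1]
      _ = d⁻¹ * d⁻¹ * d' * (c * d') := by group
      _ = (d * d)⁻¹ * (d' * d') * c := by rw [hc.1 d']; group
      _ = c := by rw [hd'sq, inv_mul_cancel, one_mul]
  have hvc := h v (by rw [show (4 : ℕ) = 2 * 2 from rfl, pow_mul, pow_two, pow_two, hvv, hc.2])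
  have hdd : d * d' = d' * d := by
    calc d * d' = d * (d * v) := by rw [hv]; group
      _ = d * (v * d) := by rw [hvc d]
      _ = d' * d := by rw [hv]; group
  have hc1 : c = 1 := by
    rw [hdd] at hcd
    exact mul_left_cancel (a := d' * d) (by rw [← hcd, mul_one])
  exact ⟨hvc, by rw [hvv, hc1]⟩

theorem FourCentral.comm_mem {R : Type u} [Group R] [Finite R] (h : FourCentral R)
    (hR : IsPGroup 2 R) {d : R} (hd : d ^ 8 = 1) (y : R) : d⁻¹ * (y⁻¹ * d * y) ∈ omega R :=
  comm_facts _ R rfl hR h d y hd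

theorem FourCentral.pow_eight_of_mk {R : Type u} [Group R] {x : R}
    (hx : (QuotientGroup.mk' (omega R) x) ^ 4 = 1) : x ^ 8 = 1 := by
  rw [← map_pow] at hx
  have hm : x ^ 4 ∈ omega R := (QuotientGroup.eq_one_iff _).mp hx
  rw [show (8 : ℕ) = 4 + 4 from rfl, pow_add]
  exact hm.2

theorem FourCentral.quotient_omega {R : Type u} [Group R] [Finite R] (h : FourCentral R)
    (hR : IsPGroup 2 R) : FourCentral (R ⧸ omega R) := by
  intro q hq r
  obtain ⟨x, rfl⟩ := QuotientGroup.mk'_surjective (omega R) q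
  obtain ⟨y, rfl⟩ := QuotientGroup.mk'_surjective (omega R) r
  have h1 := h.comm_mem hR (FourCentral.pow_eight_of_mk hq) y
  rw [← map_mul, ← map_mul]
  refine ((QuotientGroup.eq (s := omega R)).mpr ?_).symm
  have e : (y * x)⁻¹ * (x * y) = x⁻¹ * (y⁻¹ * x * y) := by group
  rw [e]
  exact h1

theorem omega_ne_bot {R : Type u} [Group R] [Finite R] (h : FourCentral R) (hR : IsPGroup 2 R)
    (hne : Nontrivial R) : omega R ≠ ⊥ := by
  have : Fact (Nat.Prime 2) := ⟨Nat.prime_two⟩
  intro hb
  have h2 : 2 ∣ Nat.card R := by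
    obtain ⟨k, hk⟩ := hR.exists_card_eq
    have : k ≠ 0 := fun hk0 => by
      rw [hk0, pow_zero] at hk
      exact absurd hk (Finite.one_lt_card).ne'
    exact hk ▸ dvd_pow_self 2 this
  obtain ⟨x, hx⟩ := exists_prime_orderOf_dvd_card' (G := R) 2 h2
  have hx2 : x * x = 1 := by rw [← pow_two, ← hx, pow_orderOf_eq_one]
  have := h.mem_omega_of_sq hx2
  rw [hb, Subgroup.mem_bot] at this
  rw [this, orderOf_one] at hx
  omega

theorem card_quotient_omega_lt {R : Type u} [Group R] [Finite R] (h : FourCentral R)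
    (hR : IsPGroup 2 R) (hne : Nontrivial R) : Nat.card (R ⧸ omega R) < Nat.card R := by
  rw [Subgroup.card_eq_card_quotient_mul_card_subgroup (omega R)]
  exact lt_mul_of_one_lt_right Nat.card_pos
    ((Subgroup.one_lt_card_iff_ne_bot _).mpr (omega_ne_bot h hR hne))

theorem card_omega_quotient_le {R : Type u} [Group R] [Finite R] (h : FourCentral R) :
    Nat.card (omega (R ⧸ omega R)) ≤ Nat.card (omega R) := by
  let rep : omega (R ⧸ omega R) → R := fun q => (q : R ⧸ omega R).out
  have hrep : ∀ q, QuotientGroup.mk' (omega R) (rep q) = q := fun q => QuotientGroup.out_eq' _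
  have hsq : ∀ q, rep q * rep q ∈ omega R := fun q => by
    refine (QuotientGroup.eq_one_iff _).mp ?_
    show QuotientGroup.mk' (omega R) (rep q * rep q) = 1
    rw [map_mul, hrep]
    exact q.2.2
  refine Nat.card_le_card_of_injective (fun q => (⟨rep q * rep q, hsq q⟩ : omega R)) ?_
  intro p q hpq
  have hpq' : rep p * rep p = rep q * rep q := congrArg Subtype.val hpq
  have hp4 : (rep p) ^ 4 = 1 := by
    rw [show (4 : ℕ) = 2 * 2 from rfl, pow_mul, pow_two, pow_two]
    exact (hsq p).2
  apply Subtype.ext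
  rw [← hrep p, ← hrep q]
  refine (QuotientGroup.eq (s := omega R)).mpr (h.mem_omega_of_sq ?_)
  have hc := h _ hp4
  calc (rep p)⁻¹ * rep q * ((rep p)⁻¹ * rep q)
      = (rep p)⁻¹ * (rep q * (rep p)⁻¹) * rep q := by group
    _ = (rep p)⁻¹ * ((rep p)⁻¹ * rep q) * rep q := by
        rw [show rep q * (rep p)⁻¹ = (rep p)⁻¹ * rep q from
          (Commute.inv_left (hc (rep q))).eq.symm]
    _ = (rep p * rep p)⁻¹ * (rep q * rep q) := by group
    _ = 1 := by rw [hpq', inv_mul_cancel]

theorem card_le_aux : ∀ n : ℕ, ∀ (R : Type u) [Group R] [Finite R], Nat.card R = n →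
    IsPGroup 2 R → FourCentral R → ∀ N : Subgroup R, SqSub N ⊤ →
      Nat.card R ≤ Nat.card (omega R) * Nat.card N := by
  intro n
  induction n using Nat.strong_induction_on with
  | _ n ih =>
  intro R _ _ hn hR h N hN
  by_cases hle : omega R ≤ N
  · rcases subsingleton_or_nontrivial R with hs | hne
    · rw [Nat.card_unique]
      exact Nat.mul_pos Nat.card_pos Nat.card_pos
    have hlt := card_quotient_omega_lt h hR hne
    have hN' : SqSub (N.map (QuotientGroup.mk' (omega R))) ⊤ := by
      have := hN.map (QuotientGroup.mk' (omega R))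
      rwa [Subgroup.map_top_of_surjective _ (QuotientGroup.mk'_surjective _)] at this
    have h1 := ih _ (hn ▸ hlt) _ rfl (hR.to_quotient _) (h.quotient_omega hR) _ hN'
    have hcN := card_split (QuotientGroup.mk' (omega R)) N
    rw [QuotientGroup.ker_mk', inf_eq_right.mpr hle] at hcN
    calc Nat.card R = Nat.card (R ⧸ omega R) * Nat.card (omega R) :=
          Subgroup.card_eq_card_quotient_mul_card_subgroup _
      _ ≤ Nat.card (omega R) * Nat.card (N.map (QuotientGroup.mk' (omega R))) *
            Nat.card (omega R) := Nat.mul_le_mul_right _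
          (h1.trans (Nat.mul_le_mul_right _ (card_omega_quotient_le h)))
      _ = _ := by rw [hcN]; ring
  · obtain ⟨u, hu, huN⟩ := SetLike.not_le_iff_exists.mp hle
    obtain ⟨M, hNM, -, huM, hcard⟩ := hN.exists_complement huN
    rw [Subgroup.card_top] at hcard
    have hMlt : Nat.card M < n := hn ▸ Nat.lt_of_le_of_ne (Subgroup.card_le_card_group M)
      (fun he => huM ((Subgroup.card_eq_iff_eq_top M).mp he ▸ Subgroup.mem_top u))
    have hN' : SqSub (N.subgroupOf M) ⊤ := ⟨le_top, fun x _ => hN.2 (x : R) (Subgroup.mem_top _)⟩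
    have h1 := ih _ hMlt M rfl (hR.to_subgroup M) (h.subgroup M) _ hN'
    rw [Nat.card_congr (Subgroup.subgroupOfEquivOfLe hNM).toEquiv] at h1
    have hom : ∀ z : omega M, ((z : M) : R) ∈ omega R := fun z =>
      h.mem_omega_of_sq (congrArg Subtype.val z.2.2)
    have h2 : 2 * Nat.card (omega M) ≤ Nat.card (omega R) := by
      have hinj : Function.Injective fun p : Bool × omega M =>
          (⟨(if p.1 then u else 1) * ((p.2 : M) : R), mul_mem
            (by cases p.1 <;> simp [hu, one_mem]) (hom p.2)⟩ : omega R) := by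
        rintro ⟨b, z⟩ ⟨b', z'⟩ hzz
        have hzz' := congrArg Subtype.val hzz
        cases b <;> cases b' <;> simp only [Bool.false_eq_true, if_false, if_true, one_mul] at hzz'
        · rw [Subtype.ext (Subtype.ext hzz')]
        · exact absurd (eq_mul_inv_of_mul_eq hzz'.symm ▸ mul_mem (z : M).2 (inv_mem (z' : M).2)) huM
        · exact absurd (eq_mul_inv_of_mul_eq hzz' ▸ mul_mem (z' : M).2 (inv_mem (z : M).2)) huM
        · rw [Subtype.ext (Subtype.ext (mul_left_cancel hzz'))]
      have := Nat.card_le_card_of_injective _ hinj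
      rw [Nat.card_prod] at this
      simpa [Nat.card_eq_fintype_card (α := Bool)] using this
    calc Nat.card R ≤ 2 * (Nat.card (omega M) * Nat.card N) :=
          hcard.trans (Nat.mul_le_mul_left 2 h1)
      _ ≤ _ := by rw [← mul_assoc]; exact Nat.mul_le_mul_right _ h2

theorem FourCentral.card_le {R : Type u} [Group R] [Finite R] (h : FourCentral R)
    (hR : IsPGroup 2 R) {N H : Subgroup R} (hNH : SqSub N H) :
    Nat.card H ≤ Nat.card (omega R) * Nat.card N := by
  have h1 := card_le_aux _ H rfl (hR.to_subgroup H) (h.subgroup H) (N.subgroupOf H)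
    ⟨le_top, fun x _ => hNH.2 (x : R) x.2⟩
  rw [Nat.card_congr (Subgroup.subgroupOfEquivOfLe hNH.1).toEquiv] at h1
  refine h1.trans (Nat.mul_le_mul_right _ (Nat.card_le_card_of_injective
    (fun z : omega H => (⟨((z : H) : R), h.mem_omega_of_sq (congrArg Subtype.val z.2.2)⟩ : omega R))
    fun a b hab => ?_))
  exact Subtype.ext (Subtype.ext (congrArg Subtype.val hab :))

theorem sq_fix_aux : ∀ n : ℕ, ∀ (R : Type u) [Group R] [Finite R], Nat.card R = n →
    IsPGroup 2 R → FourCentral R → ∀ α : R ≃* R, (∀ x : R, x ^ 4 = 1 → α x = x) →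
      ∀ c : R, α (α (α c)) * α (α c) * α c * c = 1 → c ^ 4 = 1 := by
  intro n
  induction n using Nat.strong_induction_on with
  | _ n ih =>
  intro R _ _ hn hR h α hα c hc
  rcases subsingleton_or_nontrivial R with hs | hne
  · exact Subsingleton.elim _ _
  have hmap : (omega R).map (α : R →* R) = omega R := by
    refine le_antisymm ?_ fun x hx => ⟨x, hx, hα x (pow4_of_sq hx.2)⟩
    rintro _ ⟨x, hx, rfl⟩
    show α x ∈ omega R
    rwa [hα x (pow4_of_sq hx.2)]
  let π := QuotientGroup.mk' (omega R)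
  let β := QuotientGroup.congr (omega R) (omega R) α hmap
  have hβ : ∀ x, β (π x) = π (α x) := fun x => rfl
  have key : ∀ x : R, x ^ 8 = 1 → x⁻¹ * α x ∈ omega R := by
    intro x hx
    set v := x⁻¹ * α x with hv
    have hc1 := h.comm_mem hR hx (α x)
    set e := x⁻¹ * ((α x)⁻¹ * x * α x) with he
    have hsq : α x * α x = x * x := by
      rw [← map_mul]
      exact hα _ (by rw [← pow_two, ← pow_mul]; exact hx)
    have hxa : x * α x = α x * x * e := by rw [he]; group
    have e1 : α x * x⁻¹ = x⁻¹ * α x * e := by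
      calc α x * x⁻¹ = x⁻¹ * (x * α x) * x⁻¹ := by group
        _ = x⁻¹ * (α x * x * e) * x⁻¹ := by rw [hxa]
        _ = x⁻¹ * α x * (x * (e * x⁻¹)) := by group
        _ = x⁻¹ * α x * e := by rw [hc1.1 x⁻¹, mul_inv_cancel_left]
    have hvv : v * v = e := by
      calc v * v = x⁻¹ * (α x * x⁻¹) * α x := by rw [hv]; group
        _ = x⁻¹ * (x⁻¹ * α x * e) * α x := by rw [e1]
        _ = x⁻¹ * x⁻¹ * α x * (e * α x) := by group
        _ = (x * x)⁻¹ * (α x * α x) * e := by rw [hc1.1 (α x)]; group
        _ = e := by rw [hsq, inv_mul_cancel, one_mul]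
    have hvc := h v (by rw [show (4 : ℕ) = 2 * 2 from rfl, pow_mul, pow_two, pow_two, hvv, hc1.2])
    refine ⟨hvc, ?_⟩
    rw [hvv, he]
    have e2 : α x = x * v := by rw [hv]; group
    rw [e2, show (x * v)⁻¹ * x * (x * v) = v⁻¹ * (x * v) by group, ← hvc x]
    group
  have h1 : (π c) ^ 4 = 1 := by
    refine ih _ (hn ▸ card_quotient_omega_lt h hR hne) _ rfl (hR.to_quotient _)
      (h.quotient_omega hR) β ?_ (π c) ?_
    · intro q hq
      obtain ⟨x, rfl⟩ := QuotientGroup.mk'_surjective (omega R) q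
      rw [hβ]
      exact ((QuotientGroup.eq (s := omega R)).mpr (key x (FourCentral.pow_eight_of_mk hq))).symm
    · rw [hβ, hβ, hβ, ← map_mul, ← map_mul, ← map_mul, hc, map_one]
  have hvo := key c (FourCentral.pow_eight_of_mk h1)
  set v := c⁻¹ * α c with hv
  have e0 : α c = c * v := by rw [hv]; group
  have hαv : α v = v := hα v (pow4_of_sq hvo.2)
  have e1 : α (α c) = c := by
    rw [e0, map_mul, hαv, e0, mul_assoc, hvo.2, mul_one]
  rw [e1, e0] at hc
  have hpow : c ^ 4 = c * c * c * c := by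
    rw [pow_succ, pow_succ, pow_succ, pow_one]
  calc c ^ 4 = c * c * c * c * (v * v) := by rw [hvo.2, mul_one, hpow]
    _ = c * c * c * (c * v) * v := by group
    _ = c * c * c * (v * c) * v := by rw [hvo.1 c]
    _ = c * c * (c * v) * (c * v) := by group
    _ = c * c * (v * c) * (c * v) := by rw [hvo.1 c]
    _ = c * (c * v) * c * (c * v) := by group
    _ = c * (v * c) * c * (v * c) := by rw [hvo.1 c]
    _ = c * v * c * (c * v) * c := by group
    _ = 1 := hc

theorem FourCentral.mem_of_sq_fix {R : Type u} [Group R] [Finite R] (h : FourCentral R)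
    (hR : IsPGroup 2 R) (α : R ≃* R) (hα : ∀ x : R, x ^ 4 = 1 → α x = x) {c : R}
    (hc : α (α (α c)) * α (α c) * α c * c = 1) : c ^ 4 = 1 :=
  sq_fix_aux _ R rfl hR h α hα c hc

theorem cyclic_of_omega_le_two {R : Type u} [Group R] [Finite R] (h : FourCentral R)
    (hR : IsPGroup 2 R) (hO : Nat.card (omega R) ≤ 2) : ∃ c : R, Subgroup.zpowers c = ⊤ := by
  have : Fact (Nat.Prime 2) := ⟨Nat.prime_two⟩
  have hΦ : SqSub (frattini R) ⊤ :=
    ⟨le_top, fun x _ => by rw [← pow_two]; exact PGroup.pow_mem_frattini hR x⟩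
  have h1 := h.card_le hR hΦ
  rw [Subgroup.card_top] at h1
  by_cases htop : frattini R = ⊤
  · refine ⟨1, ?_⟩
    rw [Subgroup.zpowers_eq_closure]
    exact PGroup.closure_eq_top_of_sup_frattini (by rw [htop, sup_top_eq])
  obtain ⟨c, -, hc⟩ := SetLike.exists_of_lt (lt_top_iff_ne_top.mpr htop)
  refine ⟨c, ?_⟩
  have h2 := PGroup.card_sup_zpowers_frattini hR le_rfl hc
  have h3 : frattini R ⊔ Subgroup.zpowers c = ⊤ := by
    refine Subgroup.eq_top_of_le_card _ (h2 ▸ h1.trans ?_)
    rw [mul_comm (Nat.card (frattini R))]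
    exact Nat.mul_le_mul_right _ hO
  rw [Subgroup.zpowers_eq_closure]
  exact PGroup.closure_eq_top_of_sup_frattini (by rw [← Subgroup.zpowers_eq_closure, sup_comm]; exact h3)

theorem FourCentral.abelian_of_small {R : Type u} [Group R] [Finite R] (h : FourCentral R)
    (hR : IsPGroup 2 R)
    (hsmall : Nat.card (omega ((R ⧸ omega R) ⧸ omega (R ⧸ omega R))) ≤ 2) :
    ∀ a b : R, a * b = b * a := by
  have h1 := h.quotient_omega hR
  obtain ⟨q, hq⟩ := cyclic_of_omega_le_two (h1.quotient_omega (hR.to_quotient _))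
    ((hR.to_quotient _).to_quotient _) hsmall
  obtain ⟨q1, rfl⟩ := QuotientGroup.mk'_surjective _ q
  obtain ⟨c, rfl⟩ := QuotientGroup.mk'_surjective _ q1
  have dec : ∀ a : R, ∃ (i : ℤ) (w : R), (∀ y, w * y = y * w) ∧ a = c ^ i * w := by
    intro a
    obtain ⟨i, hi⟩ : QuotientGroup.mk' (omega (R ⧸ omega R)) (QuotientGroup.mk' (omega R) a) ∈
        Subgroup.zpowers _ := hq ▸ Subgroup.mem_top _
    simp only [← map_zpow] at hi
    have hm := (QuotientGroup.eq (s := omega (R ⧸ omega R))).mp hi
    rw [← map_inv, ← map_mul] at hm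
    refine ⟨i, (c ^ i)⁻¹ * a, h _ ?_, by group⟩
    have hs := hm.2
    rw [← map_mul] at hs
    have hs2 := ((QuotientGroup.eq_one_iff _).mp hs).2
    rw [show (4 : ℕ) = 2 * 2 from rfl, pow_mul, pow_two, pow_two]
    exact hs2
  intro a b
  obtain ⟨i, w, hw, rfl⟩ := dec a
  obtain ⟨j, x, hx, rfl⟩ := dec b
  calc c ^ i * w * (c ^ j * x) = c ^ i * (w * c ^ j) * x := by group
    _ = c ^ j * c ^ i * (w * x) := by rw [hw]; group
    _ = c ^ j * (c ^ i * x) * w := by rw [hw x]; group
    _ = c ^ j * (x * c ^ i) * w := by rw [hx (c ^ i)]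
    _ = c ^ j * x * (c ^ i * w) := by group

end Cfsg.Agent.SecRank
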