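import Cfsg.Agent.Lib.SecRank.FreeSixteen

/-!
# Sylow 2-subgroups with a large four-group product

`T = D × B` where `D` has a cyclic subgroup of index at most two and `B` is a four-group with
`C(b) ≤ T` for `b ∈ B ∖ 1`.

* `card_le_sixteen_of_product`: sections of exponent two have order at most 16;
* `sectional_of_sylow`: reduction of sectional rank to a Sylow subgroup.
-/

set_option autoImplicit false

namespace Cfsg.Agent.SecRank

universe u

variable {S : Type u} [Group S] [Finite S]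

/-- Exponent-two sections of a group with a cyclic subgroup of index two. -/
theorem card_le_four_of_cyclic_two (r : S)
    (hidx : ∀ a b : S, a ∉ Subgroup.zpowers r → b ∉ Subgroup.zpowers r →
      a * b ∈ Subgroup.zpowers r) {N H : Subgroup S} (h : SqSub N H) :
    Nat.card H ≤ 4 * Nat.card N := by
  classical
  set R := Subgroup.zpowers r
  have h1 : Nat.card H ≤ 2 * Nat.card ↥(H ⊓ R) := by
    by_cases hle : H ≤ R
    · rw [inf_eq_left.mpr hle]; omega
    obtain ⟨a, ha, haR⟩ := SetLike.not_le_iff_exists.mp hle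
    refine card_union_two a fun v hv => ?_
    by_cases hvR : v ∈ R
    · exact Or.inl ⟨hv, hvR⟩
    · exact Or.inr ⟨mul_mem ha hv, hidx a v haR hvR⟩
  have h2 : Nat.card ↥(H ⊓ R) ≤ 2 * Nat.card N := by
    let C := H ⊓ R
    have hcyc : IsCyclic C := Subgroup.isCyclic_of_le (inf_le_right : C ≤ R)
    letI : CommGroup C := IsCyclic.commGroup
    let sq : C →* C := powMonoidHom 2
    have hcs := card_split sq ⊤
    rw [Subgroup.card_top, top_inf_eq] at hcs
    have hker : Nat.card sq.ker ≤ 2 := by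
      letI := Fintype.ofFinite C
      rw [Nat.card_eq_fintype_card, Fintype.card_subtype]
      exact (Finset.card_le_card fun x hx => by simpa [sq, MonoidHom.mem_ker] using hx).trans
        (IsCyclic.card_pow_eq_one_le (α := C) two_pos)
    have himg : Nat.card ((⊤ : Subgroup C).map sq) ≤ Nat.card N := by
      refine Nat.card_le_card_of_injective (fun v => (⟨((v : C) : S), ?_⟩ : N)) fun a b hab => ?_
      · obtain ⟨w, -, hw⟩ := v.2
        rw [← hw]
        have := h.2 (w : S) w.2.1
        simpa [sq, pow_two] using this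
      · simp only [Subtype.mk.injEq] at hab
        exact Subtype.ext (Subtype.ext hab)
    calc Nat.card C = Nat.card ((⊤ : Subgroup C).map sq) * Nat.card sq.ker := hcs
      _ ≤ Nat.card N * 2 := Nat.mul_le_mul himg hker
      _ = 2 * Nat.card N := mul_comm _ _
  omega

/-- The main bound. -/
theorem card_le_sixteen_of_product (hS : IsPGroup 2 S) (T D B : Subgroup S) (hBT : B ≤ T)
    (hDT : D ≤ T) (hgen : ∀ t ∈ T, ∃ d ∈ D, ∃ b ∈ B, d * b = t) (hdisj : D ⊓ B = ⊥)
    (hcomm : ∀ a ∈ D, ∀ b ∈ B, a * b = b * a)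
    (hB4 : Nat.card B = 4) (hBsq : ∀ b ∈ B, b * b = 1)
    (r : S) (hr : r ∈ D) (hcyc : Nat.card D ≤ 2 * orderOf r)
    (habel : (∀ a ∈ D, ∀ b ∈ D, a * b = b * a) → Nat.card D = 4 ∧ ∀ a ∈ D, a * a = 1)
    (small : ∀ b ∈ B, b ≠ 1 → ∀ g : S, g * b = b * g → g ∈ T)
    {N H : Subgroup S} (h : SqSub N H) : Nat.card H ≤ 16 * Nat.card N := by
  classical
  have : Fact (Nat.Prime 2) := ⟨Nat.prime_two⟩
  have hBcomm : ∀ a ∈ B, ∀ b ∈ B, a * b = b * a := fun a ha b hb => comm_of_sq hBsq ha hb
  have hcentB : ∀ t ∈ T, ∀ b ∈ B, t * b = b * t := fun t ht b hb => by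
    obtain ⟨d, hd, b', hb', rfl⟩ := hgen t ht
    exact (Commute.mul_left (show Commute d b from hcomm d hd b hb)
      (show Commute b' b from hBcomm b' hb' b hb)).eq
  set R := Subgroup.zpowers r with hR
  have hRD : R ≤ D := Subgroup.zpowers_le.mpr hr
  have hidx : ∀ a ∈ D, ∀ b ∈ D, a ∉ R → b ∉ R → a * b ∈ R := by
    intro a ha b hb haR hbR
    have h2 := Subgroup.card_mul_index (R.subgroupOf D)
    rw [Nat.card_congr (Subgroup.subgroupOfEquivOfLe hRD).toEquiv, Nat.card_zpowers] at h2
    have h3 : (R.subgroupOf D).index ≤ 2 :=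
      Nat.le_of_mul_le_mul_left (h2.trans_le (hcyc.trans_eq (mul_comm _ _))) (orderOf_pos r)
    have h0 := Subgroup.index_ne_zero_of_finite (H := R.subgroupOf D)
    have h1 : (R.subgroupOf D).index ≠ 1 := fun h1 => haR (by
      have : (⟨a, ha⟩ : D) ∈ R.subgroupOf D :=
        Subgroup.index_eq_one.mp h1 ▸ Subgroup.mem_top _
      exact this)
    exact (Subgroup.mul_mem_iff_of_index_two (a := (⟨a, ha⟩ : D)) (b := ⟨b, hb⟩)
      (show (R.subgroupOf D).index = 2 by omega)).mpr (iff_of_false haR hbR)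
  by_cases hne : Subgroup.normalizer (T : Set S) ≤ T
  · -- `T` is everything
    have htop : T = ⊤ := by
      by_contra hne'
      exact (PGroup.lt_normalizer hS hne').not_ge hne
    have hall : ∀ g : S, g ∈ T := fun g => htop ▸ Subgroup.mem_top g
    have : B.Normal := ⟨fun b hb g => by
      rwa [hcentB g (hall g) b hb, mul_inv_cancel_right]⟩
    have h1 : Nat.card (H.map (QuotientGroup.mk' B)) ≤
        4 * Nat.card (N.map (QuotientGroup.mk' B)) := by
      refine card_le_four_of_cyclic_two (QuotientGroup.mk' B r) (fun a b ha hb => ?_) (h.map _)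
      have rep : ∀ q : S ⧸ B, ∃ d ∈ D, QuotientGroup.mk' B d = q := fun q => by
        obtain ⟨g, rfl⟩ := QuotientGroup.mk'_surjective B q
        obtain ⟨d, hd, b, hb, rfl⟩ := hgen g (hall g)
        refine ⟨d, hd, ?_⟩
        have hb' : QuotientGroup.mk' B b = 1 := (QuotientGroup.eq_one_iff b).mpr hb
        rw [map_mul, hb', mul_one]
      obtain ⟨a', ha', rfl⟩ := rep a
      obtain ⟨b', hb', rfl⟩ := rep b
      rw [← MonoidHom.map_zpowers] at ha hb ⊢
      rw [← map_mul]
      exact Subgroup.mem_map_of_mem _ (hidx a' ha' b' hb'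
        (fun hh => ha (Subgroup.mem_map_of_mem _ hh)) fun hh => hb (Subgroup.mem_map_of_mem _ hh))
    have h2 : Nat.card ↥(H ⊓ (QuotientGroup.mk' B).ker) ≤
        4 * Nat.card ↥(N ⊓ (QuotientGroup.mk' B).ker) := by
      rw [QuotientGroup.ker_mk']
      calc Nat.card ↥(H ⊓ B) ≤ 4 := hB4 ▸ Subgroup.card_le_of_le inf_le_right
        _ ≤ _ := Nat.le_mul_of_pos_right 4 Nat.card_pos
    simpa using SqSub.card_le_of_split _ h1 h2
  by_cases hab : ∀ a ∈ D, ∀ b ∈ D, a * b = b * a
  · -- `T` is elementary abelian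
    obtain ⟨hD4, hDsq⟩ := habel hab
    refine Free.card_le_sixteen_mul ⟨T, B, hS, ?_, ?_, hBT, hB4, small⟩ h
    · intro t ht
      obtain ⟨d, hd, b, hb, rfl⟩ := hgen t ht
      rw [(show Commute b d from (hcomm d hd b hb).symm).mul_mul_mul_comm d b, hDsq d hd,
        hBsq b hb, one_mul]
    · have hbij : Function.Bijective fun p : D × B =>
          (⟨(p.1 : S) * p.2, mul_mem (hDT p.1.2) (hBT p.2.2)⟩ : T) := by
        refine ⟨fun p q hpq => Subgroup.mul_injective_of_disjoint (disjoint_iff.mpr hdisj)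
          (congrArg Subtype.val hpq), fun t => ?_⟩
        obtain ⟨d, hd, b, hb, he⟩ := hgen t t.2
        exact ⟨(⟨d, hd⟩, ⟨b, hb⟩), Subtype.ext he⟩
      rw [← Nat.card_eq_of_bijective _ hbij, Nat.card_prod, hD4, hB4]
  -- an element outside `T` fixes some nontrivial element of `B`
  exfalso
  have hTn : (T.subgroupOf (Subgroup.normalizer (T : Set S))).Normal :=
    Subgroup.normal_in_normalizer
  obtain ⟨yN, -, hyT, hy2, -⟩ := exists_central_step (hS.to_subgroup (Subgroup.normalizer (T : Set S)))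
    (N := T.subgroupOf (Subgroup.normalizer (T : Set S))) (M := ⊤) le_top
    (fun hle => hne fun v hv => hle
      (show (⟨v, hv⟩ : Subgroup.normalizer (T : Set S)) ∈ (⊤ : Subgroup _) from Subgroup.mem_top _))
  set y := (yN : S) with hy
  have hyT' : y ∉ T := hyT
  have hy2' : y * y ∈ T := hy2
  have hconj : ∀ t ∈ T, y⁻¹ * t * y ∈ T := fun t ht => by
    have := (Subgroup.mem_normalizer_iff.mp (inv_mem yN.2) t).mp ht
    simpa using this
  have hconj' : ∀ t ∈ T, y * t * y⁻¹ ∈ T := fun t ht =>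
    (Subgroup.mem_normalizer_iff.mp yN.2 t).mp ht
  let W : Subgroup S :=
    { carrier := {v | v ∈ T ∧ v * v = 1 ∧ ∀ t ∈ T, v * t = t * v}
      one_mem' := ⟨one_mem _, one_mul 1, fun t _ => by rw [one_mul, mul_one]⟩
      mul_mem' := by
        rintro a b ⟨ha, ha2, hac⟩ ⟨hb, hb2, hbc⟩
        refine ⟨mul_mem ha hb, ?_, fun t ht =>
          (Commute.mul_left (show Commute a t from hac t ht) (show Commute b t from hbc t ht)).eq⟩
        rw [(show Commute b a from hbc a ha).mul_mul_mul_comm, ha2, hb2, one_mul]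
      inv_mem' := by
        rintro a ⟨ha, ha2, hac⟩
        rw [inv_eq_of_mul_eq_one_right ha2]
        exact ⟨ha, ha2, hac⟩ }
  have hBW : B ≤ W := fun b hb =>
    ⟨hBT hb, hBsq b hb, fun t ht => (hcentB t ht b hb).symm⟩
  have hWcomm : ∀ a ∈ W, ∀ b ∈ W, a * b = b * a := fun a ha b hb => ha.2.2 b hb.1
  have hWy : ∀ w ∈ W, y⁻¹ * w * y ∈ W := fun w hw => by
    refine ⟨hconj w hw.1, ?_, fun t ht => ?_⟩
    · rw [show y⁻¹ * w * y * (y⁻¹ * w * y) = y⁻¹ * (w * w) * y by group, hw.2.1]; group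
    · calc y⁻¹ * w * y * t = y⁻¹ * (w * (y * t * y⁻¹)) * y := by group
        _ = y⁻¹ * ((y * t * y⁻¹) * w) * y := by rw [hw.2.2 _ (hconj' t ht)]
        _ = t * (y⁻¹ * w * y) := by group
  -- `|W| ≤ 8`
  have hW8 : Nat.card W ≤ 8 := by
    have hWD : W ⊓ D ≤ R := by
      rintro d ⟨hdW, hdD⟩
      by_contra hdR
      apply hab
      have key : ∀ a ∈ D, ∀ b ∈ D, a ∈ R → a * b = b * a := by
        intro a ha b hb haR
        by_cases hbR : b ∈ R
        · obtain ⟨i, rfl⟩ := haR
          obtain ⟨j, rfl⟩ := hbR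
          exact (Commute.refl r).zpow_zpow i j
        · have hdb := hidx d hdD b hb hdR hbR
          have hdinv : d⁻¹ = d := inv_eq_of_mul_eq_one_right hdW.2.1
          have e : b = d * (d * b) := by rw [← mul_assoc, hdW.2.1, one_mul]
          obtain ⟨i, rfl⟩ := haR
          obtain ⟨j, hj⟩ := hdb
          change r ^ j = d * b at hj
          rw [e, ← hj]
          exact (Commute.mul_right (show Commute (r ^ i) d from (hdW.2.2 _ (hDT ha)).symm)
            ((Commute.refl r).zpow_zpow i j)).eq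
      intro a ha b hb
      by_cases haR : a ∈ R
      · exact key a ha b hb haR
      · have hda := hidx d hdD a ha hdR haR
        have e : a = d * (d * a) := by rw [← mul_assoc, hdW.2.1, one_mul]
        rw [e]
        exact (Commute.mul_left (show Commute d b from hdW.2.2 _ (hDT hb))
          (show Commute (d * a) b from key _ (mul_mem hdD ha) b hb hda)).eq
    have h2 : Nat.card ↥(W ⊓ D) ≤ 2 := by
      have hcy : IsCyclic ↥(W ⊓ D) := Subgroup.isCyclic_of_le hWD
      letI := Fintype.ofFinite ↥(W ⊓ D)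
      rw [Nat.card_eq_fintype_card, ← Finset.card_univ]
      refine (Finset.card_le_card fun v _ => Finset.mem_filter.mpr ⟨Finset.mem_univ v, ?_⟩).trans
        (IsCyclic.card_pow_eq_one_le (α := ↥(W ⊓ D)) two_pos)
      exact Subtype.ext (by rw [pow_two]; exact v.2.1.2.1)
    refine le_trans ?_ (Nat.mul_le_mul h2 hB4.le)
    rw [← Nat.card_prod]
    refine Nat.card_le_card_of_surjective (fun p : ↥(W ⊓ D) × B =>
      (⟨(p.1 : S) * p.2, mul_mem p.1.2.1 (hBW p.2.2)⟩ : W)) fun w => ?_
    obtain ⟨d, hd, b, hb, he⟩ := hgen w w.2.1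
    have hdW : d ∈ W := by
      have := mul_mem w.2 (inv_mem (hBW hb))
      rwa [← he, mul_inv_cancel_right] at this
    exact ⟨(⟨d, hdW, hd⟩, ⟨b, hb⟩), Subtype.ext he⟩
  let f : W →* S :=
    { toFun := fun w => (w : S) * (y⁻¹ * w * y)
      map_one' := by simp
      map_mul' := fun a b => by
        show (a : S) * b * (y⁻¹ * (a * b) * y) = _
        rw [show y⁻¹ * ((a : S) * b) * y = (y⁻¹ * a * y) * (y⁻¹ * b * y) by group]
        exact Commute.mul_mul_mul_comm (hWcomm _ b.2 _ (hWy _ a.2)) _ _ }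
  let F := W ⊓ Subgroup.centralizer ({y} : Set S)
  have hrange : f.range ≤ F := by
    rintro _ ⟨w, rfl⟩
    refine ⟨mul_mem w.2 (hWy _ w.2), Subgroup.mem_centralizer_singleton_iff.mpr ?_⟩
    show (w : S) * (y⁻¹ * w * y) * y = y * ((w : S) * (y⁻¹ * w * y))
    have h2 : y⁻¹ * (y⁻¹ * (w : S) * y) * y = w := by
      rw [show y⁻¹ * (y⁻¹ * (w : S) * y) * y = (y * y)⁻¹ * w * (y * y) by group, mul_assoc,
        w.2.2.2 _ hy2', inv_mul_cancel_left]
    calc (w : S) * (y⁻¹ * w * y) * y = y * ((y⁻¹ * w * y) * (y⁻¹ * (y⁻¹ * w * y) * y)) := by group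
      _ = y * ((w : S) * (y⁻¹ * w * y)) := by rw [h2, hWcomm _ (hWy _ w.2) _ w.2]
  have hker : Nat.card f.ker ≤ Nat.card F := by
    refine Nat.card_le_card_of_injective (fun v : f.ker => (⟨((v : W) : S), (v : W).2, ?_⟩ : F))
      fun a b hab => Subtype.ext (Subtype.ext (congrArg Subtype.val hab :))
    refine Subgroup.mem_centralizer_singleton_iff.mpr ?_
    have hv : ((v : W) : S) * (y⁻¹ * (v : W) * y) = 1 := v.2
    have e1 := eq_inv_of_mul_eq_one_right hv
    rw [inv_eq_of_mul_eq_one_right (v : W).2.2.1] at e1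
    calc ((v : W) : S) * y = y * (y⁻¹ * (v : W) * y) := by group
      _ = y * (v : W) := by rw [e1]
  have hsplit := card_split f ⊤
  rw [Subgroup.card_top, top_inf_eq, ← MonoidHom.range_eq_map] at hsplit
  have hWle : Nat.card W ≤ Nat.card F * Nat.card F :=
    hsplit.le.trans (Nat.mul_le_mul (Subgroup.card_le_of_le hrange) hker)
  have hB_F : Disjoint B F := by
    rw [disjoint_iff, eq_bot_iff]
    intro b hb
    by_contra hb1
    exact hyT' (small b hb.1 hb1 y (Subgroup.mem_centralizer_singleton_iff.mp hb.2.2).symm)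
  have hinj : Nat.card B * Nat.card F ≤ Nat.card W := by
    rw [← Nat.card_prod]
    exact Nat.card_le_card_of_injective
      (fun p : B × F => (⟨(p.1 : S) * p.2, mul_mem (hBW p.1.2) p.2.2.1⟩ : W))
      fun p q hpq => Subgroup.mul_injective_of_disjoint hB_F (congrArg Subtype.val hpq)
  rw [hB4] at hinj
  have hF2 : Nat.card F ≤ 2 := by omega
  have := Nat.mul_le_mul hF2 hF2
  have hBc := Subgroup.card_le_of_le hBW
  rw [hB4] at hBc
  -- so `W = B`, which `y` fixes elementwise up to order two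
  have hW4 : Nat.card W = 4 := by omega
  have hWB : B = W := Subgroup.eq_of_le_of_card_ge hBW (by omega)
  have hFbot : F = ⊥ := by
    rw [eq_bot_iff]
    intro v hv
    exact Subgroup.mem_bot.mpr ((Subgroup.disjoint_def.mp hB_F) (hWB ▸ hv.1) hv)
  rw [hFbot, Subgroup.card_bot] at hWle
  omega

omit [Finite S] in
/-- Sectional rank can be computed in a Sylow 2-subgroup. -/
theorem sectional_of_sylow {G : Type u} [Group G] [Finite G] (P : Sylow 2 G) {k : ℕ}
    (hP : ∀ N H : Subgroup P, SqSub N H → Nat.card H ≤ 2 ^ k * Nat.card N) :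
    Cfsg.SectionalPRankLE 2 k G := by
  classical
  have : Fact (Nat.Prime 2) := ⟨Nat.prime_two⟩
  refine sectional_of_sq fun N H h => ?_
  let Q0 : Sylow 2 H := default
  have : (N.subgroupOf H).Normal := ⟨fun n hn g => by
    have := h.conj_mem (inv_mem g.2) (show (n : G) ∈ N from hn)
    rw [inv_inv] at this
    exact this⟩
  let π := QuotientGroup.mk' (N.subgroupOf H)
  have hq : IsPGroup 2 (H ⧸ N.subgroupOf H) := fun q => by
    obtain ⟨g, rfl⟩ := QuotientGroup.mk'_surjective (N.subgroupOf H) q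
    refine ⟨1, ?_⟩
    rw [pow_one, pow_two, ← map_mul]
    exact (QuotientGroup.eq_one_iff _).mpr (h.2 _ g.2)
  have hsur : (Q0 : Subgroup H).map π = ⊤ := by
    refine Subgroup.index_eq_one.mp ?_
    have h1 : ((Q0 : Subgroup H).map π).index ∣ (Q0 : Subgroup H).index :=
      Subgroup.index_map_dvd _ (QuotientGroup.mk'_surjective _)
    obtain ⟨m, hm⟩ := hq.index ((Q0 : Subgroup H).map π)
    rcases Nat.eq_zero_or_pos m with h0 | h0
    · rw [hm, h0, pow_zero]
    · exact absurd ((dvd_pow_self 2 h0.ne').trans (hm ▸ h1)) Q0.not_dvd_index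
  have hcardH : Nat.card H = Nat.card (H ⧸ N.subgroupOf H) * Nat.card N := by
    rw [Subgroup.card_eq_card_quotient_mul_card_subgroup (N.subgroupOf H),
      Nat.card_congr (Subgroup.subgroupOfEquivOfLe h.1).toEquiv]
  have hQ : Nat.card Q0 = Nat.card (H ⧸ N.subgroupOf H) *
      Nat.card ↥((Q0 : Subgroup H) ⊓ N.subgroupOf H) := by
    rw [card_split π (Q0 : Subgroup H), hsur, Subgroup.card_top, QuotientGroup.ker_mk']
  -- move the Sylow subgroup of `H` into `P`
  let H1 : Subgroup G := (Q0 : Subgroup H).map H.subtype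
  obtain ⟨R, hR⟩ := (Q0.2.map H.subtype).exists_le_sylow
  obtain ⟨g, hg⟩ := MulAction.exists_smul_eq G R P
  let c : G →* G := (MulAut.conj g).toMonoidHom
  have hcP : H1.map c ≤ (P : Subgroup G) := by
    rw [← hg]
    exact Subgroup.map_mono hR
  let N1 : Subgroup G := ((Q0 : Subgroup H) ⊓ N.subgroupOf H).map H.subtype
  have hNH : N1 ≤ H1 := Subgroup.map_mono inf_le_left
  have hsq : SqSub (N1.map c) (H1.map c) := by
    refine SqSub.map (SqSub.map ?_ H.subtype) c
    exact ⟨inf_le_left, fun x hx => ⟨mul_mem hx hx, h.2 _ x.2⟩⟩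
  have hb := hP _ _ (hsq.subgroupOf (K := (P : Subgroup G)))
  rw [Nat.card_congr (Subgroup.subgroupOfEquivOfLe hcP).toEquiv,
    Nat.card_congr (Subgroup.subgroupOfEquivOfLe ((Subgroup.map_mono hNH).trans hcP)).toEquiv,
    Subgroup.card_map_of_injective (f := c) (K := H1) (MulAut.conj g).injective,
    Subgroup.card_map_of_injective (f := c) (K := N1) (MulAut.conj g).injective,
    Subgroup.card_map_of_injective H.subtype_injective,
    Subgroup.card_map_of_injective H.subtype_injective, hQ] at hb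
  rw [hcardH]
  exact Nat.mul_le_mul_right _ (Nat.le_of_mul_le_mul_right hb Nat.card_pos)

end Cfsg.Agent.SecRank
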