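import Cfsg.Agent.Lib.SecRank.SelfCentralizingEight

/-!
# A four-group inside an elementary abelian group of order 16 with small centralizers

`T` is elementary abelian of order 16, `B ≤ T` is a four-group and `C(b) ≤ T` for `b ∈ B ∖ 1`.
Then either some elementary abelian subgroup of order eight is self-centralizing, or the normalizer
`R` of `T` has order 64 and the whole group order at most 128.

* `Free.card_le_sixteen_mul`: sections of exponent two have order at most 16.
-/

set_option autoImplicit false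

namespace Cfsg.Agent.SecRank

open scoped Pointwise

universe u

variable {S : Type u} [Group S]

/-- The hypotheses. -/
structure Free (S : Type u) [Group S] where
  T : Subgroup S
  B : Subgroup S
  pGroup : IsPGroup 2 S
  exp : ∀ t ∈ T, t * t = 1
  card_T : Nat.card T = 16
  le : B ≤ T
  card_B : Nat.card B = 4
  small : ∀ b ∈ B, b ≠ 1 → ∀ g : S, g * b = b * g → g ∈ T

namespace Free

variable (F : Free S)

/-- Elements normalizing `T`. -/
def Nor : Subgroup S := Subgroup.normalizer (F.T : Set S)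

/-- The fixed points of `g` on `T`. -/
def K (g : S) : Subgroup S := F.T ⊓ Subgroup.centralizer ({g} : Set S)

theorem T_le_Nor : F.T ≤ F.Nor := Subgroup.le_normalizer

theorem conj_mem {g : S} (hg : g ∈ F.Nor) {t : S} (ht : t ∈ F.T) : g⁻¹ * t * g ∈ F.T := by
  have := (Subgroup.mem_normalizer_iff.mp (inv_mem hg) t).mp ht
  simpa using this

theorem commT {s t : S} (hs : s ∈ F.T) (ht : t ∈ F.T) : s * t = t * s := comm_of_sq F.exp hs ht

theorem mem_K {g t : S} : t ∈ F.K g ↔ t ∈ F.T ∧ t * g = g * t := by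
  show t ∈ F.T ∧ t ∈ Subgroup.centralizer ({g} : Set S) ↔ _
  rw [Subgroup.mem_centralizer_singleton_iff]

theorem inv_eq {t : S} (ht : t ∈ F.T) : t⁻¹ = t := inv_eq_of_mul_eq_one_right (F.exp t ht)

theorem B_meets {g v : S} (hg : g ∉ F.T) (hvB : v ∈ F.B) (hvg : v ∈ F.K g) : v = 1 := by
  by_contra hv1
  exact hg (F.small v hvB hv1 g (F.mem_K.mp hvg).2.symm)

/-- Two subgroups of `T` with large orders meet. -/
theorem exists_common [Finite S] {X Y : Subgroup S} (hX : X ≤ F.T) (hY : Y ≤ F.T)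
    (hbig : 16 < Nat.card X * Nat.card Y) : ∃ v, v ≠ 1 ∧ v ∈ X ∧ v ∈ Y := by
  by_contra! hne
  have hinj : Function.Injective fun p : X × Y =>
      (⟨(p.1 : S) * p.2, mul_mem (hX p.1.2) (hY p.2.2)⟩ : F.T) := by
    rintro ⟨a, b⟩ ⟨c, d⟩ h
    have h' : (a : S) * b = c * d := congrArg Subtype.val h
    have e : (c : S)⁻¹ * a = d * (b : S)⁻¹ := by
      calc (c : S)⁻¹ * a = (c : S)⁻¹ * (a * b) * (b : S)⁻¹ := by group
        _ = d * (b : S)⁻¹ := by rw [h']; group
    have hv : (c : S)⁻¹ * a = 1 := by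
      by_contra hv1
      exact hne _ hv1 (mul_mem (inv_mem c.2) a.2) (e ▸ mul_mem d.2 (inv_mem b.2))
    have ha : (a : S) = c := (inv_mul_eq_one.mp hv).symm
    rw [ha] at h'
    rw [Subtype.ext ha, Subtype.ext (mul_left_cancel h')]
  have := Nat.card_le_card_of_injective _ hinj
  rw [Nat.card_prod, F.card_T] at this
  omega

/-- Commutation with an element normalizing `T`, as a homomorphism on `T`. -/
def comHom {g : S} (hg : g ∈ F.Nor) : F.T →* S where
  toFun t := (t : S)⁻¹ * (g⁻¹ * t * g)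
  map_one' := by simp
  map_mul' s t := by
    show ((s : S) * t)⁻¹ * (g⁻¹ * (s * t) * g) = _
    calc ((s : S) * t)⁻¹ * (g⁻¹ * (s * t) * g)
        = (t : S)⁻¹ * ((s : S)⁻¹ * (g⁻¹ * s * g)) * (g⁻¹ * t * g) := by group
      _ = ((s : S)⁻¹ * (g⁻¹ * s * g)) * ((t : S)⁻¹ * (g⁻¹ * t * g)) := by
          rw [F.commT (inv_mem t.2) (mul_mem (inv_mem s.2) (F.conj_mem hg s.2))]; group

variable [Finite S]

theorem card_K_le {g : S} (hg : g ∉ F.T) : Nat.card (F.K g) ≤ 4 := by
  by_contra hlt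
  obtain ⟨v, hv1, hvB, hvK⟩ := F.exists_common (Y := F.K g) F.le inf_le_left
    (by rw [F.card_B]; omega)
  exact hv1 (F.B_meets hg hvB hvK)

theorem mem_K_comm {g : S} (hg : g ∈ F.Nor) (hg2 : g * g ∈ F.T) {t : S} (ht : t ∈ F.T) :
    t⁻¹ * (g⁻¹ * t * g) ∈ F.K g := by
  have hu : g⁻¹ * t * g ∈ F.T := F.conj_mem hg ht
  refine F.mem_K.mpr ⟨mul_mem (inv_mem ht) hu, ?_⟩
  have h2 : g⁻¹ * (g⁻¹ * t * g) * g = t := by
    rw [show g⁻¹ * (g⁻¹ * t * g) * g = (g * g)⁻¹ * t * (g * g) by group,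
      F.commT (inv_mem hg2) ht, inv_mul_cancel_right]
  rw [F.inv_eq ht]
  calc t * (g⁻¹ * t * g) * g
      = g * ((g⁻¹ * t * g) * (g⁻¹ * (g⁻¹ * t * g) * g)) := by group
    _ = g * (t * (g⁻¹ * t * g)) := by rw [h2, F.commT hu ht]

/-- An element outside `T` with square in `T` fixes exactly a four-group and moves onto it. -/
theorem card_K {g : S} (hg : g ∈ F.Nor) (hg2 : g * g ∈ F.T) (hgT : g ∉ F.T) :
    Nat.card (F.K g) = 4 ∧ (F.comHom hg).range = F.K g := by
  have h1 := F.card_K_le hgT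
  have hr : (F.comHom hg).range ≤ F.K g := by
    rintro _ ⟨t, rfl⟩
    exact F.mem_K_comm hg hg2 t.2
  have h2 := card_split (F.comHom hg) ⊤
  rw [Subgroup.card_top, top_inf_eq, ← MonoidHom.range_eq_map, F.card_T] at h2
  have h3 : Nat.card (F.comHom hg).ker ≤ Nat.card (F.K g) := by
    refine Nat.card_le_card_of_injective (fun t : (F.comHom hg).ker =>
      (⟨((t : F.T) : S), F.mem_K.mpr ⟨(t : F.T).2, ?_⟩⟩ : F.K g)) fun a b hab => ?_
    · have hx : ((t : F.T) : S)⁻¹ * (g⁻¹ * (t : F.T) * g) = 1 := t.2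
      have e := inv_mul_eq_one.mp hx
      calc ((t : F.T) : S) * g = g * (g⁻¹ * (t : F.T) * g) := by group
        _ = g * (t : F.T) := by rw [← e]
    · exact Subtype.ext (Subtype.ext (congrArg Subtype.val hab :))
  have h4 := Subgroup.card_le_of_le hr
  have h5 : 4 ≤ Nat.card (F.K g) := by
    by_contra hlt
    have := Nat.mul_le_mul (h4.trans (show Nat.card (F.K g) ≤ 3 by omega))
      (h3.trans (show Nat.card (F.K g) ≤ 3 by omega))
    omega
  refine ⟨le_antisymm h1 h5, Subgroup.eq_of_le_of_card_ge hr ?_⟩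
  by_contra hlt
  have := Nat.mul_le_mul (show Nat.card (F.comHom hg).range ≤ 3 by omega) (h3.trans h1)
  omega

theorem exists_move {g : S} (hg : g ∈ F.Nor) (hg2 : g * g ∈ F.T) (hgT : g ∉ F.T) {k : S}
    (hk : k ∈ F.K g) : ∃ t ∈ F.T, t⁻¹ * (g⁻¹ * t * g) = k := by
  obtain ⟨t, ht⟩ : k ∈ (F.comHom hg).range := (F.card_K hg hg2 hgT).2.symm ▸ hk
  exact ⟨t, t.2, ht⟩

/-- The data of the remaining case: `y`, `c` induce a four-group on `T`. -/
structure Two (F : Free S) where
  y : S
  c : S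
  yN : y ∈ F.Nor
  y2 : y * y = 1
  yT : y ∉ F.T
  yc : ∀ g ∈ F.Nor, y⁻¹ * (g⁻¹ * y * g) ∈ F.T
  cN : c ∈ F.Nor
  cc : c * y = y * c
  c2 : c * c ∈ F.K y
  cT : c ∉ F.T
  cyT : c * y ∉ F.T
  cK : ∀ k ∈ F.K y, c * k = k * c

/-- Either some self-centralizing subgroup of order eight exists, or we are in the remaining case. -/
theorem selfCentralizing_or_two (hne : ¬ F.Nor ≤ F.T) :
    (∃ A : Subgroup S, (∀ x ∈ A, x * x = 1) ∧ Nat.card A = 8 ∧
      Subgroup.centralizer (A : Set S) = A) ∨ Nonempty F.Two := by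
  classical
  have : Fact (Nat.Prime 2) := ⟨Nat.prime_two⟩
  have hN1 : (F.T.subgroupOf F.Nor).Normal := Subgroup.normal_in_normalizer
  obtain ⟨yN, -, hyT, hy2, hyc⟩ := exists_central_step (F.pGroup.to_subgroup F.Nor)
    (N := F.T.subgroupOf F.Nor) (M := ⊤) le_top
    (fun h => hne fun v hv => h (show (⟨v, hv⟩ : F.Nor) ∈ (⊤ : Subgroup F.Nor) from trivial))
  set y0 := (yN : S) with hy0
  have hy0T : y0 ∉ F.T := hyT
  have hy02 : y0 * y0 ∈ F.T := hy2
  have hy0K : y0 * y0 ∈ F.K y0 := F.mem_K.mpr ⟨hy02, mul_assoc _ _ _⟩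
  obtain ⟨t, ht, hty⟩ := F.exists_move yN.2 hy02 hy0T hy0K
  set y := y0 * t with hy
  have hy1 : y * y = 1 := by
    rw [F.inv_eq ht] at hty
    calc y * y = y0 * y0 * ((y0⁻¹ * t * y0) * t) := by rw [hy]; group
      _ = y0 * y0 * (t * (y0⁻¹ * t * y0)) := by rw [F.commT (F.conj_mem yN.2 ht) ht]
      _ = 1 := by rw [hty, F.exp _ hy02]
  have hyN : y ∈ F.Nor := mul_mem yN.2 (F.T_le_Nor ht)
  have hyT' : y ∉ F.T := fun h => hy0T (by
    have := mul_mem h (inv_mem ht); rwa [hy, mul_inv_cancel_right] at this)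
  have hycomm : ∀ g ∈ F.Nor, y⁻¹ * (g⁻¹ * y * g) ∈ F.T := fun g hg => by
    have h1 : y0⁻¹ * (g⁻¹ * y0 * g) ∈ F.T := hyc ⟨g, hg⟩
    have e : y⁻¹ * (g⁻¹ * y * g) = t⁻¹ * (y0⁻¹ * (g⁻¹ * y0 * g)) * (g⁻¹ * t * g) := by
      rw [hy]; group
    rw [e]
    exact mul_mem (mul_mem (inv_mem ht) h1) (F.conj_mem hg ht)
  have hyy : y * y ∈ F.T := hy1 ▸ one_mem _
  obtain ⟨hK4, -⟩ := F.card_K hyN hyy hyT'
  have hyinv : y⁻¹ = y := inv_eq_of_mul_eq_one_right hy1
  let A : Subgroup S :=
    { carrier := {v | v ∈ F.K y ∨ y * v ∈ F.K y}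
      one_mem' := Or.inl (one_mem _)
      mul_mem' := by
        rintro p q (hp | hp) (hq | hq)
        · exact Or.inl (mul_mem hp hq)
        · right
          rw [← mul_assoc, ← (F.mem_K.mp hp).2, mul_assoc]
          exact mul_mem hp hq
        · right; rw [← mul_assoc]; exact mul_mem hp hq
        · left
          have e : p * q = (y * p) * (y * q) := by
            calc p * q = (y * y) * p * q := by rw [hy1, one_mul]
              _ = y * (y * p) * q := by group
              _ = (y * p) * y * q := by rw [(F.mem_K.mp hp).2]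
              _ = (y * p) * (y * q) := by group
          rw [e]; exact mul_mem hp hq
      inv_mem' := by
        rintro p (hp | hp)
        · exact Or.inl (inv_mem hp)
        · right
          have e : y * p⁻¹ = (y * p)⁻¹ := by
            have hpy : p * y = y * p := by
              calc p * y = y * ((y * p) * y) := by
                    rw [show y * ((y * p) * y) = y * y * (p * y) by group, hy1, one_mul]
                _ = y * (y * (y * p)) := by rw [(F.mem_K.mp hp).2]
                _ = y * p := by rw [← mul_assoc y y, hy1, one_mul]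
            calc y * p⁻¹ = (p * y)⁻¹ := by rw [mul_inv_rev, hyinv]
              _ = (y * p)⁻¹ := by rw [hpy]
          rw [e]; exact inv_mem hp }
  have hKA : F.K y ≤ A := fun v hv => Or.inl hv
  have hyA : y ∈ A := Or.inr (hy1 ▸ one_mem _)
  by_cases hone : ∀ c ∈ F.Nor, c * y = y * c → (∀ k ∈ F.K y, c * k = k * c) → c ∈ A
  · left
    have hAexp : ∀ v ∈ A, v * v = 1 := by
      rintro v (hv | hv)
      · exact F.exp v hv.1
      · have e : v = y * (y * v) := by rw [← mul_assoc, hy1, one_mul]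
        rw [e]
        calc y * (y * v) * (y * (y * v)) = y * ((y * v) * y) * (y * v) := by group
          _ = (y * y) * ((y * v) * (y * v)) := by rw [(F.mem_K.mp hv).2]; group
          _ = 1 := by rw [hy1, F.exp _ hv.1, one_mul]
    refine ⟨A, hAexp, ?_, ?_⟩
    · have h1 := card_union_two (H := A) (K := F.K y) y fun v hv => hv
      have hlt : F.K y < A := lt_of_le_of_ne hKA fun he =>
        hyT' (F.mem_K.mp (he.symm ▸ hyA : y ∈ F.K y)).1
      have h2 := PGroup.mul_card_le_card F.pGroup hlt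
      omega
    refine le_antisymm ?_ fun v hv => Subgroup.mem_centralizer_iff.mpr fun w hw =>
      comm_of_sq hAexp hw hv
    by_contra hlt
    let C := Subgroup.centralizer (A : Set S)
    have hTA : ∀ s ∈ F.T, ∀ w ∈ A, s⁻¹ * w * s ∈ A := by
      rintro s hs w (hw | hw)
      · rw [mul_assoc, F.commT hw.1 hs, inv_mul_cancel_left]
        exact Or.inl hw
      · right
        have e : y * (s⁻¹ * w * s) = (y * s⁻¹ * y) * ((y * w) * s) := by
          rw [show y * s⁻¹ * y * (y * w * s) = y * s⁻¹ * (y * y) * (w * s) by group, hy1]; group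
        have h1 := F.mem_K_comm hyN hyy hs
        rw [hyinv, F.inv_eq hs] at h1
        rw [e, F.commT hw.1 hs, F.inv_eq hs, ← mul_assoc, F.commT
          (by simpa [hyinv] using F.conj_mem hyN hs) hs]
        exact mul_mem h1 hw
    have hTC : ∀ s ∈ F.T, ∀ c ∈ C, s * c * s⁻¹ ∈ C := fun s hs c hc =>
      Subgroup.mem_centralizer_iff.mpr fun w hw => by
        have h1 := Subgroup.mem_centralizer_iff.mp hc _ (hTA s hs w hw)
        calc w * (s * c * s⁻¹) = s * ((s⁻¹ * w * s) * c) * s⁻¹ := by group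
          _ = s * (c * (s⁻¹ * w * s)) * s⁻¹ := by rw [h1]
          _ = s * c * s⁻¹ * w := by group
    let M : Subgroup S :=
      { carrier := {g | ∃ s ∈ F.T, ∃ c ∈ C, g = s * c}
        one_mem' := ⟨1, one_mem _, 1, one_mem _, (one_mul 1).symm⟩
        mul_mem' := by
          rintro _ _ ⟨s, hs, c, hc, rfl⟩ ⟨s', hs', c', hc', rfl⟩
          refine ⟨s * s', mul_mem hs hs', s'⁻¹ * c * s' * c', mul_mem ?_ hc', by group⟩
          simpa using hTC s'⁻¹ (inv_mem hs') c hc
        inv_mem' := by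
          rintro _ ⟨s, hs, c, hc, rfl⟩
          exact ⟨s⁻¹, inv_mem hs, s * c⁻¹ * s⁻¹, hTC s hs _ (inv_mem hc), by group⟩ }
    have hAC : A ≤ C := fun v hv => Subgroup.mem_centralizer_iff.mpr fun w hw =>
      comm_of_sq hAexp hw hv
    let T2 := F.T ⊔ Subgroup.zpowers y
    have hT2M : T2 ≤ M := sup_le (fun s hs => ⟨s, hs, 1, one_mem _, (mul_one s).symm⟩)
      (Subgroup.zpowers_le.mpr ⟨1, one_mem _, y, hAC hyA, (one_mul y).symm⟩)
    have hT2form : ∀ v ∈ T2, v ∈ F.T ∨ y * v ∈ F.T := by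
      have hle : T2 ≤ F.T ⊔ Subgroup.zpowers y := le_rfl
      let W : Subgroup S :=
        { carrier := {v | v ∈ F.T ∨ y * v ∈ F.T}
          one_mem' := Or.inl (one_mem _)
          mul_mem' := by
            rintro p q (hp | hp) (hq | hq)
            · exact Or.inl (mul_mem hp hq)
            · right
              have e : y * (p * q) = (y⁻¹ * p * y) * (y * q) := by
                calc y * (p * q) = y * p * (y * y) * q := by rw [hy1]; group
                  _ = _ := by rw [hyinv]; group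
              rw [e]; exact mul_mem (F.conj_mem hyN hp) hq
            · right; rw [← mul_assoc]; exact mul_mem hp hq
            · left
              have e : p * q = (y⁻¹ * (y * p) * y) * (y * q) := by
                calc p * q = p * (y * y) * q := by rw [hy1, mul_one]
                  _ = _ := by group
              rw [e]; exact mul_mem (F.conj_mem hyN hp) hq
          inv_mem' := by
            rintro p (hp | hp)
            · exact Or.inl (inv_mem hp)
            · right
              have e2 : y * p⁻¹ = y⁻¹ * (y * p)⁻¹ * y := by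
                calc y * p⁻¹ = y * p⁻¹ * y⁻¹ * y := by group
                  _ = y⁻¹ * (p⁻¹ * y⁻¹) * y := by rw [hyinv]; group
                  _ = _ := by rw [← mul_inv_rev y p]
              rw [e2]
              exact F.conj_mem hyN (inv_mem hp) }
      have : T2 ≤ W := sup_le (fun v hv => Or.inl hv)
        (Subgroup.zpowers_le.mpr (Or.inr (hy1 ▸ one_mem _)))
      exact fun v hv => this hv
    obtain ⟨c0, hc0, hc0A⟩ := SetLike.not_le_iff_exists.mp hlt
    have hc0y : c0 * y = y * c0 := (Subgroup.mem_centralizer_iff.mp hc0 y hyA).symm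
    have hc0K : ∀ k ∈ F.K y, c0 * k = k * c0 := fun k hk =>
      (Subgroup.mem_centralizer_iff.mp hc0 k (hKA hk)).symm
    have hc0T2 : c0 ∉ T2 := fun h => by
      refine hc0A (hone c0 ?_ hc0y hc0K)
      rcases hT2form c0 h with h' | h'
      · exact F.T_le_Nor h'
      · have := mul_mem hyN (F.T_le_Nor h')
        rwa [← mul_assoc, hy1, one_mul] at this
    have hne2 : T2.subgroupOf M ≠ ⊤ := fun ht => hc0T2 (by
      have : (⟨c0, ⟨1, one_mem _, c0, hc0, (one_mul c0).symm⟩⟩ : M) ∈ T2.subgroupOf M :=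
        ht ▸ Subgroup.mem_top _
      exact this)
    have hlt2 := PGroup.lt_normalizer (F.pGroup.to_subgroup M) hne2
    obtain ⟨g, hg, hgT2⟩ := SetLike.exists_of_lt hlt2
    obtain ⟨s, hs, c, hc, hgsc⟩ := g.2
    have hcy : c * y = y * c := (Subgroup.mem_centralizer_iff.mp hc y hyA).symm
    have hcK : ∀ k ∈ F.K y, c * k = k * c := fun k hk =>
      (Subgroup.mem_centralizer_iff.mp hc k (hKA hk)).symm
    have hcT : ∀ v ∈ F.T, c⁻¹ * v * c ∈ F.T := by
      intro v hv
      have hw' : s * v * s⁻¹ ∈ T2 :=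
        Subgroup.mem_sup_left (mul_mem (mul_mem hs hv) (inv_mem hs))
      have h1 := (Subgroup.mem_normalizer_iff.mp (inv_mem hg) ⟨s * v * s⁻¹, hT2M hw'⟩).mp hw'
      have h2 : (g : S)⁻¹ * (s * v * s⁻¹) * ((g : S)⁻¹)⁻¹ ∈ T2 := h1
      rw [hgsc, show (s * c)⁻¹ * (s * v * s⁻¹) * ((s * c)⁻¹)⁻¹ = c⁻¹ * v * c by group] at h2
      rcases hT2form _ h2 with h' | h'
      · exact h'
      · exfalso
        -- an involution in `y T` lies in `y K`
        set q := y * (c⁻¹ * v * c) with hq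
        have hqy : y * q = c⁻¹ * v * c := by rw [hq, ← mul_assoc, hy1, one_mul]
        have hqK : q ∈ F.K y := by
          refine F.mem_K.mpr ⟨h', ?_⟩
          have h3 : y * q * (y * q) = 1 := by
            rw [hqy, show c⁻¹ * v * c * (c⁻¹ * v * c) = c⁻¹ * (v * v) * c by group, F.exp v hv]
            group
          have h5 : q⁻¹ = q := F.inv_eq h'
          calc q * y = q⁻¹ * y⁻¹ := by rw [h5, hyinv]
            _ = (y * q)⁻¹ := (mul_inv_rev y q).symm
            _ = y * q := inv_eq_of_mul_eq_one_right h3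
        refine hyT' ?_
        have h4 : y * q = v := by
          have hc1 : c * (y * q) = (y * q) * c := by
            rw [← mul_assoc, hcy, mul_assoc, hcK q hqK, ← mul_assoc]
          calc y * q = c * (y * q) * c⁻¹ := by rw [hc1, mul_inv_cancel_right]
            _ = v := by rw [hqy]; group
        have := mul_mem (h4.symm ▸ hv : y * q ∈ F.T) (inv_mem h')
        rwa [mul_inv_cancel_right] at this
    have hcN : c ∈ F.Nor := by
      have heq : F.T.map (MulAut.conj c⁻¹).toMonoidHom = F.T := Subgroup.eq_of_le_of_card_ge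
        (by rintro _ ⟨v, hv, rfl⟩; simpa using hcT v hv)
        (by rw [Subgroup.card_map_of_injective (MulAut.conj c⁻¹).injective])
      show c ∈ Subgroup.normalizer (F.T : Set S)
      rw [Subgroup.mem_normalizer_iff]
      intro v
      refine ⟨fun hv => ?_, fun hv => by simpa [mul_assoc] using hcT _ hv⟩
      obtain ⟨v', hv', he'⟩ := (heq.symm ▸ hv : v ∈ F.T.map (MulAut.conj c⁻¹).toMonoidHom)
      rw [← he']
      simpa [mul_assoc] using hv'
    refine hgT2 ?_
    show (g : S) ∈ T2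
    rw [hgsc]
    refine mul_mem (Subgroup.mem_sup_left hs) ?_
    rcases hone c hcN hcy hcK with h' | h'
    · exact Subgroup.mem_sup_left h'.1
    · have := mul_mem (Subgroup.mem_sup_right (Subgroup.mem_zpowers y) : y ∈ T2)
        (Subgroup.mem_sup_left (S := F.T) h'.1)
      rwa [← mul_assoc, hy1, one_mul] at this
  · right
    push Not at hone
    obtain ⟨c, hcN, hcy, hcK, hcA⟩ := hone
    have hcT : c ∉ F.T := fun h => hcA (Or.inl (F.mem_K.mpr ⟨h, hcy⟩))
    have hcyT : c * y ∉ F.T := fun h => hcA (Or.inr (F.mem_K.mpr ⟨by rwa [← hcy], by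
      rw [mul_assoc, hcy]⟩))
    -- `c²` centralizes `T`
    obtain ⟨b, hb, hb1⟩ : ∃ b ∈ F.B, b ≠ 1 := by
      by_contra! hall
      have h4 := F.card_B
      have := Subgroup.card_le_of_le (show F.B ≤ ⊥ from fun x hx => Subgroup.mem_bot.mpr (hall x hx))
      rw [Subgroup.card_bot] at this
      omega
    have hbT : b ∈ F.T := F.le hb
    have hc1 : c⁻¹ * b * c ∈ F.T := F.conj_mem hcN hbT
    have hd : b⁻¹ * (c⁻¹ * b * c) ∈ F.K y := by
      refine F.mem_K.mpr ⟨mul_mem (inv_mem hbT) hc1, ?_⟩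
      set u := b⁻¹ * (y⁻¹ * b * y) with hu
      have huK : u ∈ F.K y := F.mem_K_comm hyN hyy hbT
      have h1 : y⁻¹ * (c⁻¹ * b * c) * y = (c⁻¹ * b * c) * u := by
        calc y⁻¹ * (c⁻¹ * b * c) * y = (c * y)⁻¹ * b * (c * y) := by group
          _ = (y * c)⁻¹ * b * (y * c) := by rw [hcy]
          _ = c⁻¹ * (b * u) * c := by rw [hu]; group
          _ = (c⁻¹ * b * c) * u := by
              rw [mul_assoc, mul_assoc b, ← hcK u huK]; group
      have h2 : y⁻¹ * b⁻¹ * y = u⁻¹ * b⁻¹ := by rw [hu]; group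
      have huT : u ∈ F.T := huK.1
      calc b⁻¹ * (c⁻¹ * b * c) * y = y * ((y⁻¹ * b⁻¹ * y) * (y⁻¹ * (c⁻¹ * b * c) * y)) := by group
        _ = y * (u⁻¹ * (b⁻¹ * (c⁻¹ * b * c) * u)) := by rw [h1, h2]; group
        _ = y * (b⁻¹ * (c⁻¹ * b * c)) := by
            rw [F.commT (mul_mem (inv_mem hbT) hc1) huT, inv_mul_cancel_left]
    have hccT : c * c ∈ F.T := by
      refine F.small b hb hb1 _ ?_
      set d := b⁻¹ * (c⁻¹ * b * c) with hd'
      have hcd : c⁻¹ * d * c = d := by rw [mul_assoc, ← hcK d hd, inv_mul_cancel_left]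
      have hbc : (c * c)⁻¹ * b * (c * c) = b := by
        calc (c * c)⁻¹ * b * (c * c) = (c⁻¹ * b * c) * (c⁻¹ * d * c) := by rw [hd']; group
          _ = b * (d * d) := by rw [hcd, hd']; group
          _ = b := by rw [F.exp _ hd.1, mul_one]
      calc c * c * b = c * c * ((c * c)⁻¹ * b * (c * c)) := by rw [hbc]
        _ = b * (c * c) := by group
    refine ⟨⟨y, c, hyN, hy1, hyT', hycomm, hcN, hcy, F.mem_K.mpr ⟨hccT, ?_⟩, hcT, hcyT, hcK⟩⟩
    rw [mul_assoc, hcy, ← mul_assoc, hcy, mul_assoc]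

namespace Two

variable {F} (D : F.Two)

theorem y_inv : D.y⁻¹ = D.y := inv_eq_of_mul_eq_one_right D.y2

theorem yyT : D.y * D.y ∈ F.T := D.y2 ▸ one_mem _

theorem card_K : Nat.card (F.K D.y) = 4 := (F.card_K D.yN D.yyT D.yT).1

theorem eq_K {g : S} (hgT : g ∉ F.T) (h : ∀ k ∈ F.K D.y, g * k = k * g) : F.K g = F.K D.y := by
  have hle : F.K D.y ≤ F.K g := fun k hk => F.mem_K.mpr ⟨hk.1, (h k hk).symm⟩
  exact (Subgroup.eq_of_le_of_card_ge hle (by rw [D.card_K]; exact F.card_K_le hgT)).symm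

/-- The subgroup `T⟨y, c⟩`. -/
def R : Subgroup S where
  carrier := {g | g ∈ F.T ∨ g * D.y ∈ F.T ∨ g * D.c ∈ F.T ∨ g * (D.c * D.y) ∈ F.T}
  one_mem' := Or.inl (one_mem _)
  mul_mem' := by
    have hy := D.y2
    have hc2 : D.c * D.c ∈ F.T := D.c2.1
    have hcyc : D.c * D.y * (D.c * D.y) = D.c * D.c := by
      calc D.c * D.y * (D.c * D.y) = D.c * (D.y * D.c) * D.y := by group
        _ = D.c * (D.c * D.y) * D.y := by rw [D.cc]
        _ = D.c * D.c * (D.y * D.y) := by group
        _ = D.c * D.c := by rw [hy, mul_one]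
    have key : ∀ (g h : S) (e : S), e ∈ F.Nor → g * e ∈ F.T → ∀ e', h * e' ∈ F.T →
        g * h * (e' * e) ∈ F.T := fun g h e he hge e' hhe' => by
      have e1 : g * h * (e' * e) = (g * e) * (e⁻¹ * (h * e') * e) := by group
      rw [e1]; exact mul_mem hge (F.conj_mem he hhe')
    have red : ∀ g : S, ∀ e, g * e ∈ F.T → ∀ u ∈ F.T, ∀ e', e = u * e' →
        e' ∈ F.Nor → g * e' ∈ F.T := fun g e hge u hu e' he he' => by
      have e1 : g * e' = (g * e) * (e'⁻¹ * u⁻¹ * e') := by rw [he]; group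
      rw [e1]; exact mul_mem hge (F.conj_mem he' (inv_mem hu))
    intro g h hg hh
    have N1 := F.Nor.one_mem
    have Ny := D.yN
    have Nc := D.cN
    have Ncy := mul_mem D.cN D.yN
    have p : ∀ x : S, x ∈ F.T → x * 1 ∈ F.T := fun x hx => by rwa [mul_one]
    have q : ∀ x : S, x * 1 ∈ F.T → x ∈ F.T := fun x hx => by rwa [mul_one] at hx
    rcases hg with hg | hg | hg | hg <;> rcases hh with hh | hh | hh | hh
    · exact Or.inl (mul_mem hg hh)
    · exact Or.inr (Or.inl (by simpa using key g h 1 N1 (p g hg) D.y hh))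
    · exact Or.inr (Or.inr (Or.inl (by simpa using key g h 1 N1 (p g hg) D.c hh)))
    · exact Or.inr (Or.inr (Or.inr (by simpa using key g h 1 N1 (p g hg) _ hh)))
    · exact Or.inr (Or.inl (by simpa using key g h D.y Ny hg 1 (p h hh)))
    · refine Or.inl (q _ ?_)
      have := key g h D.y Ny hg D.y hh
      rwa [hy] at this
    · refine Or.inr (Or.inr (Or.inr ?_))
      exact key g h D.y Ny hg D.c hh
    · refine Or.inr (Or.inr (Or.inl ?_))
      have := key g h D.y Ny hg (D.c * D.y) hh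
      rwa [mul_assoc D.c, hy, mul_one] at this
    · exact Or.inr (Or.inr (Or.inl (by simpa using key g h D.c Nc hg 1 (p h hh))))
    · refine Or.inr (Or.inr (Or.inr ?_))
      have := key g h D.c Nc hg D.y hh
      rwa [← D.cc] at this
    · refine Or.inl (q _ ?_)
      exact red _ _ (key g h D.c Nc hg D.c hh) _ hc2 1 (mul_one _).symm N1
    · refine Or.inr (Or.inl ?_)
      refine red _ _ (key g h D.c Nc hg (D.c * D.y) hh) _ hc2 D.y ?_ Ny
      rw [mul_assoc D.c, ← D.cc, ← mul_assoc]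
    · exact Or.inr (Or.inr (Or.inr (by simpa using key g h (D.c * D.y) Ncy hg 1 (p h hh))))
    · refine Or.inr (Or.inr (Or.inl ?_))
      have := key g h (D.c * D.y) Ncy hg D.y hh
      rwa [show D.y * (D.c * D.y) = D.c by
        rw [← mul_assoc, ← D.cc, mul_assoc, hy, mul_one]] at this
    · refine Or.inr (Or.inl ?_)
      refine red _ _ (key g h (D.c * D.y) Ncy hg D.c hh) _ hc2 D.y (by rw [← mul_assoc]) Ny
    · refine Or.inl (q _ ?_)
      refine red _ _ (key g h (D.c * D.y) Ncy hg (D.c * D.y) hh) _ hc2 1 ?_ N1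
      rw [hcyc, mul_one]
  inv_mem' := by
    have conv : ∀ g e : S, e ∈ F.Nor → e * e ∈ F.T → g * e ∈ F.T → g⁻¹ * e ∈ F.T :=
      fun g e he he2 hge => by
        have e1 : g⁻¹ * e = (e * e) * (e⁻¹ * (g * e)⁻¹ * e) := by group
        rw [e1]; exact mul_mem he2 (F.conj_mem he (inv_mem hge))
    rintro g (hg | hg | hg | hg)
    · exact Or.inl (inv_mem hg)
    · exact Or.inr (Or.inl (conv g _ D.yN D.yyT hg))
    · exact Or.inr (Or.inr (Or.inl (conv g _ D.cN D.c2.1 hg)))
    · refine Or.inr (Or.inr (Or.inr (conv g _ (mul_mem D.cN D.yN) ?_ hg)))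
      have e : D.c * D.y * (D.c * D.y) = D.c * D.c := by
        calc D.c * D.y * (D.c * D.y) = D.c * (D.y * D.c) * D.y := by group
          _ = D.c * (D.c * D.y) * D.y := by rw [D.cc]
          _ = D.c * D.c * (D.y * D.y) := by group
          _ = D.c * D.c := by rw [D.y2, mul_one]
      rw [e]; exact D.c2.1

theorem T_le_R : F.T ≤ D.R := fun _ h => Or.inl h

theorem R_le_Nor : D.R ≤ F.Nor := by
  rintro g (h | h | h | h)
  · exact F.T_le_Nor h
  · simpa using mul_mem (F.T_le_Nor h) (inv_mem D.yN)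
  · simpa using mul_mem (F.T_le_Nor h) (inv_mem D.cN)
  · have := mul_mem (F.T_le_Nor h) (inv_mem (mul_mem D.cN D.yN))
    rwa [mul_inv_cancel_right] at this

theorem y_mem_R : D.y ∈ D.R := Or.inr (Or.inl D.yyT)

theorem c_mem_R : D.c ∈ D.R := Or.inr (Or.inr (Or.inl D.c2.1))

theorem card_R_le : Nat.card D.R ≤ 64 := by
  let M := F.T ⊔ Subgroup.zpowers D.y
  have hT16 := F.card_T
  have h1 : Nat.card M ≤ 32 := by
    have hmem : ∀ v ∈ M, v ∈ F.T ∨ D.y * v ∈ F.T := by
      intro v hv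
      have hle : M ≤ D.R := sup_le D.T_le_R (Subgroup.zpowers_le.mpr D.y_mem_R)
      have hle2 : M ≤ Subgroup.normalizer (F.T : Set S) :=
        sup_le F.T_le_Nor (Subgroup.zpowers_le.mpr D.yN)
      obtain ⟨t, ht, w, ⟨i, rfl⟩, rfl⟩ :
          ∃ t ∈ F.T, ∃ w ∈ Subgroup.zpowers D.y, t * w = v := by
        have hset : (M : Set S) = (F.T : Set S) * (Subgroup.zpowers D.y : Set S) :=
          Subgroup.coe_mul_of_right_le_normalizer_left _ _ (Subgroup.zpowers_le.mpr D.yN)
        exact Set.mem_mul.mp (hset ▸ hv : v ∈ (F.T : Set S) * (Subgroup.zpowers D.y : Set S))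
      rcases Int.even_or_odd' i with ⟨k, hk | hk⟩
      · left
        show t * D.y ^ i ∈ F.T
        rw [hk, zpow_mul, zpow_two, D.y2, one_zpow, mul_one]; exact ht
      · right
        show D.y * (t * D.y ^ i) ∈ F.T
        rw [hk, zpow_add, zpow_mul, zpow_two, D.y2, one_zpow, one_mul, zpow_one, ← mul_assoc]
        have := F.conj_mem D.yN ht
        rwa [D.y_inv] at this
    have h := card_union_two D.y hmem
    omega
  have h2 := card_union_two (H := D.R) (K := M) D.c fun v hv => by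
    have hyM : D.y ∈ M := Subgroup.mem_sup_right (Subgroup.mem_zpowers _)
    have hTM : F.T ≤ M := le_sup_left
    have hcv : ∀ e, v * e ∈ F.T → e ∈ F.Nor → e * v ∈ F.T := fun e he hN => by
      have := F.conj_mem (inv_mem hN) he
      rwa [inv_inv, show e * (v * e) * e⁻¹ = e * v by group] at this
    rcases hv with h | h | h | h
    · exact Or.inl (hTM h)
    · left
      simpa using mul_mem (hTM h) (inv_mem hyM)
    · exact Or.inr (hTM (hcv _ h D.cN))
    · right
      have h3 : D.c * D.y * v ∈ M := hTM (hcv _ h (mul_mem D.cN D.yN))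
      rw [D.cc, mul_assoc] at h3
      simpa using mul_mem (inv_mem hyM) h3
  omega

/-- An element of `R` outside `T` fixes exactly `K`. -/
theorem K_R {g : S} (hg : g ∈ D.R) (hgT : g ∉ F.T) : F.K g = F.K D.y := by
  refine D.eq_K hgT fun k hk => ?_
  have hkT : k ∈ F.T := hk.1
  have hky : Commute k D.y := (F.mem_K.mp hk).2
  have hkc : Commute k D.c := (D.cK k hk).symm
  have step : ∀ e : S, g * e ∈ F.T → Commute k e → g * k = k * g := fun e he hke => by
    have h1 : Commute k (g * e * e⁻¹) :=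
      Commute.mul_right (show Commute k (g * e) from F.commT hkT he) hke.inv_right
    rw [mul_inv_cancel_right] at h1
    exact h1.eq.symm
  rcases hg with h | h | h | h
  · exact absurd h hgT
  · exact step _ h hky
  · exact step _ h hkc
  · exact step _ h (hkc.mul_right hky)

/-- The values of commutation with `T`. -/
theorem com_mem {g : S} (hg : g ∈ F.Nor) (hfix : ∀ k ∈ F.K D.y, g * k = k * g) {t : S}
    (ht : t ∈ F.T) : t⁻¹ * (g⁻¹ * t * g) ∈ F.K D.y := by
  have hyg := D.yc g hg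
  have htg : g⁻¹ * t * g ∈ F.T := F.conj_mem hg ht
  refine F.mem_K.mpr ⟨mul_mem (inv_mem ht) htg, ?_⟩
  set u := t⁻¹ * (D.y⁻¹ * t * D.y) with hu
  have huK : u ∈ F.K D.y := F.mem_K_comm D.yN D.yyT ht
  have hinv : D.y⁻¹ * (g⁻¹ * t * g) * D.y = (g⁻¹ * t * g) * u := by
    set s := D.y⁻¹ * (g⁻¹ * D.y * g) with hs
    have hsT : s ∈ F.T := hyg
    calc D.y⁻¹ * (g⁻¹ * t * g) * D.y
        = s * ((g⁻¹ * D.y * g)⁻¹ * (g⁻¹ * t * g) * (g⁻¹ * D.y * g)) * s⁻¹ := by rw [hs]; group
      _ = s * (g⁻¹ * (t * u) * g) * s⁻¹ := by rw [hu]; group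
      _ = g⁻¹ * (t * u) * g := by
          rw [F.commT hsT (F.conj_mem hg (mul_mem ht huK.1)), mul_inv_cancel_right]
      _ = (g⁻¹ * t * g) * u := by
          rw [mul_assoc g⁻¹, mul_assoc t, ← hfix u huK]; group
  have h2 : D.y⁻¹ * t⁻¹ * D.y = u⁻¹ * t⁻¹ := by rw [hu]; group
  calc t⁻¹ * (g⁻¹ * t * g) * D.y
      = D.y * ((D.y⁻¹ * t⁻¹ * D.y) * (D.y⁻¹ * (g⁻¹ * t * g) * D.y)) := by group
    _ = D.y * (u⁻¹ * (t⁻¹ * (g⁻¹ * t * g) * u)) := by rw [hinv, h2]; group
    _ = D.y * (t⁻¹ * (g⁻¹ * t * g)) := by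
        rw [F.commT (mul_mem (inv_mem ht) htg) huK.1, inv_mul_cancel_left]

include D in
theorem exists_b : ∃ b ∈ F.B, b ≠ 1 := by
  by_contra! hall
  have h4 := F.card_B
  have := Subgroup.card_le_of_le (show F.B ≤ ⊥ from fun x hx => Subgroup.mem_bot.mpr (hall x hx))
  rw [Subgroup.card_bot] at this
  omega

include D in
/-- Two elements moving some `b` alike agree modulo `T`. -/
theorem same {g h b : S} (hb : b ∈ F.B) (hb1 : b ≠ 1)
    (heq : g⁻¹ * b * g = h⁻¹ * b * h) : g * h⁻¹ ∈ F.T := by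
  refine F.small b hb hb1 _ ?_
  calc g * h⁻¹ * b = g * (h⁻¹ * b * h) * h⁻¹ := by group
    _ = b * (g * h⁻¹) := by rw [← heq]; group

/-- Elements of `N(T)` centralizing `K` lie in `R`. -/
theorem mem_R_of_fix {g : S} (hg : g ∈ F.Nor) (hfix : ∀ k ∈ F.K D.y, g * k = k * g) :
    g ∈ D.R := by
  obtain ⟨b, hb, hb1⟩ := D.exists_b
  have hbT : b ∈ F.T := F.le hb
  have hd := D.com_mem hg hfix hbT
  set d := b⁻¹ * (g⁻¹ * b * g) with hd'
  set u := b⁻¹ * (D.y⁻¹ * b * D.y) with hu
  set v := b⁻¹ * (D.c⁻¹ * b * D.c) with hv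
  have huK : u ∈ F.K D.y := F.mem_K_comm D.yN D.yyT hbT
  have hvK : v ∈ F.K D.y := D.com_mem D.cN (D.cK) hbT
  have hgb : g⁻¹ * b * g = b * d := by rw [hd']; group
  have hyb : D.y⁻¹ * b * D.y = b * u := by rw [hu]; group
  have hcb : D.c⁻¹ * b * D.c = b * v := by rw [hv]; group
  have hcyb : (D.c * D.y)⁻¹ * b * (D.c * D.y) = b * (u * v) := by
    have hvy : D.y⁻¹ * v * D.y = v := by
      rw [mul_assoc, (F.mem_K.mp hvK).2, inv_mul_cancel_left]
    calc (D.c * D.y)⁻¹ * b * (D.c * D.y) = D.y⁻¹ * (D.c⁻¹ * b * D.c) * D.y := by group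
      _ = (D.y⁻¹ * b * D.y) * (D.y⁻¹ * v * D.y) := by rw [hcb]; group
      _ = b * (u * v) := by rw [hyb, hvy, mul_assoc]
  have hu1 : u ≠ 1 := fun h => D.yT (by
    have := D.same hb hb1 (g := D.y) (h := 1) (by rw [hyb, h]; group)
    rwa [inv_one, mul_one] at this)
  have hv1 : v ≠ 1 := fun h => D.cT (by
    have := D.same hb hb1 (g := D.c) (h := 1) (by rw [hcb, h]; group)
    rwa [inv_one, mul_one] at this)
  have huv1 : u * v ≠ 1 := fun h => D.cyT (by
    have := D.same hb hb1 (g := D.c * D.y) (h := 1) (by rw [hcyb, h]; group)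
    rwa [inv_one, mul_one] at this)
  have huv : u ≠ v := fun h => huv1 (by rw [h]; exact F.exp v hvK.1)
  rcases four_cases D.card_K hvK huK hv1 hu1 huv huv1 hd with h | h | h | h
  · left
    have := D.same hb hb1 (g := g) (h := 1) (by rw [hgb, h]; group)
    rwa [inv_one, mul_one] at this
  · have := mul_mem (D.T_le_R (D.same hb hb1 (g := g) (h := D.c) (by rw [hgb, hcb, h]))) D.c_mem_R
    rwa [inv_mul_cancel_right] at this
  · have := mul_mem (D.T_le_R (D.same hb hb1 (g := g) (h := D.y) (by rw [hgb, hyb, h]))) D.y_mem_R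
    rwa [inv_mul_cancel_right] at this
  · have := mul_mem (D.T_le_R (D.same hb hb1 (g := g) (h := D.c * D.y) (by rw [hgb, hcyb, h])))
      (mul_mem D.c_mem_R D.y_mem_R)
    rwa [inv_mul_cancel_right] at this

theorem Nor_le_R : F.Nor ≤ D.R := by
  classical
  have : Fact (Nat.Prime 2) := ⟨Nat.prime_two⟩
  intro g hg
  by_contra hgR
  have hnor : ∀ g ∈ F.Nor, ∀ k ∈ F.K D.y, g⁻¹ * k * g ∈ F.K D.y := fun g hg k hk => by
    have htg := F.conj_mem hg hk.1
    refine F.mem_K.mpr ⟨htg, ?_⟩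
    set s := D.y⁻¹ * (g⁻¹ * D.y * g) with hs
    have hsT : s ∈ F.T := D.yc g hg
    have hy : D.y = (g⁻¹ * D.y * g) * s⁻¹ := by rw [hs]; group
    have h1 : Commute (g⁻¹ * k * g) (g⁻¹ * D.y * g) := by
      show g⁻¹ * k * g * (g⁻¹ * D.y * g) = g⁻¹ * D.y * g * (g⁻¹ * k * g)
      calc g⁻¹ * k * g * (g⁻¹ * D.y * g) = g⁻¹ * (k * D.y) * g := by group
        _ = g⁻¹ * (D.y * k) * g := by rw [(F.mem_K.mp hk).2]
        _ = _ := by group
    rw [hy]
    exact (h1.mul_right (show Commute (g⁻¹ * k * g) s⁻¹ from F.commT htg (inv_mem hsT))).eq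
  have : ((F.K D.y).subgroupOf F.Nor).Normal := ⟨fun v hv w => by
    show (w : S) * (v : S) * (w : S)⁻¹ ∈ F.K D.y
    have := hnor _ (inv_mem w.2) _ hv
    rwa [inv_inv] at this⟩
  have hKN : F.K D.y ≤ F.Nor := inf_le_left.trans F.T_le_Nor
  obtain ⟨fN, hfK, hf1, -, hfc⟩ := exists_central_step (F.pGroup.to_subgroup F.Nor)
    (N := ⊥) (M := (F.K D.y).subgroupOf F.Nor) bot_le (fun hle => by
      have := Subgroup.card_le_of_le hle
      rw [Subgroup.card_bot, Nat.card_congr (Subgroup.subgroupOfEquivOfLe hKN).toEquiv,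
        D.card_K] at this
      omega)
  set f := (fN : S) with hf
  have hfK' : f ∈ F.K D.y := hfK
  have hf1' : f ≠ 1 := fun h => hf1 (by rw [Subgroup.mem_bot]; exact Subtype.ext h)
  have hffix : ∀ g ∈ F.Nor, g⁻¹ * f * g = f := fun g hg => by
    have h1 : f⁻¹ * (g⁻¹ * f * g) = 1 :=
      congrArg Subtype.val (Subgroup.mem_bot.mp (hfc ⟨g, hg⟩))
    exact (inv_mul_eq_one.mp h1).symm
  obtain ⟨k0, hk0, hk0f⟩ : ∃ k0 ∈ F.K D.y, k0 ∉ Subgroup.zpowers f := by
    refine SetLike.not_le_iff_exists.mp fun hle => ?_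
    have h1 := Subgroup.card_le_of_le hle
    have : orderOf f ≤ 2 := orderOf_le_of_pow_eq_one two_pos (by rw [pow_two]; exact F.exp f hfK'.1)
    rw [D.card_K, Nat.card_zpowers] at h1
    omega
  have hk01 : k0 ≠ 1 := fun h => hk0f (h ▸ one_mem _)
  have hk0nf : k0 ≠ f := fun h => hk0f (h ▸ Subgroup.mem_zpowers f)
  have hk0p : k0 * f ≠ 1 := fun h => hk0f (by
    rw [eq_inv_of_mul_eq_one_left h]; exact inv_mem (Subgroup.mem_zpowers f))
  -- elements of `N(T)` either fix `K` or send `k0` to `k0 f`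
  have dich : ∀ g ∈ F.Nor, (∀ k ∈ F.K D.y, g * k = k * g) ∨ g⁻¹ * k0 * g = k0 * f := by
    intro g hg
    have hm := hnor g hg k0 hk0
    have back : ∀ x, g⁻¹ * k0 * g = x → k0 = g * x * g⁻¹ := fun x hx => by rw [← hx]; group
    rcases four_cases D.card_K hfK' hk0 hf1' hk01 hk0nf hk0p hm with h | h | h | h
    · exact absurd (by simpa using back _ h) hk01
    · exact absurd (by
        rw [back _ h]
        calc g * f * g⁻¹ = g * (g⁻¹ * f * g) * g⁻¹ := by rw [hffix g hg]
          _ = f := by group) hk0nf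
    · left
      intro k hk
      have e1 : g * k0 = k0 * g := by
        calc g * k0 = g * (g⁻¹ * k0 * g) := by rw [h]
          _ = k0 * g := by group
      have e2 : g * f = f * g := by
        calc g * f = g * (g⁻¹ * f * g) := by rw [hffix g hg]
          _ = f * g := by group
      rcases four_cases D.card_K hfK' hk0 hf1' hk01 hk0nf hk0p hk with h' | h' | h' | h' <;>
        rw [h']
      · simp
      · exact e2
      · exact e1
      · exact (Commute.mul_right (show Commute g k0 from e1) (show Commute g f from e2)).eq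
    · exact Or.inr h
  have hmove : g⁻¹ * k0 * g = k0 * f := (dich g hg).resolve_left fun h => hgR (D.mem_R_of_fix hg h)
  -- `b` with `[b, y] = f`
  obtain ⟨b, hb, hb1, hby⟩ : ∃ b ∈ F.B, b ≠ 1 ∧ D.y⁻¹ * b * D.y = b * f := by
    obtain ⟨t, ht, htf⟩ := F.exists_move D.yN D.yyT D.yT hfK'
    let P3 : Subgroup S := F.K D.y ⊔ Subgroup.zpowers t
    have htK : t ∉ F.K D.y := fun h => hf1' (by
      rw [← htf, mul_assoc D.y⁻¹, (F.mem_K.mp h).2]; group)
    have : ((F.K D.y).subgroupOf F.T).Normal := ⟨fun v hv w => by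
      show (w : S) * (v : S) * (w : S)⁻¹ ∈ F.K D.y
      rw [F.commT w.2 v.2, mul_inv_cancel_right]; exact hv⟩
    have hP3T : P3 ≤ F.T := sup_le inf_le_left (Subgroup.zpowers_le.mpr ht)
    have hlt : F.K D.y < P3 := left_lt_sup.mpr fun h => htK (h (Subgroup.mem_zpowers t))
    have h2 := PGroup.mul_card_le_card F.pGroup hlt
    rw [D.card_K] at h2
    obtain ⟨b, hb1, hbB, hbP⟩ := F.exists_common F.le hP3T (by rw [F.card_B]; omega)
    refine ⟨b, hbB, hb1, ?_⟩
    obtain ⟨k, hk, w, ⟨i, rfl⟩, rfl⟩ : ∃ k ∈ F.K D.y, ∃ w ∈ Subgroup.zpowers t, k * w = b := by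
      have hset : (P3 : Set S) = (F.K D.y : Set S) * (Subgroup.zpowers t : Set S) := by
        refine Subgroup.coe_mul_of_right_le_normalizer_left _ _ (Subgroup.zpowers_le.mpr ?_)
        rw [Subgroup.mem_normalizer_iff]
        intro v
        constructor
        · intro hv
          rw [F.commT ht (show v ∈ F.T from hv.1), mul_inv_cancel_right]; exact hv
        · intro hv
          have hv' : v ∈ F.T := by
            have h3 := mul_mem (mul_mem (inv_mem ht) (show t * v * t⁻¹ ∈ F.T from hv.1)) ht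
            rwa [show t⁻¹ * (t * v * t⁻¹) * t = v by group] at h3
          rwa [F.commT ht hv', mul_inv_cancel_right] at hv
      exact Set.mem_mul.mp (hset ▸ hbP : _ ∈ (F.K D.y : Set S) * (Subgroup.zpowers t : Set S))
    have hky : D.y⁻¹ * k * D.y = k := by
      rw [mul_assoc, (F.mem_K.mp hk).2, inv_mul_cancel_left]
    rcases Int.even_or_odd' i with ⟨m, hm | hm⟩
    · exfalso
      apply hb1
      refine F.B_meets D.yT hbB ?_
      show k * t ^ i ∈ F.K D.y
      rw [hm, zpow_mul, zpow_two, F.exp t ht, one_zpow, mul_one]; exact hk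
    · show D.y⁻¹ * (k * t ^ i) * D.y = k * t ^ i * f
      rw [hm, zpow_add, zpow_mul, zpow_two, F.exp t ht, one_zpow, one_mul, zpow_one, ← htf,
        show D.y⁻¹ * (k * t) * D.y = (D.y⁻¹ * k * D.y) * (D.y⁻¹ * t * D.y) by group, hky]
      group
  have hbT : b ∈ F.T := F.le hb
  set e := b⁻¹ * (D.c⁻¹ * b * D.c) with he
  have heK : e ∈ F.K D.y := D.com_mem D.cN D.cK hbT
  have hcb : D.c⁻¹ * b * D.c = b * e := by rw [he]; group
  have hfy : D.y⁻¹ * f * D.y = f := hffix _ D.yN
  have hey : D.y⁻¹ * e * D.y = e := by rw [mul_assoc, (F.mem_K.mp heK).2, inv_mul_cancel_left]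
  have hcyb : (D.c * D.y)⁻¹ * b * (D.c * D.y) = b * (f * e) := by
    calc (D.c * D.y)⁻¹ * b * (D.c * D.y) = D.y⁻¹ * (D.c⁻¹ * b * D.c) * D.y := by group
      _ = (D.y⁻¹ * b * D.y) * (D.y⁻¹ * e * D.y) := by rw [hcb]; group
      _ = b * (f * e) := by rw [hby, hey, mul_assoc]
  have hgfix : g⁻¹ * f * g = f := hffix g hg
  -- `b^g ∈ b K`
  set m := b⁻¹ * (g⁻¹ * b * g) with hm
  have hgbT : g⁻¹ * b * g ∈ F.T := F.conj_mem hg hbT
  have hmK : m ∈ F.K D.y := by
    refine F.mem_K.mpr ⟨mul_mem (inv_mem hbT) hgbT, ?_⟩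
    set s := D.y⁻¹ * (g⁻¹ * D.y * g) with hs
    have hsT : s ∈ F.T := D.yc g hg
    have h1 : D.y⁻¹ * (g⁻¹ * b * g) * D.y = (g⁻¹ * b * g) * f := by
      calc D.y⁻¹ * (g⁻¹ * b * g) * D.y
          = s * (g⁻¹ * (D.y⁻¹ * b * D.y) * g) * s⁻¹ := by rw [hs]; group
        _ = g⁻¹ * (b * f) * g := by
            rw [hby, F.commT hsT (F.conj_mem hg (mul_mem hbT hfK'.1)), mul_inv_cancel_right]
        _ = (g⁻¹ * b * g) * (g⁻¹ * f * g) := by group
        _ = _ := by rw [hgfix]
    have h2 : D.y⁻¹ * b⁻¹ * D.y = f⁻¹ * b⁻¹ := by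
      rw [show D.y⁻¹ * b⁻¹ * D.y = (D.y⁻¹ * b * D.y)⁻¹ by group, hby, mul_inv_rev]
    calc b⁻¹ * (g⁻¹ * b * g) * D.y
        = D.y * ((D.y⁻¹ * b⁻¹ * D.y) * (D.y⁻¹ * (g⁻¹ * b * g) * D.y)) := by group
      _ = D.y * (f⁻¹ * (b⁻¹ * (g⁻¹ * b * g) * f)) := by rw [h1, h2]; group
      _ = D.y * (b⁻¹ * (g⁻¹ * b * g)) := by
          rw [F.commT (mul_mem (inv_mem hbT) hgbT) hfK'.1, inv_mul_cancel_left]
  -- the conjugate of `c` agrees with `c y` modulo `T`
  set c' := g⁻¹ * D.c * g with hc'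
  have heone : e ≠ 1 := fun h => D.cT (by
    have := D.same hb hb1 (g := D.c) (h := 1) (by rw [hcb, h]; group)
    rwa [inv_one, mul_one] at this)
  have henf : e ≠ f := fun h => D.cyT (by
    have := D.same hb hb1 (g := D.c * D.y) (h := 1) (by
      rw [hcyb, h, F.exp f hfK'.1]; group)
    rwa [inv_one, mul_one] at this)
  have hef : g⁻¹ * e * g = e * f := by
    rcases four_cases D.card_K hfK' hk0 hf1' hk01 hk0nf hk0p heK with h | h | h | h
    · exact absurd h heone
    · exact absurd h henf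
    · rw [h, hmove]
    · rw [h, show g⁻¹ * (k0 * f) * g = (g⁻¹ * k0 * g) * (g⁻¹ * f * g) by group, hmove, hgfix]
  have hc'fix : ∀ k ∈ F.K D.y, c' * k = k * c' := fun k hk => by
    have h1 : g * k * g⁻¹ ∈ F.K D.y := by
      have := hnor g⁻¹ (inv_mem hg) k hk
      rwa [inv_inv] at this
    calc c' * k = g⁻¹ * (D.c * (g * k * g⁻¹)) * g := by rw [hc']; group
      _ = g⁻¹ * ((g * k * g⁻¹) * D.c) * g := by rw [D.cK _ h1]
      _ = k * c' := by rw [hc']; group
  have hc'm : c'⁻¹ * m * c' = m := by rw [mul_assoc, ← hc'fix m hmK, inv_mul_cancel_left]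
  have hc'b : c'⁻¹ * b * c' = b * (f * e) := by
    have hbm : b = (g⁻¹ * b * g) * m⁻¹ := by
      rw [hm]; group
    have h1 : c'⁻¹ * (g⁻¹ * b * g) * c' = (g⁻¹ * b * g) * (g⁻¹ * e * g) := by
      calc c'⁻¹ * (g⁻¹ * b * g) * c' = g⁻¹ * (D.c⁻¹ * b * D.c) * g := by rw [hc']; group
        _ = _ := by rw [hcb]; group
    have h2 : c'⁻¹ * m⁻¹ * c' = m⁻¹ := by
      rw [show c'⁻¹ * m⁻¹ * c' = (c'⁻¹ * m * c')⁻¹ by group, hc'm]
    conv_lhs => rw [hbm]
    rw [show c'⁻¹ * (g⁻¹ * b * g * m⁻¹) * c' = (c'⁻¹ * (g⁻¹ * b * g) * c') * (c'⁻¹ * m⁻¹ * c') by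
      group, h1, h2, hef, mul_assoc, F.commT (mul_mem heK.1 hfK'.1) (inv_mem hmK.1), ← mul_assoc,
      ← hbm, F.commT heK.1 hfK'.1]
  have hcy' : c' * (D.c * D.y)⁻¹ ∈ F.T := D.same hb hb1 (by rw [hc'b, hcyb])
  -- some `h ∈ {g, g c}` has square in `T`
  have hg2R : g * g ∈ D.R := D.mem_R_of_fix (mul_mem hg hg) (by
    intro k hk
    rcases dich (g * g) (mul_mem hg hg) with h | h
    · exact h k hk
    · exfalso
      rw [show (g * g)⁻¹ * k0 * (g * g) = g⁻¹ * (g⁻¹ * k0 * g) * g by group, hmove,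
        show g⁻¹ * (k0 * f) * g = (g⁻¹ * k0 * g) * (g⁻¹ * f * g) by group, hmove, hgfix] at h
      exact hf1' (mul_left_cancel (a := k0 * f) (by rw [mul_one]; exact h)))
  have hconjT : ∀ x y : S, x * y⁻¹ ∈ F.T → g⁻¹ * x * g * (g⁻¹ * y * g)⁻¹ ∈ F.T := fun x y h => by
    have := F.conj_mem hg h
    rwa [show g⁻¹ * (x * y⁻¹) * g = g⁻¹ * x * g * (g⁻¹ * y * g)⁻¹ by group] at this
  have hyy' : g⁻¹ * D.y * g * D.y⁻¹ ∈ F.T := by
    have := F.conj_mem (inv_mem D.yN) (D.yc g hg)
    rwa [show D.y⁻¹⁻¹ * (D.y⁻¹ * (g⁻¹ * D.y * g)) * D.y⁻¹ = g⁻¹ * D.y * g * D.y⁻¹ by group] at this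
  have hggT : g * g ∈ F.T ∨ g * g * D.y ∈ F.T := by
    have hfix : g⁻¹ * (g * g) * g = g * g := by group
    have notc : ∀ x, x = D.c ∨ x = D.c * D.y → g * g * x⁻¹ ∈ F.T → False := by
      intro x hx hgx
      have h1 := hconjT _ _ hgx
      rw [hfix] at h1
      have h2 : x * (g⁻¹ * x * g)⁻¹ ∈ F.T := by
        have := mul_mem (inv_mem hgx) h1
        rwa [show (g * g * x⁻¹)⁻¹ * (g * g * (g⁻¹ * x * g)⁻¹) = x * (g⁻¹ * x * g)⁻¹ by group] at this
      rcases hx with rfl | rfl
      · have := mul_mem h2 hcy'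
        rw [← hc', show D.c * c'⁻¹ * (c' * (D.c * D.y)⁻¹) = D.c * (D.c * D.y)⁻¹ by group,
          D.cc, show D.c * (D.y * D.c)⁻¹ = D.y⁻¹ by group] at this
        exact D.yT (inv_mem_iff.mp this)
      · -- `(c y)^g` agrees with `c`
        have h3 : (g⁻¹ * (D.c * D.y) * g) * D.c⁻¹ ∈ F.T := by
          have e1 : (g⁻¹ * (D.c * D.y) * g) * D.c⁻¹ =
              (c' * (g⁻¹ * D.y * g * D.y⁻¹) * c'⁻¹) * (c' * (D.c * D.y)⁻¹) *
                ((D.c * D.y) * D.y * D.c⁻¹) := by
            rw [hc']; group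
          have hcN' : c'⁻¹ ∈ F.Nor := inv_mem (mul_mem (mul_mem (inv_mem hg) D.cN) hg)
          have e2 : D.c * D.y * D.y * D.c⁻¹ = 1 := by
            rw [mul_assoc D.c, D.y2, mul_one, mul_inv_cancel]
          rw [e1, e2, mul_one]
          refine mul_mem ?_ hcy'
          have := F.conj_mem hcN' hyy'
          rwa [inv_inv] at this
        have := mul_mem h2 h3
        rw [show D.c * D.y * (g⁻¹ * (D.c * D.y) * g)⁻¹ * (g⁻¹ * (D.c * D.y) * g * D.c⁻¹) =
          D.c * D.y * D.c⁻¹ by group] at this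
        exact D.yT (by
          have := F.conj_mem D.cN this
          rwa [show D.c⁻¹ * (D.c * D.y * D.c⁻¹) * D.c = D.y by group] at this)
    rcases hg2R with h | h | h | h
    · exact Or.inl h
    · exact Or.inr h
    · exfalso
      refine notc D.c (Or.inl rfl) ?_
      have h5 := mul_mem h (inv_mem D.c2.1)
      rwa [show g * g * D.c * (D.c * D.c)⁻¹ = g * g * D.c⁻¹ by group] at h5
    · exfalso
      refine notc (D.c * D.y) (Or.inr rfl) ?_
      have h5 := mul_mem h (inv_mem D.c2.1)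
      have e3 : D.c * D.y * (D.c * D.c)⁻¹ = (D.c * D.y)⁻¹ :=
        calc D.c * D.y * (D.c * D.c)⁻¹ = D.y * D.c * (D.c * D.c)⁻¹ := by rw [D.cc]
          _ = D.y * D.c⁻¹ := by group
          _ = D.y⁻¹ * D.c⁻¹ := by rw [D.y_inv]
          _ = (D.c * D.y)⁻¹ := (mul_inv_rev _ _).symm
      rwa [mul_assoc (g * g), e3] at h5
  obtain ⟨h, hh, hh2, hhmove⟩ : ∃ h ∈ F.Nor, h * h ∈ F.T ∧ h⁻¹ * k0 * h = k0 * f := by
    rcases hggT with h | h
    · exact ⟨g, hg, h, hmove⟩
    · refine ⟨g * D.c, mul_mem hg D.cN, ?_, ?_⟩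
      · have hy3 : g * g * D.y⁻¹ ∈ F.T := by rwa [D.y_inv]
        set s := g * g * D.y⁻¹ with hs
        set s' := c' * (D.c * D.y)⁻¹ with hs'
        have hs'T : s' ∈ F.T := hcy'
        have e : g * D.c * (g * D.c) = s * (D.y * s' * D.y⁻¹) * (D.y * D.c * D.y * D.c) := by
          rw [hs, hs', hc']; group
        have e2 : D.y * D.c * D.y * D.c = D.c * D.c := by
          calc D.y * D.c * D.y * D.c = D.y * (D.c * D.y) * D.c := by group
            _ = (D.y * D.y) * (D.c * D.c) := by rw [D.cc]; group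
            _ = D.c * D.c := by rw [D.y2, one_mul]
        rw [e, e2]
        refine mul_mem (mul_mem hy3 ?_) D.c2.1
        have := F.conj_mem (inv_mem D.yN) hs'T
        rwa [inv_inv] at this
      · rw [show (g * D.c)⁻¹ * k0 * (g * D.c) = D.c⁻¹ * (g⁻¹ * k0 * g) * D.c by group, hmove,
          mul_assoc, ← D.cK _ (mul_mem hk0 hfK'), inv_mul_cancel_left]
  have hhfix : h⁻¹ * f * h = f := hffix h hh
  have hhR : h ∉ D.R := fun hR => by
    by_cases hT : h ∈ F.T
    · rw [mul_assoc, F.commT hk0.1 hT, inv_mul_cancel_left] at hhmove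
      exact hf1' (left_eq_mul.mp hhmove)
    · have hk : k0 ∈ F.K h := (D.K_R hR hT).symm ▸ hk0
      rw [mul_assoc, (F.mem_K.mp hk).2, inv_mul_cancel_left] at hhmove
      exact hf1' (left_eq_mul.mp hhmove)
  have hhT : h ∉ F.T := fun hT => hhR (D.T_le_R hT)
  let P := F.K D.y ⊔ F.K h
  have hPT : P ≤ F.T := sup_le inf_le_left inf_le_left
  have hlt : F.K D.y < P := by
    refine left_lt_sup.mpr fun hle => ?_
    have heq : F.K h = F.K D.y :=
      Subgroup.eq_of_le_of_card_ge hle (by rw [D.card_K, (F.card_K hh hh2 hhT).1])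
    rw [mul_assoc, (F.mem_K.mp (heq.symm ▸ hk0 : k0 ∈ F.K h)).2, inv_mul_cancel_left] at hhmove
    exact hf1' (left_eq_mul.mp hhmove)
  have h8 := PGroup.mul_card_le_card F.pGroup hlt
  rw [D.card_K] at h8
  obtain ⟨b', hb'1, hb'B, hb'P⟩ := F.exists_common F.le hPT (by rw [F.card_B]; omega)
  obtain ⟨k, hk, h1, hh1, rfl⟩ : ∃ k ∈ F.K D.y, ∃ h1 ∈ F.K h, k * h1 = b' := by
    have hset : (P : Set S) = (F.K D.y : Set S) * (F.K h : Set S) := by
      refine Subgroup.coe_mul_of_right_le_normalizer_left _ _ fun x hx => ?_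
      rw [Subgroup.mem_normalizer_iff]
      intro v
      constructor
      · intro hv
        rw [F.commT (show x ∈ F.T from hx.1) (show v ∈ F.T from hv.1), mul_inv_cancel_right]
        exact hv
      · intro hv
        have hxT : x ∈ F.T := hx.1
        have hv' : v ∈ F.T := by
          have h3 := mul_mem (mul_mem (inv_mem hxT) (show x * v * x⁻¹ ∈ F.T from hv.1)) hxT
          rwa [show x⁻¹ * (x * v * x⁻¹) * x = v by group] at h3
        rwa [F.commT hxT hv', mul_inv_cancel_right] at hv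
    exact Set.mem_mul.mp (hset ▸ hb'P : _ ∈ (F.K D.y : Set S) * (F.K h : Set S))
  have hh1K : h1 ∉ F.K D.y := fun hin => hb'1 (F.B_meets D.yT hb'B (mul_mem hk hin))
  have hkh : k ∉ F.K h := fun hin => hb'1 (F.B_meets hhT hb'B (mul_mem hin hh1))
  set u := h1⁻¹ * (D.y⁻¹ * h1 * D.y) with hu
  have huK : u ∈ F.K D.y := F.mem_K_comm D.yN D.yyT hh1.1
  have hh1h : h⁻¹ * h1 * h = h1 := by
    rw [mul_assoc, (F.mem_K.mp hh1).2, inv_mul_cancel_left]
  have huh : h⁻¹ * u * h = u := by
    set s := D.y⁻¹ * (h⁻¹ * D.y * h) with hs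
    have hsT : s ∈ F.T := D.yc h hh
    have hconj : D.y⁻¹ * h1 * D.y ∈ F.T := F.conj_mem D.yN hh1.1
    calc h⁻¹ * u * h = (h⁻¹ * h1 * h)⁻¹ *
          ((h⁻¹ * D.y * h)⁻¹ * (h⁻¹ * h1 * h) * (h⁻¹ * D.y * h)) := by rw [hu]; group
      _ = h1⁻¹ * (s⁻¹ * (D.y⁻¹ * h1 * D.y) * s) := by rw [hh1h, hs]; group
      _ = u := by rw [mul_assoc s⁻¹, F.commT hconj hsT, inv_mul_cancel_left]
  have huf : u = f := by
    rcases four_cases D.card_K hfK' hk0 hf1' hk01 hk0nf hk0p huK with h' | h' | h' | h'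
    · refine absurd (F.mem_K.mpr ⟨hh1.1, ?_⟩) hh1K
      have e1 := inv_mul_eq_one.mp (hu ▸ h')
      calc h1 * D.y = D.y * (D.y⁻¹ * h1 * D.y) := by group
        _ = D.y * h1 := by rw [← e1]
    · exact h'
    · rw [h', hhmove] at huh
      exact absurd (left_eq_mul.mp huh.symm) hf1'
    · rw [h', show h⁻¹ * (k0 * f) * h = (h⁻¹ * k0 * h) * (h⁻¹ * f * h) by group, hhmove,
        hhfix] at huh
      exact absurd (left_eq_mul.mp huh.symm) hf1'
  have hkh' : h⁻¹ * k * h = k * f := by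
    have kfix : h⁻¹ * k * h = k → k ∈ F.K h := fun e1 => F.mem_K.mpr ⟨hk.1, by
      calc k * h = h * (h⁻¹ * k * h) := by group
        _ = h * k := by rw [e1]⟩
    rcases four_cases D.card_K hfK' hk0 hf1' hk01 hk0nf hk0p hk with h' | h' | h' | h'
    · exact absurd (kfix (by rw [h']; group)) hkh
    · exact absurd (kfix (by rw [h', hhfix])) hkh
    · rw [h', hhmove]
    · rw [h', show h⁻¹ * (k0 * f) * h = (h⁻¹ * k0 * h) * (h⁻¹ * f * h) by group, hhmove, hhfix]
  have hkfy : D.y⁻¹ * (k * f) * D.y = k * f := by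
    rw [mul_assoc, (F.mem_K.mp (mul_mem hk hfK')).2, inv_mul_cancel_left]
  have hfix2 : (h * D.y)⁻¹ * (k * h1) * (h * D.y) = k * h1 := by
    rw [show (h * D.y)⁻¹ * (k * h1) * (h * D.y) =
      D.y⁻¹ * ((h⁻¹ * k * h) * (h⁻¹ * h1 * h)) * D.y by group, hkh', hh1h,
      show D.y⁻¹ * (k * f * h1) * D.y = (D.y⁻¹ * (k * f) * D.y) * (D.y⁻¹ * h1 * D.y) by group,
      hkfy, show D.y⁻¹ * h1 * D.y = h1 * u by rw [hu]; group, huf, F.commT hh1.1 hfK'.1,
      show k * f * (f * h1) = k * (f * f) * h1 by group, F.exp f hfK'.1, mul_one]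
  have hyT' : h * D.y ∈ F.T := F.small (k * h1) hb'B hb'1 _ (by
    calc h * D.y * (k * h1) = h * D.y * ((h * D.y)⁻¹ * (k * h1) * (h * D.y)) := by rw [hfix2]
      _ = k * h1 * (h * D.y) := by group)
  exact hhR (Or.inr (Or.inl hyT'))

theorem Nor_eq_R : F.Nor = D.R := le_antisymm D.Nor_le_R D.R_le_Nor

/-- Involutions in a coset `e T`, `e ∈ R ∖ T`, are congruent modulo `K`. -/
theorem coset_invol {g h : S} (hg : g ∈ D.R) (hgT : g ∉ F.T) (hgg : g * g = 1) (hhh : h * h = 1)
    (hgh : g⁻¹ * h ∈ F.T) : g⁻¹ * h ∈ F.K D.y := by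
  rw [← D.K_R hg hgT]
  set t := g⁻¹ * h with ht
  refine F.mem_K.mpr ⟨hgh, ?_⟩
  have hh : h = g * t := by rw [ht]; group
  rw [hh] at hhh
  calc t * g = g * g * (t * g) := by rw [hgg, one_mul]
    _ = g * (g * t * (g * t) * t⁻¹) := by group
    _ = g * t := by rw [hhh, one_mul, F.inv_eq hgh]

/-- A subgroup of exponent two of `R` meeting `T` in more than four elements lies in `T`. -/
theorem le_T_of_big {E : Subgroup S} (hE : ∀ x ∈ E, x * x = 1) (hER : E ≤ D.R)
    (hbig : 4 < Nat.card ↥(E ⊓ F.T)) : E ≤ F.T := by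
  intro e he
  by_contra heT
  have hle : E ⊓ F.T ≤ F.K D.y := fun v hv => by
    rw [← D.K_R (hER he) heT]
    exact F.mem_K.mpr ⟨hv.2, comm_of_sq hE hv.1 he⟩
  have := Subgroup.card_le_of_le hle
  rw [D.card_K] at this
  omega

/-- Two exponent-two subgroups of order 16 of `R` other than `T` contain the same involutions. -/
theorem invol_mem {J : Subgroup S} (hJR : J ≤ D.R) (hJ : ∀ x ∈ J, x * x = 1)
    (hJ16 : Nat.card J = 16) (hJT : J ≠ F.T) {g : S} (hg : g ∈ D.R) (hgg : g * g = 1) :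
    g ∈ F.T ∨ g ∈ J := by
  by_cases hgT : g ∈ F.T
  · exact Or.inl hgT
  right
  have hJnot : ¬ J ≤ F.T := fun hle =>
    hJT (Subgroup.eq_of_le_of_card_ge hle (by rw [hJ16, F.card_T]))
  obtain ⟨e0, he0, he0T⟩ := SetLike.not_le_iff_exists.mp hJnot
  have hTle : J ⊓ F.T ≤ F.K D.y := fun v hv => by
    rw [← D.K_R (hJR he0) he0T]
    exact F.mem_K.mpr ⟨hv.2, comm_of_sq hJ hv.1 he0⟩
  have hT4 := Subgroup.card_le_of_le hTle
  rw [D.card_K] at hT4
  let M := F.T ⊔ J
  have hMle : M ≤ D.R := sup_le D.T_le_R hJR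
  have hMcard : 64 ≤ Nat.card M := by
    have hinj : Nat.card (F.T : Subgroup S) * Nat.card J ≤
        Nat.card M * Nat.card ↥(J ⊓ F.T) := by
      let π : ↥(F.T.subgroupOf D.R) → ↥D.R := fun x => x
      have : (F.T.subgroupOf D.R).Normal :=
        Subgroup.normal_subgroupOf_of_le_normalizer D.R_le_Nor
      have h1 := card_split (QuotientGroup.mk' (F.T.subgroupOf D.R)) (J.subgroupOf D.R)
      have h2 := card_split (QuotientGroup.mk' (F.T.subgroupOf D.R)) (M.subgroupOf D.R)
      rw [QuotientGroup.ker_mk'] at h1 h2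
      have hmap : (J.subgroupOf D.R).map (QuotientGroup.mk' (F.T.subgroupOf D.R)) ≤
          (M.subgroupOf D.R).map (QuotientGroup.mk' (F.T.subgroupOf D.R)) :=
        Subgroup.map_mono fun x hx => (le_sup_right : J ≤ M) hx
      have e1 : Nat.card ↥(J.subgroupOf D.R ⊓ F.T.subgroupOf D.R) = Nat.card ↥(J ⊓ F.T) :=
        Nat.card_congr (Subgroup.subgroupOfEquivOfLe (H := J ⊓ F.T) (inf_le_left.trans hJR)).toEquiv
      have e2 : Nat.card ↥(M.subgroupOf D.R ⊓ F.T.subgroupOf D.R) = Nat.card F.T := by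
        rw [inf_eq_right.mpr fun x hx => (le_sup_left : F.T ≤ M) hx]
        exact Nat.card_congr (Subgroup.subgroupOfEquivOfLe D.T_le_R).toEquiv
      rw [Nat.card_congr (Subgroup.subgroupOfEquivOfLe hJR).toEquiv, e1] at h1
      rw [Nat.card_congr (Subgroup.subgroupOfEquivOfLe hMle).toEquiv, e2] at h2
      rw [h1, h2]
      calc Nat.card F.T * (_ * Nat.card ↥(J ⊓ F.T)) ≤
          Nat.card F.T * (Nat.card ((M.subgroupOf D.R).map
            (QuotientGroup.mk' (F.T.subgroupOf D.R))) * Nat.card ↥(J ⊓ F.T)) :=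
            Nat.mul_le_mul_left _ (Nat.mul_le_mul_right _ (Subgroup.card_le_of_le hmap))
        _ = _ := by ring
    rw [F.card_T, hJ16] at hinj
    nlinarith
  have hMR : M = D.R := Subgroup.eq_of_le_of_card_ge hMle (D.card_R_le.trans hMcard)
  have hset : (M : Set S) = (F.T : Set S) * (J : Set S) :=
    Subgroup.coe_mul_of_right_le_normalizer_left _ _ (hJR.trans D.R_le_Nor)
  obtain ⟨t, ht, j, hj, rfl⟩ : ∃ t ∈ F.T, ∃ j ∈ J, t * j = g :=
    Set.mem_mul.mp (hset ▸ (hMR.symm ▸ hg : g ∈ M) : g ∈ (F.T : Set S) * (J : Set S))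
  have hjT : j ∉ F.T := fun h => hgT (mul_mem ht h)
  have hmem : j⁻¹ * (t * j) ∈ F.T := by
    have := F.conj_mem (D.R_le_Nor (hJR hj)) ht
    rwa [← mul_assoc]
  have hk := D.coset_invol (hJR hj) hjT (hJ j hj) hgg hmem
  -- `K ≤ J`
  have hKJ : F.K D.y ≤ J := by
    have h4 : 4 ≤ Nat.card ↥(J ⊓ F.T) := by
      by_contra hlt
      have : Nat.card ↥(J ⊓ F.T) ≤ 3 := by omega
      have hnorm : (F.T.subgroupOf F.Nor).Normal := Subgroup.normal_in_normalizer
      have hR := D.card_R_le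
      have h1 := card_split (QuotientGroup.mk' (F.T.subgroupOf F.Nor)) (J.subgroupOf F.Nor)
      have h2 := card_split (QuotientGroup.mk' (F.T.subgroupOf F.Nor)) (D.R.subgroupOf F.Nor)
      have hNR := D.R_le_Nor
      rw [QuotientGroup.ker_mk'] at h1 h2
      rw [inf_eq_right.mpr fun x hx => D.T_le_R hx,
        Nat.card_congr (Subgroup.subgroupOfEquivOfLe hNR).toEquiv,
        Nat.card_congr (Subgroup.subgroupOfEquivOfLe F.T_le_Nor).toEquiv, F.card_T] at h2
      have e1 : Nat.card ↥(J.subgroupOf F.Nor ⊓ F.T.subgroupOf F.Nor) = Nat.card ↥(J ⊓ F.T) :=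
        Nat.card_congr (Subgroup.subgroupOfEquivOfLe (H := J ⊓ F.T)
          (inf_le_left.trans (hJR.trans hNR))).toEquiv
      rw [Nat.card_congr (Subgroup.subgroupOfEquivOfLe (hJR.trans hNR)).toEquiv, e1, hJ16] at h1
      have hmap := Subgroup.card_le_of_le (Subgroup.map_mono (f := QuotientGroup.mk'
        (F.T.subgroupOf F.Nor)) (show J.subgroupOf F.Nor ≤ D.R.subgroupOf F.Nor from
          fun x hx => hJR hx))
      have := Nat.mul_le_mul hmap (show Nat.card ↥(J ⊓ F.T) ≤ 3 by omega)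
      omega
    have heq : J ⊓ F.T = F.K D.y :=
      Subgroup.eq_of_le_of_card_ge hTle (by rw [D.card_K]; exact h4)
    exact heq ▸ inf_le_left
  have := mul_mem hj (hKJ hk)
  rwa [mul_inv_cancel_left] at this

/-- Sections of exponent two in the remaining case. -/
theorem card_le_sixteen_mul (D : F.Two) {N H : Subgroup S} (h : SqSub N H) :
    Nat.card H ≤ 16 * Nat.card N := by
  classical
  have : Fact (Nat.Prime 2) := ⟨Nat.prime_two⟩
  let R := D.R
  have hR64 := D.card_R_le
  -- `|S : R| ≤ 2`, and outside elements interchange `T` with a second subgroup of order 16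
  obtain ⟨hidx, hswap⟩ : (∀ a b : S, a ∉ R → b ∉ R → a * b ∈ R) ∧
      (∀ a : S, a ∉ R → ∀ v : S, v ∈ F.T → a⁻¹ * v * a ∈ F.T → v ∈ F.K D.y) := by
    let N1 := Subgroup.normalizer (R : Set S)
    have hconjR : ∀ a ∈ N1, ∀ v ∈ R, a⁻¹ * v * a ∈ R := fun a ha v hv => by
      have := (Subgroup.mem_normalizer_iff.mp (inv_mem ha) v).mp hv
      simpa using this
    let J : S → Subgroup S := fun a => F.T.map (MulAut.conj a⁻¹).toMonoidHom
    have hJmem : ∀ a v, v ∈ J a ↔ a * v * a⁻¹ ∈ F.T := fun a v => by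
      constructor
      · rintro ⟨w, hw, rfl⟩
        simpa [mul_assoc] using hw
      · intro hv
        exact ⟨a * v * a⁻¹, hv, by simp [mul_assoc]⟩
    have hJexp : ∀ a, ∀ v ∈ J a, v * v = 1 := fun a v hv => by
      have h1 := F.exp _ ((hJmem a v).mp hv)
      calc v * v = a⁻¹ * (a * v * a⁻¹ * (a * v * a⁻¹)) * a := by group
        _ = 1 := by rw [h1]; group
    have hJ16 : ∀ a, Nat.card (J a) = 16 := fun a => by
      rw [Subgroup.card_map_of_injective (MulAut.conj a⁻¹).injective, F.card_T]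
    have hJT : ∀ a, J a = F.T → a ∈ R := fun a ha => by
      refine D.Nor_le_R ?_
      show a ∈ Subgroup.normalizer (F.T : Set S)
      rw [Subgroup.mem_normalizer_iff]
      intro v
      rw [← hJmem a v, ha]
    have hJle : ∀ a ∈ N1, J a ≤ R := fun a ha v hv => by
      obtain ⟨w, hw, rfl⟩ := hv
      have := hconjR a ha w (D.T_le_R hw)
      simpa using this
    -- two involution sets
    have two : ∀ a ∈ N1, a ∉ R → ∀ E : Subgroup S, E ≤ R → (∀ v ∈ E, v * v = 1) →
        E ≤ F.T ∨ E ≤ J a := fun a ha haR E hE hexp => by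
      by_contra! hne
      obtain ⟨⟨p, hp, hpT⟩, ⟨q, hq, hqJ⟩⟩ :=
        And.intro (SetLike.not_le_iff_exists.mp hne.1) (SetLike.not_le_iff_exists.mp hne.2)
      have hne' : J a ≠ F.T := fun h => haR (hJT a h)
      have hpJ := (D.invol_mem (hJle a ha) (hJexp a) (hJ16 a) hne' (hE hp) (hexp p hp)).resolve_left hpT
      have hqT := (D.invol_mem (hJle a ha) (hJexp a) (hJ16 a) hne' (hE hq) (hexp q hq)).resolve_right hqJ
      rcases D.invol_mem (hJle a ha) (hJexp a) (hJ16 a) hne' (hE (mul_mem hp hq))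
        (hexp _ (mul_mem hp hq)) with hh | hh
      · have := mul_mem hh (inv_mem hqT); rw [mul_inv_cancel_right] at this; exact hpT this
      · have := mul_mem (inv_mem hpJ) hh; rw [inv_mul_cancel_left] at this; exact hqJ this
    have hstep : ∀ a ∈ N1, a ∉ R → ∀ b ∈ N1, b ∉ R → a * b ∈ R := fun a ha haR b hb hbR => by
      refine hJT _ ?_
      have hab : J (a * b) ≤ R := hJle _ (mul_mem ha hb)
      rcases two b hb hbR (J (a * b)) hab (hJexp _) with h' | h'
      · exact Subgroup.eq_of_le_of_card_ge h' (by rw [hJ16, F.card_T])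
      · exfalso
        apply haR
        refine hJT a (Subgroup.eq_of_le_of_card_ge (fun v hv => ?_) (by rw [hJ16, F.card_T]))
        have hv' : b⁻¹ * v * b ∈ J (a * b) := (hJmem _ _).mpr (by
          rw [show a * b * (b⁻¹ * v * b) * (a * b)⁻¹ = a * v * a⁻¹ by group]
          exact (hJmem a v).mp hv)
        have := (hJmem b _).mp (h' hv')
        rwa [show b * (b⁻¹ * v * b) * b⁻¹ = v by group] at this
    have hswap1 : ∀ a ∈ N1, a ∉ R → ∀ v ∈ F.T, a⁻¹ * v * a ∈ F.T → v ∈ F.K D.y := by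
      intro a ha haR v hv hva
      have hai : a⁻¹ ∈ N1 := inv_mem ha
      have haiR : a⁻¹ ∉ R := fun h => haR (inv_mem_iff.mp h)
      have hne : J a⁻¹ ≠ F.T := fun h => haiR (hJT _ h)
      have hvJ : v ∈ J a⁻¹ := (hJmem _ _).mpr (by rwa [inv_inv])
      obtain ⟨e, he, heT⟩ := SetLike.not_le_iff_exists.mp (fun hle =>
        hne (Subgroup.eq_of_le_of_card_ge hle (by rw [hJ16, F.card_T])) : ¬ J a⁻¹ ≤ F.T)
      rw [← D.K_R (hJle _ hai he) heT]
      exact F.mem_K.mpr ⟨hv, comm_of_sq (hJexp _) hvJ he⟩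
    have htop : N1 = ⊤ := by
      by_contra hne
      obtain ⟨k, hk, hkN⟩ := SetLike.exists_of_lt (PGroup.lt_normalizer F.pGroup hne)
      have hTk : J k ≤ N1 := fun v hv => by
        obtain ⟨w, hw, rfl⟩ := hv
        have := (Subgroup.mem_normalizer_iff.mp (inv_mem hk) w).mp
          (Subgroup.le_normalizer (D.T_le_R hw))
        simpa using this
      by_cases hR' : J k ≤ R
      · -- then `k` normalizes `R`
        by_cases hex : ∃ a ∈ N1, a ∉ R
        · obtain ⟨a, ha, haR⟩ := hex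
          rcases two a ha haR (J k) hR' (hJexp k) with h' | h'
          · exact hkN (Subgroup.le_normalizer
              (hJT k (Subgroup.eq_of_le_of_card_ge h' (by rw [hJ16, F.card_T]))))
          · apply hkN
            have hka : k * a⁻¹ ∈ R := by
              refine hJT _ (Subgroup.eq_of_le_of_card_ge (fun v hv => ?_) (by rw [hJ16, F.card_T]))
              have hv' : a⁻¹ * v * a ∈ J k := (hJmem _ _).mpr (by
                rw [show k * (a⁻¹ * v * a) * k⁻¹ = k * a⁻¹ * v * (k * a⁻¹)⁻¹ by group]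
                exact (hJmem _ v).mp hv)
              have := (hJmem a _).mp (h' hv')
              rwa [show a * (a⁻¹ * v * a) * a⁻¹ = v by group] at this
            have := mul_mem (Subgroup.le_normalizer hka : k * a⁻¹ ∈ N1) ha
            rwa [inv_mul_cancel_right] at this
        · push Not at hex
          have hk2 : k ∈ N1 := by
            show k ∈ Subgroup.normalizer (R : Set S)
            have heq : N1 = R := le_antisymm hex Subgroup.le_normalizer
            rwa [heq] at hk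
          exact hkN hk2
      · obtain ⟨g, hg, hgR⟩ := SetLike.not_le_iff_exists.mp hR'
        have hgN := hTk hg
        let E := J k ⊓ R
        have hE8 : 8 ≤ Nat.card E := by
          have h1 := card_union_two (H := J k) (K := E) g fun v hv => by
            by_cases hvR : v ∈ R
            · exact Or.inl ⟨hv, hvR⟩
            · exact Or.inr ⟨mul_mem hg hv, hstep g hgN hgR v (hTk hv) hvR⟩
          rw [hJ16] at h1
          omega
        have hfix : ∀ v ∈ E, g⁻¹ * v * g = v := fun v hv => by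
          rw [mul_assoc, comm_of_sq (hJexp k) hv.1 hg, inv_mul_cancel_left]
        have hEK : E ≤ F.K D.y := by
          rcases two g hgN hgR E inf_le_right (fun v hv => hJexp k v hv.1) with h' | h'
          · exact fun v hv => hswap1 g hgN hgR v (h' hv) (by rw [hfix v hv]; exact h' hv)
          · intro v hv
            have h2 : g * v * g⁻¹ ∈ F.T := (hJmem g v).mp (h' hv)
            have h3 : g * v * g⁻¹ = v := by
              conv_lhs => rw [← hfix v hv]
              group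
            rw [h3] at h2
            exact hswap1 g hgN hgR v h2 (by rw [hfix v hv]; exact h2)
        have := Subgroup.card_le_of_le hEK
        rw [D.card_K] at this
        omega
    exact ⟨fun a b => fun ha hb => hstep a (htop ▸ Subgroup.mem_top a) ha b
        (htop ▸ Subgroup.mem_top b) hb,
      fun a ha => hswap1 a (htop ▸ Subgroup.mem_top a) ha⟩
  by_contra hlt
  push Not at hlt
  have hpow : ∀ X : Subgroup S, ∃ n, Nat.card X = 2 ^ n := fun X => PGroup.card_eq_pow F.pGroup X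
  have hN : 0 < Nat.card N := Nat.card_pos
  have hH32 : 32 * Nat.card N ≤ Nat.card H := by
    by_contra hc
    have := half_le F.pGroup (k := 4) (N := N) (H := H) (by norm_num; omega)
    norm_num at this
    omega
  let H0 := H ⊓ R
  have hH0 : Nat.card H ≤ 2 * Nat.card H0 := by
    by_cases hle : H ≤ R
    · rw [show H0 = H from inf_eq_left.mpr hle]; omega
    obtain ⟨a, ha, haR⟩ := SetLike.not_le_iff_exists.mp hle
    refine card_union_two a fun v hv => ?_
    by_cases hvR : v ∈ R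
    · exact Or.inl ⟨hv, hvR⟩
    · exact Or.inr ⟨mul_mem ha hv, hidx a v haR hvR⟩
  -- `|H0| ≤ 4 |H0 ∩ T|`
  have hH0T : Nat.card H0 ≤ 4 * Nat.card ↥(H0 ⊓ F.T) := by
    have : (F.T.subgroupOf D.R).Normal := Subgroup.normal_subgroupOf_of_le_normalizer D.R_le_Nor
    have h1 := card_split (QuotientGroup.mk' (F.T.subgroupOf D.R)) (H0.subgroupOf D.R)
    rw [QuotientGroup.ker_mk',
      Nat.card_congr (Subgroup.subgroupOfEquivOfLe (inf_le_right : H0 ≤ D.R)).toEquiv,
      show Nat.card ↥(H0.subgroupOf D.R ⊓ F.T.subgroupOf D.R) = Nat.card ↥(H0 ⊓ F.T) from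
        Nat.card_congr (Subgroup.subgroupOfEquivOfLe (H := H0 ⊓ F.T)
          (inf_le_left.trans inf_le_right)).toEquiv] at h1
    rw [h1]
    refine Nat.mul_le_mul_right _ ((Subgroup.card_le_card_group _).trans ?_)
    have h2 := Subgroup.card_eq_card_quotient_mul_card_subgroup (F.T.subgroupOf D.R)
    rw [Nat.card_congr (Subgroup.subgroupOfEquivOfLe D.T_le_R).toEquiv, F.card_T] at h2
    omega
  by_cases hN1 : Nat.card N = 1
  · have hbot : N = ⊥ := Subgroup.card_eq_one.mp hN1
    have hexp : ∀ v ∈ H, v * v = 1 := fun v hv => by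
      have := h.2 v hv
      rwa [hbot, Subgroup.mem_bot] at this
    by_cases hb : 4 < Nat.card ↥(H0 ⊓ F.T)
    · have hle := D.le_T_of_big (E := H0) (fun v hv => hexp v hv.1) inf_le_right hb
      have hc := Subgroup.card_le_of_le hle
      rw [F.card_T] at hc
      have hH0eq : H0 = F.T := Subgroup.eq_of_le_of_card_ge hle (by rw [F.card_T]; omega)
      obtain ⟨a, ha, haR⟩ : ∃ a ∈ H, a ∉ R := by
        by_contra! hle'
        have : Nat.card H ≤ Nat.card H0 := Subgroup.card_le_of_le fun v hv => ⟨hv, hle' v hv⟩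
        omega
      have hTK : F.T ≤ F.K D.y := fun v hv => by
        refine hswap a haR v hv ?_
        rw [mul_assoc, comm_of_sq hexp (hH0eq ▸ hv : v ∈ H0).1 ha, inv_mul_cancel_left]
        exact hv
      have := Subgroup.card_le_of_le hTK
      rw [D.card_K, F.card_T] at this
      omega
    · -- `H0` is a second subgroup of order 16
      have h16 : Nat.card H0 = 16 := by omega
      obtain ⟨a, ha, haR⟩ : ∃ a ∈ H, a ∉ R := by
        by_contra! hle'
        have : Nat.card H ≤ Nat.card H0 := Subgroup.card_le_of_le fun v hv => ⟨hv, hle' v hv⟩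
        omega
      have hne : H0 ≠ F.T := fun he => hb (by rw [he, inf_idem, F.card_T]; norm_num)
      have hTle : ∀ v ∈ F.T, a⁻¹ * v * a ∈ F.T ∨ a⁻¹ * v * a ∈ H0 := fun v hv => by
        refine D.invol_mem inf_le_right (fun w hw => hexp w hw.1) h16 hne ?_ ?_
        · by_contra hout
          -- `R` is invariant
          have h1 := hidx a _ haR hout
          rw [← mul_assoc, mul_inv_cancel_left] at h1
          exact haR (by simpa using mul_mem (inv_mem (D.T_le_R hv)) h1)
        · rw [show a⁻¹ * v * a * (a⁻¹ * v * a) = a⁻¹ * (v * v) * a by group, F.exp v hv]; group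
      have hTK : F.T ≤ F.K D.y := fun v hv => by
        rcases hTle v hv with h' | h'
        · exact hswap a haR v hv h'
        · refine hswap a haR v hv ?_
          have e : a⁻¹ * v * a = v := by
            have hc : a * (a⁻¹ * v * a) = (a⁻¹ * v * a) * a := comm_of_sq hexp ha h'.1
            refine mul_right_cancel (b := a) ?_
            rw [← hc]; group
          rwa [e]
      have := Subgroup.card_le_of_le hTK
      rw [D.card_K, F.card_T] at this
      omega
  -- `K ≤ N`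
  obtain ⟨n, hn⟩ := hpow N
  have hN2 : 2 ≤ Nat.card N := by omega
  have hT8 : 8 ≤ Nat.card ↥(H0 ⊓ F.T) := by omega
  have hH0le : ¬ H0 ≤ F.T := fun hle => by
    have := Subgroup.card_le_of_le hle
    rw [F.card_T] at this
    omega
  obtain ⟨e, he, heT⟩ := SetLike.not_le_iff_exists.mp hH0le
  have hKN : F.K D.y ≤ N := by
    have hcom : ∀ t ∈ H0 ⊓ F.T, ∀ g ∈ H0, t⁻¹ * (g⁻¹ * t * g) ∈ N := fun t ht g hg => by
      have := h.comm_mem ht.1.1 hg.1
      rwa [show t⁻¹ * (g⁻¹ * t * g) = t⁻¹ * g⁻¹ * t * g by group]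
    by_cases hfull : F.T ≤ H0
    · intro k hk
      have hKe : F.K e = F.K D.y := D.K_R he.2 heT
      obtain ⟨t, ht⟩ : k ∈ (F.comHom (D.R_le_Nor he.2)).range := by
        have he2T : e * e ∈ F.T := by
          have := D.K_R he.2 heT
          rcases he.2 with h' | h' | h' | h'
          · exact absurd h' heT
          all_goals
            first
            | exact (show e * e ∈ F.T from by
                have e1 : e * e = (e * D.y) * (D.y⁻¹ * (e * D.y) * D.y) * (D.y * D.y)⁻¹ := by group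
                rw [e1, D.y2, inv_one, mul_one]
                exact mul_mem h' (F.conj_mem D.yN h'))
            | exact (show e * e ∈ F.T from by
                have e1 : e * e = (e * D.c) * (D.c⁻¹ * (e * D.c) * D.c) * (D.c * D.c)⁻¹ := by group
                rw [e1]
                exact mul_mem (mul_mem h' (F.conj_mem D.cN h')) (inv_mem D.c2.1))
            | exact (show e * e ∈ F.T from by
                have hc2 : D.c * D.y * (D.c * D.y) ∈ F.T := by
                  rw [show D.c * D.y * (D.c * D.y) = D.c * (D.y * D.c) * D.y by group, ← D.cc,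
                    show D.c * (D.c * D.y) * D.y = D.c * D.c * (D.y * D.y) by group, D.y2, mul_one]
                  exact D.c2.1
                have e1 : e * e = (e * (D.c * D.y)) *
                    ((D.c * D.y)⁻¹ * (e * (D.c * D.y)) * (D.c * D.y)) *
                      (D.c * D.y * (D.c * D.y))⁻¹ := by group
                rw [e1]
                exact mul_mem (mul_mem h' (F.conj_mem (mul_mem D.cN D.yN) h')) (inv_mem hc2))
        rw [(F.card_K (D.R_le_Nor he.2) he2T heT).2, hKe]; exact hk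
      rw [← ht]
      exact hcom t ⟨hfull t.2, t.2⟩ e he
    · have h8' : Nat.card ↥(H0 ⊓ F.T) = 8 := by
        have hlt' : H0 ⊓ F.T < F.T := lt_of_le_of_ne inf_le_right fun he' =>
          hfull (he' ▸ inf_le_left)
        have := PGroup.mul_card_le_card F.pGroup hlt'
        rw [F.card_T] at this
        omega
      -- `H0 T = R`
      have hH0R : ∀ g ∈ D.R, ∃ t ∈ F.T, ∃ w ∈ H0, t * w = g := by
        have hle : F.T ⊔ H0 ≤ D.R := sup_le D.T_le_R inf_le_right
        have hcard : 64 ≤ Nat.card ↥(F.T ⊔ H0) := by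
          have : (F.T.subgroupOf D.R).Normal :=
            Subgroup.normal_subgroupOf_of_le_normalizer D.R_le_Nor
          have h1 := card_split (QuotientGroup.mk' (F.T.subgroupOf D.R)) (H0.subgroupOf D.R)
          have h2 := card_split (QuotientGroup.mk' (F.T.subgroupOf D.R)) ((F.T ⊔ H0).subgroupOf D.R)
          rw [QuotientGroup.ker_mk'] at h1 h2
          rw [inf_eq_right.mpr fun x hx => (le_sup_left : F.T ≤ F.T ⊔ H0) hx,
            Nat.card_congr (Subgroup.subgroupOfEquivOfLe hle).toEquiv,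
            Nat.card_congr (Subgroup.subgroupOfEquivOfLe D.T_le_R).toEquiv, F.card_T] at h2
          rw [Nat.card_congr (Subgroup.subgroupOfEquivOfLe (inf_le_right : H0 ≤ D.R)).toEquiv,
            show Nat.card ↥(H0.subgroupOf D.R ⊓ F.T.subgroupOf D.R) = Nat.card ↥(H0 ⊓ F.T) from
              Nat.card_congr (Subgroup.subgroupOfEquivOfLe (H := H0 ⊓ F.T)
                (inf_le_left.trans inf_le_right)).toEquiv, h8'] at h1
          change Nat.card H0 = _ at h1
          have hmap := Subgroup.card_le_of_le (Subgroup.map_mono (f := QuotientGroup.mk'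
            (F.T.subgroupOf D.R)) (show H0.subgroupOf D.R ≤ (F.T ⊔ H0).subgroupOf D.R from
              fun x hx => (le_sup_right : H0 ≤ F.T ⊔ H0) hx))
          omega
        have heq : F.T ⊔ H0 = D.R := Subgroup.eq_of_le_of_card_ge hle (hR64.trans hcard)
        intro g hg
        have hset : ((F.T ⊔ H0 : Subgroup S) : Set S) = (F.T : Set S) * (H0 : Set S) :=
          Subgroup.coe_mul_of_right_le_normalizer_left _ _
            ((inf_le_right : H0 ≤ D.R).trans D.R_le_Nor)
        exact Set.mem_mul.mp (hset ▸ (heq.symm ▸ hg : g ∈ F.T ⊔ H0) :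
          g ∈ (F.T : Set S) * (H0 : Set S))
      obtain ⟨t, ht, htK⟩ : ∃ t ∈ H0 ⊓ F.T, t ∉ F.K D.y := by
        refine SetLike.not_le_iff_exists.mp fun hle => ?_
        have := Subgroup.card_le_of_le hle
        rw [h8', D.card_K] at this
        omega
      have val : ∀ g ∈ D.R, t⁻¹ * (g⁻¹ * t * g) ∈ N := fun g hg => by
        obtain ⟨t', ht', w, hw, rfl⟩ := hH0R g hg
        have e1 : (t' * w)⁻¹ * t * (t' * w) = w⁻¹ * t * w := by
          rw [show (t' * w)⁻¹ * t * (t' * w) = w⁻¹ * (t'⁻¹ * t * t') * w by group, mul_assoc t'⁻¹,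
            F.commT ht.2 ht', inv_mul_cancel_left]
        rw [e1]
        exact hcom t ht w hw
      set u := t⁻¹ * (D.y⁻¹ * t * D.y) with hu
      set v := t⁻¹ * (D.c⁻¹ * t * D.c) with hv
      have huK : u ∈ F.K D.y := F.mem_K_comm D.yN D.yyT ht.2
      have hvK : v ∈ F.K D.y := D.com_mem D.cN D.cK ht.2
      have hnotfix : ∀ g ∈ D.R, g ∉ F.T → t⁻¹ * (g⁻¹ * t * g) ≠ 1 := fun g hg hgT h1 => by
        apply htK
        rw [← D.K_R hg hgT]
        have e1 := inv_mul_eq_one.mp h1
        refine F.mem_K.mpr ⟨ht.2, ?_⟩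
        calc t * g = g * (g⁻¹ * t * g) := by group
          _ = g * t := by rw [← e1]
      have huv1 : u * v ≠ 1 := fun h1 => by
        refine hnotfix _ (mul_mem D.c_mem_R D.y_mem_R) D.cyT ?_
        have hvy : D.y⁻¹ * v * D.y = v := by
          rw [mul_assoc, (F.mem_K.mp hvK).2, inv_mul_cancel_left]
        calc t⁻¹ * ((D.c * D.y)⁻¹ * t * (D.c * D.y))
            = (t⁻¹ * (D.y⁻¹ * t * D.y)) * (D.y⁻¹ * v * D.y) := by rw [hv]; group
          _ = 1 := by rw [hvy, ← hu, h1]
      intro k hk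
      rcases four_cases D.card_K hvK huK (hnotfix _ D.c_mem_R D.cT) (hnotfix _ D.y_mem_R D.yT)
        (fun he' => huv1 (by rw [he']; exact F.exp v hvK.1)) huv1 hk with h' | h' | h' | h' <;>
        rw [h']
      · exact one_mem _
      · exact val _ D.c_mem_R
      · exact val _ D.y_mem_R
      · exact mul_mem (val _ D.y_mem_R) (val _ D.c_mem_R)
  have hN4 := Subgroup.card_le_of_le hKN
  rw [D.card_K] at hN4
  obtain ⟨a, ha, haR⟩ : ∃ a ∈ H, a ∉ R := by
    by_contra! hle'
    have h1 : Nat.card H ≤ Nat.card H0 := Subgroup.card_le_of_le fun v hv => ⟨hv, hle' v hv⟩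
    have h2 : Nat.card H0 ≤ Nat.card R := Subgroup.card_le_of_le inf_le_right
    change _ ≤ Nat.card D.R at h2
    omega
  have hH0R : H0 = R := Subgroup.eq_of_le_of_card_ge inf_le_right (by
    change Nat.card D.R ≤ _
    omega)
  have hNK : N = F.K D.y := (Subgroup.eq_of_le_of_card_ge hKN (by
    rw [D.card_K]
    have h2 : Nat.card H0 ≤ 64 := le_trans (Subgroup.card_le_of_le inf_le_right) hR64
    omega)).symm
  have hTK : F.T ≤ F.K D.y := fun v hv => by
    refine hswap a haR v hv ?_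
    have hvH : v ∈ H := (hH0R.symm ▸ D.T_le_R hv : v ∈ H0).1
    have := h.comm_mem hvH ha
    rw [hNK] at this
    have h2 : v * (v⁻¹ * a⁻¹ * v * a) ∈ F.T := mul_mem hv this.1
    rwa [show v * (v⁻¹ * a⁻¹ * v * a) = a⁻¹ * v * a by group] at h2
  have := Subgroup.card_le_of_le hTK
  rw [D.card_K, F.card_T] at this
  omega

end Two

include F in
/-- Sections of exponent two have order at most sixteen. -/
theorem card_le_sixteen_mul {N H : Subgroup S} (h : SqSub N H) :
    Nat.card H ≤ 16 * Nat.card N := by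
  have : Fact (Nat.Prime 2) := ⟨Nat.prime_two⟩
  by_cases hne : F.Nor ≤ F.T
  · have htop : F.T = ⊤ := by
      by_contra hne'
      exact (PGroup.lt_normalizer F.pGroup hne').not_ge hne
    calc Nat.card H ≤ Nat.card S := Subgroup.card_le_card_group H
      _ = 16 := by rw [← F.card_T, htop, Subgroup.card_top]
      _ ≤ 16 * Nat.card N := Nat.le_mul_of_pos_right 16 Nat.card_pos
  · rcases F.selfCentralizing_or_two hne with ⟨A, h1, h2, h3⟩ | ⟨⟨D⟩⟩
    · exact card_le_sixteen_mul_of_selfCentralizing F.pGroup h1 h2 h3 h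
    · exact D.card_le_sixteen_mul h

end Free

end Cfsg.Agent.SecRank
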