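import Cfsg.Agent.Lib.SecRank.Alperin

/-!
# The key lemma on 2-groups without normal elementary abelian subgroups of order eight

`W` is maximal normal abelian of exponent four of order 16 and all normal subgroups of exponent two
have order at most four; `U` consists of the elements of `W` squaring to one, `T` centralizes `U`.

* `Ctx.key`: if `g ∈ T ∖ C(W)` inverts no element of order four of `W` and its coset is normal,
  then `g * g` is not in the subgroup generated by the squares of `C(W)`.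
-/

set_option autoImplicit false

namespace Cfsg.Agent.SecRank

universe u

variable {S : Type u} [Group S]

/-- The elements of `W` squaring to one. -/
def AbFour.sqOne {W : Subgroup S} (hW : AbFour W) : Subgroup S where
  carrier := {x | x ∈ W ∧ x * x = 1}
  one_mem' := ⟨one_mem W, one_mul 1⟩
  mul_mem' := by
    rintro a b ⟨ha, ha2⟩ ⟨hb, hb2⟩
    refine ⟨mul_mem ha hb, ?_⟩
    calc a * b * (a * b) = a * (b * a) * b := by group
      _ = (a * a) * (b * b) := by rw [hW.comm b hb a ha]; group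
      _ = 1 := by rw [ha2, hb2, one_mul]
  inv_mem' := by
    rintro a ⟨ha, ha2⟩
    exact ⟨inv_mem ha, by rw [← mul_inv_rev, ha2, inv_one]⟩

theorem sqOne_normal {W : Subgroup S} (hW : AbFour W) : hW.sqOne.Normal :=
  ⟨fun x hx g => ⟨hW.normal.conj_mem x hx.1 g, by
    rw [show g * x * g⁻¹ * (g * x * g⁻¹) = g * (x * x) * g⁻¹ by group, hx.2]; group⟩⟩

theorem card_le_sqOne_sq [Finite S] {W : Subgroup S} (hW : AbFour W) :
    Nat.card W ≤ Nat.card hW.sqOne * Nat.card hW.sqOne := by
  let f : W →* S :=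
    { toFun := fun w => (w : S) * w
      map_one' := by simp
      map_mul' := fun a b => by
        show (a : S) * b * (a * b) = a * a * (b * b)
        calc (a : S) * b * (a * b) = a * (b * a) * b := by group
          _ = _ := by rw [hW.comm b b.2 a a.2]; group }
  have h1 := card_split f ⊤
  rw [Subgroup.card_top, top_inf_eq, ← MonoidHom.range_eq_map] at h1
  rw [h1]
  refine Nat.mul_le_mul (Subgroup.card_le_of_le ?_) ?_
  · rintro _ ⟨w, rfl⟩
    refine ⟨mul_mem w.2 w.2, ?_⟩
    have := hW.exp w w.2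
    rw [show (4 : ℕ) = 2 * 2 from rfl, pow_mul, pow_two, pow_two] at this
    exact this
  · refine Nat.card_le_card_of_injective
      (fun w : f.ker => (⟨((w : W) : S), (w : W).2, w.2⟩ : hW.sqOne)) fun a b hab => ?_
    exact Subtype.ext (Subtype.ext (congrArg Subtype.val hab :))

variable (S) in
/-- No normal subgroup of exponent two of order more than four. -/
def NoEight : Prop :=
  ∀ E : Subgroup S, E.Normal → (∀ e ∈ E, e * e = 1) → Nat.card E ≤ 4

theorem card_sqOne_le (hno : NoEight S) {W : Subgroup S} (hW : AbFour W) :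
    Nat.card hW.sqOne ≤ 4 :=
  hno _ (sqOne_normal hW) fun _ he => he.2

/-- The centralizer of `W` has sections of exponent two of order at most `|U|`. -/
theorem card_le_of_le_centralizer [Finite S] (hS : IsPGroup 2 S) {W : Subgroup S} (hW : AbFour W)
    (hmax : ∀ W', AbFour W' → W ≤ W' → W' ≤ W) {N D : Subgroup S} (h : SqSub N D)
    (hD : D ≤ Subgroup.centralizer (W : Set S)) :
    Nat.card D ≤ Nat.card hW.sqOne * Nat.card N := by
  have h1 := (fourCentral_centralizer hS hW hmax).card_le (hS.to_subgroup _)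
    (h.subgroupOf (K := Subgroup.centralizer (W : Set S)))
  rw [Nat.card_congr (Subgroup.subgroupOfEquivOfLe hD).toEquiv,
    Nat.card_congr (Subgroup.subgroupOfEquivOfLe (h.1.trans hD)).toEquiv] at h1
  refine h1.trans (Nat.mul_le_mul_right _ (Nat.card_le_card_of_injective
    (fun z : omega (Subgroup.centralizer (W : Set S)) => (⟨((z : Subgroup.centralizer (W : Set S)) : S),
      mem_of_pow_four hS hW hmax z.1.2 (by
        simpa using congrArg Subtype.val (pow4_of_sq z.2.2)),
      congrArg Subtype.val z.2.2⟩ : hW.sqOne)) fun a b hab => ?_))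
  exact Subtype.ext (Subtype.ext (congrArg Subtype.val hab :))

variable (S) in
/-- The configuration. -/
structure Ctx where
  W : Subgroup S
  pGroup : IsPGroup 2 S
  hW : AbFour W
  max : ∀ W', AbFour W' → W ≤ W' → W' ≤ W
  noEight : NoEight S
  card_W : Nat.card W = 16

variable [Finite S] (X : Ctx S)

namespace Ctx

/-- The centralizer of `W`. -/
def C : Subgroup S := Subgroup.centralizer (X.W : Set S)

/-- The elements of `W` squaring to one. -/
def U : Subgroup S := X.hW.sqOne

/-- The centralizer of `U`. -/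
def T : Subgroup S := Subgroup.centralizer (X.U : Set S)

/-- The subgroup generated by the squares of `C`. -/
def Q : Subgroup S := Subgroup.closure {y | ∃ c ∈ X.C, c * c = y}

instance : X.W.Normal := X.hW.normal

instance : X.C.Normal := by
  have := X.hW.normal
  exact Subgroup.normal_centralizer

instance : X.U.Normal := sqOne_normal X.hW

instance : X.T.Normal := by
  have : X.U.Normal := inferInstance
  exact Subgroup.normal_centralizer

theorem card_U : Nat.card X.U = 4 := by
  have h1 := card_sqOne_le X.noEight X.hW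
  have h2 := card_le_sqOne_sq X.hW
  rw [X.card_W] at h2
  have h3 : Nat.card X.U = Nat.card X.hW.sqOne := rfl
  nlinarith

omit [Finite S] in
theorem U_le_W : X.U ≤ X.W := fun _ hx => hx.1

omit [Finite S] in
theorem W_le_C : X.W ≤ X.C := X.hW.le_centralizer

omit [Finite S] in
theorem comm_W {c w : S} (hc : c ∈ X.C) (hw : w ∈ X.W) : c * w = w * c :=
  (Subgroup.mem_centralizer_iff.mp hc w hw).symm

omit [Finite S] in
theorem comm_U {g u : S} (hg : g ∈ X.T) (hu : u ∈ X.U) : g * u = u * g :=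
  (Subgroup.mem_centralizer_iff.mp hg u hu).symm

omit [Finite S] in
theorem C_le_T : X.C ≤ X.T := fun c hc =>
  Subgroup.mem_centralizer_iff.mpr fun _ hu => (X.comm_W hc hu.1).symm

theorem mem_W_of_pow_four {x : S} (hx : x ∈ X.C) (h4 : x ^ 4 = 1) : x ∈ X.W :=
  mem_of_pow_four X.pGroup X.hW X.max hx h4

theorem fourCentral : FourCentral X.C := fourCentral_centralizer X.pGroup X.hW X.max

theorem exists_sqrt {u : S} (hu : u ∈ X.U) : ∃ w ∈ X.W, w * w = u := by
  let f : X.W →* S :=
    { toFun := fun w => (w : S) * w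
      map_one' := by simp
      map_mul' := fun a b => by
        show (a : S) * b * (a * b) = a * a * (b * b)
        calc (a : S) * b * (a * b) = a * (b * a) * b := by group
          _ = _ := by rw [X.hW.comm b b.2 a a.2]; group }
  have h1 := card_split f ⊤
  rw [Subgroup.card_top, top_inf_eq, ← MonoidHom.range_eq_map, X.card_W] at h1
  have hk : Nat.card f.ker ≤ Nat.card X.U := Nat.card_le_card_of_injective
    (fun w : f.ker => (⟨((w : X.W) : S), (w : X.W).2, w.2⟩ : X.U))
    fun a b hab => Subtype.ext (Subtype.ext (congrArg Subtype.val hab :))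
  have hr : f.range ≤ X.U := by
    rintro _ ⟨w, rfl⟩
    refine ⟨mul_mem w.2 w.2, ?_⟩
    have := X.hW.exp w w.2
    rwa [show (4 : ℕ) = 2 * 2 from rfl, pow_mul, pow_two, pow_two] at this
  rw [X.card_U] at hk
  have heq : f.range = X.U := Subgroup.eq_of_le_of_card_ge hr (by rw [X.card_U]; nlinarith)
  obtain ⟨w, hw⟩ : u ∈ f.range := heq ▸ hu
  exact ⟨w, w.2, hw⟩

theorem U_le_Q : X.U ≤ X.Q := fun _ hu => by
  obtain ⟨w, hw, rfl⟩ := X.exists_sqrt hu
  exact Subgroup.subset_closure ⟨w, X.W_le_C hw, rfl⟩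

omit [Finite S] in
theorem Q_le_C : X.Q ≤ X.C := by
  refine (Subgroup.closure_le _).mpr ?_
  rintro _ ⟨c, hc, rfl⟩
  exact mul_mem hc hc

omit [Finite S] in
/-- `g` moves each element of `W` inside its class modulo `U`. -/
theorem comm_mem_U {g w : S} (hg : g ∈ X.T) (hw : w ∈ X.W) : w⁻¹ * (g⁻¹ * w * g) ∈ X.U := by
  have hwg : g⁻¹ * w * g ∈ X.W := by simpa using X.hW.normal.conj_mem w hw g⁻¹
  refine ⟨mul_mem (inv_mem hw) hwg, ?_⟩
  have h2 : w * w ∈ X.U := by
    refine ⟨mul_mem hw hw, ?_⟩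
    have := X.hW.exp w hw
    rwa [show (4 : ℕ) = 2 * 2 from rfl, pow_mul, pow_two, pow_two] at this
  calc w⁻¹ * (g⁻¹ * w * g) * (w⁻¹ * (g⁻¹ * w * g))
      = w⁻¹ * ((g⁻¹ * w * g) * w⁻¹) * (g⁻¹ * w * g) := by group
    _ = w⁻¹ * (w⁻¹ * (g⁻¹ * w * g)) * (g⁻¹ * w * g) := by
        rw [X.hW.comm _ hwg _ (inv_mem hw)]
    _ = (w * w)⁻¹ * (g⁻¹ * ((w * w) * g)) := by group
    _ = 1 := by rw [← X.comm_U hg h2]; group

/-- `g` inverts no element of order four of `W`. -/
def NoInv (g : S) : Prop := ∀ w ∈ X.W, g⁻¹ * w * g * w = 1 → w * w = 1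

/-- `g` fixes no element of order four of `W`. -/
def NoFix (g : S) : Prop := ∀ w ∈ X.W, g⁻¹ * w * g = w → w * w = 1

omit [Finite S] in
theorem exists_pow_order (hS : IsPGroup 2 S) {x : S} {k : ℕ} (hx : x ^ (2 ^ k) ≠ 1) :
    ∃ n : ℕ, (x ^ (2 ^ n)) ^ (2 ^ (k + 1)) = 1 ∧ (x ^ (2 ^ n)) ^ (2 ^ k) ≠ 1 := by
  obtain ⟨m, hm⟩ := IsPGroup.iff_orderOf.mp hS x
  have hkm : k < m := by
    by_contra hle
    refine hx ?_
    rw [← Nat.sub_add_cancel (not_lt.mp hle), pow_add, mul_comm, pow_mul, ← hm, pow_orderOf_eq_one,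
      one_pow]
  refine ⟨m - (k + 1), ?_, ?_⟩
  · rw [← pow_mul, ← pow_add, Nat.sub_add_cancel hkm, ← hm, pow_orderOf_eq_one]
  · rw [← pow_mul, ← pow_add]
    refine pow_ne_one_of_lt_orderOf (by positivity) ?_
    rw [hm]
    exact Nat.pow_lt_pow_right (by norm_num) (by omega)

/-- Fixed elements of `C` lie in `U`. -/
theorem mem_U_of_fix {g d : S} (hg : X.NoFix g) (hd : d ∈ X.C) (hfix : g⁻¹ * d * g = d) :
    d ∈ X.U := by
  have h4 : d ^ 4 = 1 := by
    by_contra hne
    have hne' : d ^ (2 ^ 1) ≠ 1 := fun h => hne (by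
      rw [show (4 : ℕ) = 2 ^ 1 * 2 from rfl, pow_mul, h, one_pow])
    obtain ⟨n, h1, h2⟩ := exists_pow_order X.pGroup hne'
    have he := hg _ (X.mem_W_of_pow_four (pow_mem hd _) h1) (by
      rw [show g⁻¹ * d ^ 2 ^ n * g = (MulAut.conj g⁻¹) (d ^ 2 ^ n) by simp, map_pow,
        show (MulAut.conj g⁻¹) d = g⁻¹ * d * g by simp, hfix])
    exact h2 (by rw [pow_one, pow_two, he])
  have hW := X.mem_W_of_pow_four hd h4
  exact ⟨hW, hg d hW hfix⟩

/-- Inverted elements of `C` lie in `U`. -/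
theorem mem_U_of_inv {g d : S} (hg : X.NoInv g) (hd : d ∈ X.C) (hinv : g⁻¹ * d * g * d = 1) :
    d ∈ X.U := by
  have h0 : g⁻¹ * d * g = d⁻¹ := eq_inv_of_mul_eq_one_left hinv
  have h4 : d ^ 4 = 1 := by
    by_contra hne
    have hne' : d ^ (2 ^ 1) ≠ 1 := fun h => hne (by
      rw [show (4 : ℕ) = 2 ^ 1 * 2 from rfl, pow_mul, h, one_pow])
    obtain ⟨n, h1, h2⟩ := exists_pow_order X.pGroup hne'
    have he := hg _ (X.mem_W_of_pow_four (pow_mem hd _) h1) (by
      rw [show g⁻¹ * d ^ 2 ^ n * g = (MulAut.conj g⁻¹) (d ^ 2 ^ n) by simp, map_pow,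
        show (MulAut.conj g⁻¹) d = g⁻¹ * d * g by simp, h0, inv_pow, inv_mul_cancel])
    exact h2 (by rw [pow_one, pow_two, he])
  have hW := X.mem_W_of_pow_four hd h4
  exact ⟨hW, hg d hW hinv⟩

theorem comm_eight {d c : S} (hd : d ∈ X.C) (hc : c ∈ X.C) (h8 : d ^ 8 = 1) :
    d⁻¹ * (c⁻¹ * d * c) ∈ X.U := by
  obtain ⟨h1, h2⟩ := X.fourCentral.comm_mem (X.pGroup.to_subgroup _) (d := ⟨d, hd⟩)
    (Subtype.ext (by simpa using h8)) ⟨c, hc⟩
  have h2' : d⁻¹ * (c⁻¹ * d * c) * (d⁻¹ * (c⁻¹ * d * c)) = 1 := congrArg Subtype.val h2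
  exact ⟨X.mem_W_of_pow_four (mul_mem (inv_mem hd) (mul_mem (mul_mem (inv_mem hc) hd) hc))
    (pow4_of_sq h2'), h2'⟩

/-- If `g * g` is a product of squares in `C`, squares of elements of order eight are fixed. -/
theorem fix_sq {g d : S} (hg : g ∈ X.T) (hn : X.NoInv g) (hQ : g * g ∈ X.Q) (hd : d ∈ X.C)
    (h8 : d ^ 8 = 1) : g⁻¹ * (d * d) * g = d * d := by
  have hQd : ∀ q ∈ X.Q, q * d = d * q := by
    intro q hq
    have hle : X.Q ≤ Subgroup.centralizer ({d} : Set S) := by
      refine (Subgroup.closure_le _).mpr ?_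
      rintro _ ⟨c, hc, rfl⟩
      rw [SetLike.mem_coe, Subgroup.mem_centralizer_singleton_iff]
      have hu := X.comm_eight hd hc h8
      set u := d⁻¹ * (c⁻¹ * d * c) with hu'
      have e : d * c = c * d * u := by rw [hu']; group
      calc c * c * d = c * c * d * (u * u) := by rw [hu.2, mul_one]
        _ = c * (c * d * u) * u := by group
        _ = c * d * (c * u) := by rw [← e]; group
        _ = c * d * (u * c) := by rw [X.comm_W hc hu.1]
        _ = c * d * u * c := by group
        _ = d * (c * c) := by rw [← e]; group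
    exact Subgroup.mem_centralizer_singleton_iff.mp (hle hq)
  set d' := g⁻¹ * d * g with hd'
  have hd'C : d' ∈ X.C := by simpa [hd'] using (inferInstance : X.C.Normal).conj_mem d hd g⁻¹
  have hd2 : d * d ∈ X.W := X.mem_W_of_pow_four (mul_mem hd hd) (by
    rw [← pow_two, ← pow_mul]; exact h8)
  have hu := X.comm_mem_U hg hd2
  set u := (d * d)⁻¹ * (g⁻¹ * (d * d) * g) with hu'
  have hsq : d' * d' = d * d * u := by rw [hu', hd']; group
  set v := d⁻¹ * d' with hv
  have hvC : v ∈ X.C := mul_mem (inv_mem hd) hd'C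
  have hc0 := X.comm_eight hd hd'C h8
  set c := d⁻¹ * (d'⁻¹ * d * d') with hc
  have hdd : d * d' = d' * d * c := by rw [hc]; group
  have e1 : d' * d⁻¹ = d⁻¹ * d' * c := by
    calc d' * d⁻¹ = d⁻¹ * (d * d') * d⁻¹ := by group
      _ = d⁻¹ * (d' * d * c) * d⁻¹ := by rw [hdd]
      _ = d⁻¹ * d' * (d * (c * d⁻¹)) := by group
      _ = d⁻¹ * d' * c := by
          rw [← X.comm_W (inv_mem hd) hc0.1, mul_inv_cancel_left]
  have hvv : v * v = u * c := by
    calc v * v = d⁻¹ * (d' * d⁻¹) * d' := by rw [hv]; group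
      _ = d⁻¹ * d⁻¹ * d' * (c * d') := by rw [e1]; group
      _ = d⁻¹ * d⁻¹ * (d' * d') * c := by rw [← X.comm_W hd'C hc0.1]; group
      _ = u * c := by rw [hsq]; group
  have hvW : v ∈ X.W := X.mem_W_of_pow_four hvC (by
    rw [show (4 : ℕ) = 2 * 2 from rfl, pow_mul, pow_two, pow_two, hvv]
    exact (mul_mem hu hc0 : u * c ∈ X.U).2)
  have e2 : g⁻¹ * v * g * v = 1 := by
    have h1 : (g * g)⁻¹ * d * (g * g) = d := by
      rw [mul_assoc, ← hQd _ hQ, inv_mul_cancel_left]
    have h2 : (g * g)⁻¹ * d * (g * g) = d * (v * (g⁻¹ * v * g)) := by rw [hv, hd']; group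
    have h3 : v * (g⁻¹ * v * g) = 1 := by
      rw [h1] at h2
      exact left_eq_mul.mp h2
    rw [X.hW.comm _ (by simpa using X.hW.normal.conj_mem v hvW g⁻¹) v hvW]
    exact h3
  have hv2 : v * v = 1 := hn v hvW e2
  calc g⁻¹ * (d * d) * g = d' * d' := by rw [hd']; group
    _ = d * (v * d) * v := by rw [hv]; group
    _ = d * d * (v * v) := by rw [← X.comm_W hd hvW]; group
    _ = d * d := by rw [hv2, mul_one]

theorem C_abelian {g : S} (hg : g ∈ X.T) (hgC : g ∉ X.C) (hn : X.NoInv g) (hQ : g * g ∈ X.Q) :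
    ∀ a ∈ X.C, ∀ b ∈ X.C, a * b = b * a := by
  intro a ha b hb
  let F : Subgroup S := X.W ⊓ Subgroup.centralizer ({g} : Set S)
  have hUF : X.U ≤ F := fun u hu => ⟨hu.1, by
    show u ∈ Subgroup.centralizer ({g} : Set S)
    rw [Subgroup.mem_centralizer_singleton_iff]
    exact (X.comm_U hg hu).symm⟩
  have hF : Nat.card F ≤ 8 := by
    by_contra hlt
    have hd := Subgroup.card_dvd_of_le (inf_le_left : F ≤ X.W)
    rw [X.card_W] at hd
    have h16 : Nat.card F = 16 := by
      have := Nat.le_of_dvd (by norm_num) hd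
      interval_cases (Nat.card F) <;> first | rfl | omega
    have heq : F = X.W := Subgroup.eq_of_le_of_card_ge inf_le_left (by rw [h16, X.card_W])
    refine hgC (Subgroup.mem_centralizer_iff.mpr fun w hw => ?_)
    have : w ∈ F := heq ▸ hw
    exact Subgroup.mem_centralizer_singleton_iff.mp this.2
  have h4 := X.fourCentral
  have hP := X.pGroup.to_subgroup X.C
  let π1 := QuotientGroup.mk' (omega X.C)
  let π2 := QuotientGroup.mk' (omega (X.C ⧸ omega X.C))
  have hsmall : Nat.card (omega ((X.C ⧸ omega X.C) ⧸ omega (X.C ⧸ omega X.C))) ≤ 2 := by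
    set O := omega ((X.C ⧸ omega X.C) ⧸ omega (X.C ⧸ omega X.C))
    choose r hr using fun q : O => QuotientGroup.mk'_surjective (omega (X.C ⧸ omega X.C))
      (q : (X.C ⧸ omega X.C) ⧸ omega (X.C ⧸ omega X.C))
    choose x hx using fun q : O => QuotientGroup.mk'_surjective (omega X.C) (r q)
    have hx4 : ∀ q, (π1 (x q)) ^ 4 = 1 := fun q => by
      have h1 : π2 (π1 (x q) * π1 (x q)) = 1 := by
        rw [map_mul, hx q, hr q]; exact q.2.2
      have h2 := ((QuotientGroup.eq_one_iff _).mp h1).2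
      rw [show (4 : ℕ) = 2 * 2 from rfl, pow_mul, pow_two, pow_two]
      exact h2
    have hx8 : ∀ q, ((x q : X.C) : S) ^ 8 = 1 := fun q => by
      simpa using congrArg Subtype.val (FourCentral.pow_eight_of_mk (hx4 q))
    have hfix : ∀ q, ((x q : X.C) : S) * x q ∈ F := fun q =>
      ⟨X.mem_W_of_pow_four (mul_mem (x q).2 (x q).2) (by
        rw [← pow_two, ← pow_mul]; exact hx8 q), by
      show ((x q : X.C) : S) * x q ∈ Subgroup.centralizer ({g} : Set S)
      rw [Subgroup.mem_centralizer_singleton_iff]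
      have := X.fix_sq hg hn hQ (x q).2 (hx8 q)
      calc ((x q : X.C) : S) * x q * g = g * (g⁻¹ * (((x q : X.C) : S) * x q) * g) := by group
        _ = g * (((x q : X.C) : S) * x q) := by rw [this]⟩
    have hinj : Function.Injective fun p : O × X.U =>
        (⟨((x p.1 : X.C) : S) * x p.1 * p.2, mul_mem (hfix p.1) (hUF p.2.2)⟩ : F) := by
      rintro ⟨p, v⟩ ⟨q, w⟩ hpq
      have he : ((x p : X.C) : S) * x p * v = ((x q : X.C) : S) * x q * w :=
        congrArg Subtype.val hpq
      have hm : (((x p * x p)⁻¹ * (x q * x q) : X.C) : S) = (v : S) * (w : S)⁻¹ := by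
        push_cast
        calc (((x p : X.C) : S) * x p)⁻¹ * (((x q : X.C) : S) * x q)
            = (((x p : X.C) : S) * x p)⁻¹ * (((x q : X.C) : S) * x q * w) * (w : S)⁻¹ := by group
          _ = (v : S) * (w : S)⁻¹ := by rw [← he]; group
      have h1 : π1 (x p * x p) = π1 (x q * x q) := by
        refine (QuotientGroup.eq (s := omega X.C)).mpr (h4.mem_omega_of_sq (Subtype.ext ?_))
        rw [Subgroup.coe_mul, hm]
        exact (mul_mem v.2 (inv_mem w.2) : (v : S) * (w : S)⁻¹ ∈ X.U).2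
      have hc := (h4.quotient_omega hP) _ (hx4 p)
      have h2 : (π1 (x p))⁻¹ * π1 (x q) ∈ omega (X.C ⧸ omega X.C) := by
        refine (h4.quotient_omega hP).mem_omega_of_sq ?_
        calc (π1 (x p))⁻¹ * π1 (x q) * ((π1 (x p))⁻¹ * π1 (x q))
            = (π1 (x p))⁻¹ * (π1 (x q) * (π1 (x p))⁻¹) * π1 (x q) := by group
          _ = (π1 (x p) * π1 (x p))⁻¹ * (π1 (x q) * π1 (x q)) := by
              rw [show π1 (x q) * (π1 (x p))⁻¹ = (π1 (x p))⁻¹ * π1 (x q) from
                (Commute.inv_left (hc (π1 (x q)))).eq.symm]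
              group
          _ = 1 := by rw [← map_mul, ← map_mul, h1, inv_mul_cancel]
      have hpq' : p = q := Subtype.ext (by
        rw [← hr p, ← hr q, ← hx p, ← hx q]
        exact (QuotientGroup.eq (s := omega (X.C ⧸ omega X.C))).mpr h2)
      subst hpq'
      rw [Subtype.ext (mul_left_cancel he)]
    have h := Nat.card_le_card_of_injective _ hinj
    rw [Nat.card_prod, X.card_U] at h
    omega
  exact congrArg Subtype.val (h4.abelian_of_small hP hsmall ⟨a, ha⟩ ⟨b, hb⟩)

theorem key {g : S} (hg : g ∈ X.T) (hgC : g ∉ X.C) (hn : X.NoInv g)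
    (hst : ∀ h : S, g⁻¹ * (h⁻¹ * g * h) ∈ X.C) : g * g ∉ X.Q := by
  intro hQ
  have : Fact (Nat.Prime 2) := ⟨Nat.prime_two⟩
  have hab := X.C_abelian hg hgC hn hQ
  have hconj : ∀ d ∈ X.C, g⁻¹ * d * g ∈ X.C := fun d hd => by
    simpa using (inferInstance : X.C.Normal).conj_mem d hd g⁻¹
  let δ : X.C →* S :=
    { toFun := fun d => g⁻¹ * (d : S) * g * d
      map_one' := by simp
      map_mul' := fun a b => by
        show g⁻¹ * ((a : S) * b) * g * (a * b) = g⁻¹ * a * g * a * (g⁻¹ * b * g * b)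
        calc g⁻¹ * ((a : S) * b) * g * (a * b)
            = g⁻¹ * a * g * ((g⁻¹ * b * g) * a) * b := by group
          _ = _ := by rw [hab _ (hconj b b.2) a a.2]; group }
  let sq : X.C →* S :=
    { toFun := fun d => (d : S) * d
      map_one' := by simp
      map_mul' := fun a b => by
        show (a : S) * b * (a * b) = a * a * (b * b)
        calc (a : S) * b * (a * b) = a * (b * a) * b := by group
          _ = _ := by rw [hab b b.2 a a.2]; group }
  have hker : ∀ d : X.C, δ d = 1 ↔ (d : S) ∈ X.U := fun d => by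
    constructor
    · exact fun h => X.mem_U_of_inv hn d.2 h
    · intro h
      show g⁻¹ * (d : S) * g * d = 1
      rw [mul_assoc g⁻¹, ← X.comm_U hg h, inv_mul_cancel_left, h.2]
  have hker2 : δ.ker = sq.ker := by
    ext d
    rw [MonoidHom.mem_ker, MonoidHom.mem_ker, hker]
    constructor
    · exact fun h => h.2
    · exact fun h => ⟨X.mem_W_of_pow_four d.2 (pow4_of_sq h), h⟩
  have hQr : X.Q = sq.range := by
    refine le_antisymm ((Subgroup.closure_le _).mpr ?_) ?_
    · rintro _ ⟨c, hc, rfl⟩; exact ⟨⟨c, hc⟩, rfl⟩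
    · rintro _ ⟨c, rfl⟩; exact Subgroup.subset_closure ⟨c, c.2, rfl⟩
  have hle : δ.range ≤ X.Q := by
    rintro _ ⟨d, rfl⟩
    set v := (d : S)⁻¹ * (g⁻¹ * d * g) with hv
    have hvC : v ∈ X.C := mul_mem (inv_mem d.2) (hconj d d.2)
    have h1 : (g * g)⁻¹ * (d : S) * (g * g) = d := by
      rw [mul_assoc, ← hab _ (X.Q_le_C hQ) d d.2, inv_mul_cancel_left]
    have h2 : (g * g)⁻¹ * (d : S) * (g * g) = d * (v * (g⁻¹ * v * g)) := by rw [hv]; group
    have h3 : v * (g⁻¹ * v * g) = 1 := by rw [h1] at h2; exact left_eq_mul.mp h2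
    have hvU : v ∈ X.U := X.mem_U_of_inv hn hvC (by rw [hab _ (hconj v hvC) v hvC]; exact h3)
    have e : δ d = (d : S) * (v * d) := by
      show g⁻¹ * (d : S) * g * d = _
      rw [hv]; group
    rw [e, hab v hvC d d.2, ← mul_assoc]
    exact mul_mem (Subgroup.subset_closure ⟨d, d.2, rfl⟩) (X.U_le_Q hvU)
  have hc1 := card_split δ ⊤
  have hc2 := card_split sq ⊤
  rw [← MonoidHom.range_eq_map, top_inf_eq] at hc1 hc2
  rw [← hker2, hc1] at hc2
  have heq : δ.range = X.Q := Subgroup.eq_of_le_of_card_ge hle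
    (le_of_eq (by rw [hQr]; exact (Nat.eq_of_mul_eq_mul_right Nat.card_pos hc2).symm))
  obtain ⟨d, hd⟩ : (g * g)⁻¹ ∈ δ.range := heq ▸ inv_mem hQ
  set x := g * (d : S) with hx
  have hx2 : x * x = 1 := by
    calc x * x = g * g * (g⁻¹ * (d : S) * g * d) := by rw [hx]; group
      _ = g * g * δ d := rfl
      _ = 1 := by rw [hd, mul_inv_cancel]
  have hxC : x ∉ X.C := fun h => hgC (by
    have := mul_mem h (inv_mem d.2); rwa [hx, mul_inv_cancel_right] at this)
  have hxT : x ∈ X.T := mul_mem hg (X.C_le_T d.2)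
  have hxU : x ∉ X.U := fun h => hxC (X.W_le_C h.1)
  have hconjx : ∀ h : S, x⁻¹ * (h⁻¹ * x * h) ∈ X.U := fun h => by
    set e := x⁻¹ * (h⁻¹ * x * h) with he
    have heC : e ∈ X.C := by
      have e' : e = (d : S)⁻¹ * ((g⁻¹ * (h⁻¹ * g * h)) * (h⁻¹ * d * h)) := by
        rw [he, hx]; group
      rw [e']
      exact mul_mem (inv_mem d.2) (mul_mem (hst h)
        (by simpa using (inferInstance : X.C.Normal).conj_mem (d : S) d.2 h⁻¹))
    refine X.mem_U_of_inv hn heC ?_
    have e1 : x * e * (x * e) = 1 := by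
      rw [show x * e * (x * e) = h⁻¹ * (x * x) * h by rw [he]; group, hx2]; group
    have hxi : x⁻¹ = x := inv_eq_of_mul_eq_one_right hx2
    calc g⁻¹ * e * g * e = g⁻¹ * e * g * (d : S) * (d : S)⁻¹ * e := by group
      _ = (d : S)⁻¹ * (g⁻¹ * e * g * (d : S)) * e := by
          rw [hab _ (mul_mem (hconj e heC) d.2) _ (inv_mem d.2)]
      _ = x⁻¹ * e * x * e := by rw [hx]; group
      _ = 1 := by rw [hxi, show x * e * x * e = x * e * (x * e) by group, e1]
  let E := X.U ⊔ Subgroup.zpowers x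
  have hEc : Nat.card E = 8 := by
    show Nat.card ↥(X.U ⊔ Subgroup.zpowers x) = 8
    rw [PGroup.card_sup_zpowers (p := 2) X.U hxU (by rw [pow_two, hx2]; exact one_mem _),
      X.card_U]
  have hxE : x ∈ E := Subgroup.mem_sup_right (Subgroup.mem_zpowers x)
  have hEn : E.Normal := by
    constructor
    intro a ha h
    have hle : E ≤ E.comap (MulAut.conj h).toMonoidHom := by
      refine sup_le (fun u hu => ?_) (Subgroup.zpowers_le.mpr ?_)
      · exact Subgroup.mem_sup_left ((inferInstance : X.U.Normal).conj_mem u hu h)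
      · show h * x * h⁻¹ ∈ E
        rw [show h * x * h⁻¹ = x * (x⁻¹ * (h⁻¹⁻¹ * x * h⁻¹)) by group]
        exact mul_mem hxE (Subgroup.mem_sup_left (hconjx h⁻¹))
    exact hle ha
  have hexp : ∀ a ∈ E, a * a = 1 := by
    intro a ha
    let K : Subgroup S :=
      { carrier := {a | ∃ u ∈ X.U, a = u ∨ a = x * u}
        one_mem' := ⟨1, one_mem _, Or.inl rfl⟩
        mul_mem' := by
          rintro a b ⟨u, hu, rfl | rfl⟩ ⟨w, hw, rfl | rfl⟩
          · exact ⟨_, mul_mem hu hw, Or.inl rfl⟩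
          · exact ⟨_, mul_mem hu hw, Or.inr (by rw [← mul_assoc, ← X.comm_U hxT hu, mul_assoc])⟩
          · exact ⟨_, mul_mem hu hw, Or.inr (mul_assoc _ _ _)⟩
          · refine ⟨_, mul_mem hu hw, Or.inl ?_⟩
            calc x * u * (x * w) = x * (u * x) * w := by group
              _ = x * x * (u * w) := by rw [← X.comm_U hxT hu]; group
              _ = u * w := by rw [hx2, one_mul]
        inv_mem' := by
          rintro a ⟨u, hu, rfl | rfl⟩
          · exact ⟨_, inv_mem hu, Or.inl rfl⟩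
          · refine ⟨_, inv_mem hu, Or.inr ?_⟩
            rw [mul_inv_rev, inv_eq_of_mul_eq_one_right hx2]
            exact (X.comm_U hxT (inv_mem hu)).symm }
    have hEK : E ≤ K := sup_le (fun u hu => ⟨u, hu, Or.inl rfl⟩)
      (Subgroup.zpowers_le.mpr ⟨1, one_mem _, Or.inr (mul_one x).symm⟩)
    obtain ⟨u, hu, rfl | rfl⟩ := hEK ha
    · exact hu.2
    · calc x * u * (x * u) = x * (u * x) * u := by group
        _ = x * x * (u * u) := by rw [← X.comm_U hxT hu]; group
        _ = 1 := by rw [hx2, hu.2, one_mul]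
  have := X.noEight E hEn hexp
  omega

end Ctx

end Cfsg.Agent.SecRank
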