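import Cfsg.Agent.Lib.SecRank.Key
import Cfsg.Agent.Lib.SecRank.Flag

/-!
# 2-groups without normal elementary abelian subgroups of order eight have sectional rank at most 4

* `card_le_sixteen_mul_of_noEight`: sections of exponent two have order at most 16.
-/

set_option autoImplicit false

namespace Cfsg.Agent.SecRank

universe u

variable {S : Type u} [Group S] [Finite S]

/-- Coordinates of pairs of elements of `U`. -/
abbrev V4 := (ZMod 2 × ZMod 2) × (ZMod 2 × ZMod 2)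

/-- The action of an element outside `T` on coordinates. -/
def sigma (v : V4) : V4 :=
  ((v.1.1, v.1.2 + v.1.1), (v.1.1 + v.2.1, v.1.2 + v.2.2 + (v.1.1 + v.2.1)))

/-- No element of order four is inverted. -/
def InvCond (v : V4) : Prop :=
  (0, 1) + v.1 ≠ 0 ∧ (1, 0) + v.2 ≠ 0 ∧ (0, 1) + v.1 ≠ (1, 0) + v.2

/-- No element of order four is fixed. -/
def FixCond (v : V4) : Prop := v.1 ≠ 0 ∧ v.2 ≠ 0 ∧ v.1 ≠ v.2

/-- The canonical nilpotent value. -/
abbrev vN : V4 := ((0, 0), (0, 1))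

/-- The four further values without inverted elements. -/
abbrev vA : V4 := ((1, 0), (0, 0))
/-- See `vA`. -/
abbrev vB : V4 := ((1, 1), (1, 1))
/-- See `vA`. -/
abbrev vT : V4 := ((1, 0), (1, 1))
/-- See `vA`. -/
abbrev vT' : V4 := ((1, 1), (0, 1))

namespace Ctx

variable (X : Ctx S)

/-- A basis of `W` adapted to a central involution. -/
structure Basis where
  z : S
  u : S
  e1 : S
  e2 : S
  zU : z ∈ X.U
  uU : u ∈ X.U
  z1 : z ≠ 1
  u1 : u ≠ 1
  uz : u ≠ z
  zc : ∀ g : S, g * z = z * g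
  e1W : e1 ∈ X.W
  e2W : e2 ∈ X.W
  sq1 : e1 * e1 = z
  sq2 : e2 * e2 = u

theorem exists_basis : Nonempty X.Basis := by
  have : Fact (Nat.Prime 2) := ⟨Nat.prime_two⟩
  have hne : X.U ≠ ⊥ := fun h => by
    have := X.card_U
    rw [h, Subgroup.card_bot] at this
    omega
  obtain ⟨z, hzU, hzc, hz2⟩ := PGroup.exists_orderOf_eq_mem_center X.pGroup X.U hne
  have hz1 : z ≠ 1 := fun h => by rw [h, orderOf_one] at hz2; omega
  have hlt : ¬ X.U ≤ Subgroup.zpowers z := fun h => by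
    have := Subgroup.card_le_of_le h
    rw [X.card_U, Nat.card_zpowers, hz2] at this
    omega
  obtain ⟨u, hu, huz⟩ := SetLike.not_le_iff_exists.mp hlt
  obtain ⟨e1, he1, hs1⟩ := X.exists_sqrt hzU
  obtain ⟨e2, he2, hs2⟩ := X.exists_sqrt hu
  exact ⟨⟨z, u, e1, e2, hzU, hu, hz1, fun h => huz (h ▸ one_mem _),
    fun h => huz (h ▸ Subgroup.mem_zpowers z), fun g => Subgroup.mem_center_iff.mp hzc g,
    he1, he2, hs1, hs2⟩⟩

namespace Basis

variable {X} (B : X.Basis)

/-- Coordinates for `U`. -/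
def ι (v : ZMod 2 × ZMod 2) : S := (if v.1 = 1 then B.u else 1) * (if v.2 = 1 then B.z else 1)

omit [Finite S] in
theorem ι_mem (v : ZMod 2 × ZMod 2) : B.ι v ∈ X.U := by
  refine mul_mem ?_ ?_ <;> split <;> first | exact B.uU | exact B.zU | exact one_mem _

omit [Finite S] in
theorem ι_add (v w : ZMod 2 × ZMod 2) : B.ι (v + w) = B.ι v * B.ι w := by
  have hz : B.z * B.z = 1 := B.zU.2
  have hu : B.u * B.u = 1 := B.uU.2
  have hc : B.z * B.u = B.u * B.z := (B.zc B.u).symm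
  have hz' : ∀ a, a * B.z * B.z = a := fun a => by rw [mul_assoc, hz, mul_one]
  have hc' : ∀ a, a * B.z * B.u = a * B.u * B.z := fun a => by rw [mul_assoc, hc, ← mul_assoc]
  obtain ⟨a, b⟩ := v
  obtain ⟨c, d⟩ := w
  have z2 : ∀ x : ZMod 2, x = 0 ∨ x = 1 := by decide
  rcases z2 a with rfl | rfl <;> rcases z2 b with rfl | rfl <;> rcases z2 c with rfl | rfl <;>
    rcases z2 d with rfl | rfl <;>
    simp [ι, hz, hu, hc, hz', hc', show (1 : ZMod 2) + 1 = 0 from rfl,
      ← mul_assoc]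

omit [Finite S] in
theorem ι_injective : Function.Injective B.ι := by
  have key : ∀ v, B.ι v = 1 → v = 0 := by
    rintro ⟨a, b⟩ h
    have z2 : ∀ x : ZMod 2, x = 0 ∨ x = 1 := by decide
    rcases z2 a with rfl | rfl <;> rcases z2 b with rfl | rfl <;> simp [ι] at h ⊢
    · exact B.z1 h
    · exact B.u1 h
    · exact B.uz (by rw [eq_inv_of_mul_eq_one_left h, inv_eq_of_mul_eq_one_right B.zU.2])
  intro v w h
  have h0 : B.ι (v + w) = 1 := by rw [B.ι_add, h]; exact (B.ι_mem w).2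
  have hvw := key _ h0
  have aux : ∀ v w : ZMod 2 × ZMod 2, v + w = 0 → v = w := by decide
  exact aux v w hvw

theorem ι_surj {x : S} (hx : x ∈ X.U) : ∃ v, B.ι v = x := by
  have h1 : B.u * B.z ≠ 1 := fun h => B.uz (by
    rw [eq_inv_of_mul_eq_one_left h, inv_eq_of_mul_eq_one_right B.zU.2])
  rcases four_cases X.card_U B.zU B.uU B.z1 B.u1 B.uz h1 hx with h | h | h | h <;> subst h
  · exact ⟨(0, 0), by simp [ι]⟩
  · exact ⟨(0, 1), by simp [ι]⟩
  · exact ⟨(1, 0), by simp [ι]⟩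
  · exact ⟨(1, 1), by simp [ι]⟩

/-- The coordinates of the action of `g` on the basis. -/
noncomputable def psi (g : S) : V4 :=
  (Function.invFun B.ι (B.e1⁻¹ * (g⁻¹ * B.e1 * g)),
   Function.invFun B.ι (B.e2⁻¹ * (g⁻¹ * B.e2 * g)))

theorem psi_fst {g : S} (hg : g ∈ X.T) : B.ι (B.psi g).1 = B.e1⁻¹ * (g⁻¹ * B.e1 * g) :=
  Function.invFun_eq (B.ι_surj (X.comm_mem_U hg B.e1W))

theorem psi_snd {g : S} (hg : g ∈ X.T) : B.ι (B.psi g).2 = B.e2⁻¹ * (g⁻¹ * B.e2 * g) :=
  Function.invFun_eq (B.ι_surj (X.comm_mem_U hg B.e2W))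

theorem psi_mul {g h : S} (hg : g ∈ X.T) (hh : h ∈ X.T) :
    B.psi (g * h) = B.psi g + B.psi h := by
  have hU : ∀ a ∈ X.U, ∀ b ∈ X.U, a * b = b * a := fun a ha b hb => X.hW.comm a ha.1 b hb.1
  have key : ∀ e ∈ X.W, e⁻¹ * ((g * h)⁻¹ * e * (g * h)) =
      (e⁻¹ * (g⁻¹ * e * g)) * (e⁻¹ * (h⁻¹ * e * h)) := fun e he => by
    have h1 : h⁻¹ * (e⁻¹ * (g⁻¹ * e * g)) * h = e⁻¹ * (g⁻¹ * e * g) := by
      rw [mul_assoc, ← X.comm_U hh (X.comm_mem_U hg he), inv_mul_cancel_left]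
    rw [hU _ (X.comm_mem_U hg he) _ (X.comm_mem_U hh he)]
    conv_rhs => rw [← h1]
    group
  refine Prod.ext (B.ι_injective ?_) (B.ι_injective ?_)
  · rw [B.psi_fst (mul_mem hg hh), Prod.fst_add, B.ι_add, B.psi_fst hg, B.psi_fst hh, key _ B.e1W]
  · rw [B.psi_snd (mul_mem hg hh), Prod.snd_add, B.ι_add, B.psi_snd hg, B.psi_snd hh, key _ B.e2W]

/-- The coordinate homomorphism. -/
noncomputable def phi : X.T →* Multiplicative V4 :=
  MonoidHom.mk' (fun g => Multiplicative.ofAdd (B.psi g)) fun a b => by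
    rw [Subgroup.coe_mul, B.psi_mul a.2 b.2, ofAdd_add]

theorem cover {w : S} (hw : w ∈ X.W) :
    ∃ c ∈ X.U, w = c ∨ w = B.e1 * c ∨ w = B.e2 * c ∨ w = B.e1 * B.e2 * c := by
  have hU : ∀ e ∈ X.W, e * e = w * w → e⁻¹ * w ∈ X.U := fun e he h => by
    refine ⟨mul_mem (inv_mem he) hw, ?_⟩
    calc e⁻¹ * w * (e⁻¹ * w) = e⁻¹ * (w * e⁻¹) * w := by group
      _ = (e * e)⁻¹ * (w * w) := by rw [X.hW.comm w hw _ (inv_mem he)]; group
      _ = 1 := by rw [h, inv_mul_cancel]
  have h2 : w * w ∈ X.U := by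
    refine ⟨mul_mem hw hw, ?_⟩
    have := X.hW.exp w hw
    rwa [show (4 : ℕ) = 2 * 2 from rfl, pow_mul, pow_two, pow_two] at this
  have h1 : B.u * B.z ≠ 1 := fun h => B.uz (by
    rw [eq_inv_of_mul_eq_one_left h, inv_eq_of_mul_eq_one_right B.zU.2])
  rcases four_cases X.card_U B.zU B.uU B.z1 B.u1 B.uz h1 h2 with h | h | h | h
  · exact ⟨w, ⟨hw, h⟩, Or.inl rfl⟩
  · exact ⟨_, hU _ B.e1W (B.sq1.trans h.symm), Or.inr (Or.inl (by group))⟩
  · exact ⟨_, hU _ B.e2W (B.sq2.trans h.symm), Or.inr (Or.inr (Or.inl (by group)))⟩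
  · refine ⟨_, hU _ (mul_mem B.e1W B.e2W) ?_, Or.inr (Or.inr (Or.inr (by group)))⟩
    calc B.e1 * B.e2 * (B.e1 * B.e2) = B.e1 * (B.e2 * B.e1) * B.e2 := by group
      _ = (B.e1 * B.e1) * (B.e2 * B.e2) := by rw [X.hW.comm _ B.e2W _ B.e1W]; group
      _ = w * w := by rw [B.sq1, B.sq2, h, B.zc B.u]

omit [Finite S] in
theorem ι_zero : B.ι 0 = 1 := by simp [ι]

theorem mem_C_iff {g : S} (hg : g ∈ X.T) : g ∈ X.C ↔ B.psi g = 0 := by
  constructor
  · intro h
    refine Prod.ext (B.ι_injective ?_) (B.ι_injective ?_)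
    · rw [B.psi_fst hg, Prod.fst_zero, B.ι_zero, mul_assoc g⁻¹, ← X.comm_W h B.e1W]; group
    · rw [B.psi_snd hg, Prod.snd_zero, B.ι_zero, mul_assoc g⁻¹, ← X.comm_W h B.e2W]; group
  · intro h
    have f1 := B.psi_fst hg
    have f2 := B.psi_snd hg
    rw [h, Prod.fst_zero, B.ι_zero] at f1
    rw [h, Prod.snd_zero, B.ι_zero] at f2
    have g1 : B.e1 * g = g * B.e1 := by
      calc B.e1 * g = g * (B.e1 * (B.e1⁻¹ * (g⁻¹ * B.e1 * g))) := by group
        _ = g * B.e1 := by rw [← f1, mul_one]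
    have g2 : B.e2 * g = g * B.e2 := by
      calc B.e2 * g = g * (B.e2 * (B.e2⁻¹ * (g⁻¹ * B.e2 * g))) := by group
        _ = g * B.e2 := by rw [← f2, mul_one]
    refine Subgroup.mem_centralizer_iff.mpr fun w hw => ?_
    obtain ⟨c, hc, h' | h' | h' | h'⟩ := B.cover hw
    · rw [h', X.comm_U hg hc]
    · rw [h', mul_assoc, ← X.comm_U hg hc, ← mul_assoc, g1, mul_assoc]
    · rw [h', mul_assoc, ← X.comm_U hg hc, ← mul_assoc, g2, mul_assoc]
    · rw [h', mul_assoc, ← X.comm_U hg hc, ← mul_assoc, mul_assoc B.e1, g2, ← mul_assoc, g1]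
      group

theorem ker_phi : B.phi.ker = X.C.subgroupOf X.T := by
  ext g
  rw [MonoidHom.mem_ker, Subgroup.mem_subgroupOf, B.mem_C_iff g.2]
  exact ofAdd_eq_one

omit [Finite S] in
/-- The value of `g ↦ g⁻¹ e g` on a product. -/
theorem conj_mul (g : S) (a c : S) : g⁻¹ * (a * c) * g = (g⁻¹ * a * g) * (g⁻¹ * c * g) := by
  group

theorem noInv {g : S} (hg : g ∈ X.T) (h : InvCond (B.psi g)) : X.NoInv g := by
  intro w hw heq
  obtain ⟨c, hc, h'⟩ := B.cover hw
  rcases h' with h' | hrest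
  · rw [h']; exact hc.2
  exfalso
  have hcg : g⁻¹ * c * g = c := by rw [mul_assoc, ← X.comm_U hg hc, inv_mul_cancel_left]
  have main : ∀ e ∈ X.W, w = e * c → (e * e) * (e⁻¹ * (g⁻¹ * e * g)) = 1 := fun e he hwe => by
    rw [hwe, conj_mul, hcg] at heq
    have hge : g⁻¹ * e * g ∈ X.W := by simpa using X.hW.normal.conj_mem e he g⁻¹
    calc (e * e) * (e⁻¹ * (g⁻¹ * e * g)) = e * (g⁻¹ * e * g) := by group
      _ = (g⁻¹ * e * g) * e := X.hW.comm _ he _ hge
      _ = (g⁻¹ * e * g) * e * (c * c) := by rw [hc.2, mul_one]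
      _ = g⁻¹ * e * g * (e * c) * c := by group
      _ = g⁻¹ * e * g * (c * e) * c := by rw [X.hW.comm e he c hc.1]
      _ = g⁻¹ * e * g * c * (e * c) := by group
      _ = 1 := heq
  have z01 : B.ι (0, 1) = B.z := by simp [ι]
  have u10 : B.ι (1, 0) = B.u := by simp [ι]
  rcases hrest with h' | h' | h'
  · refine h.1 (B.ι_injective ?_)
    rw [B.ι_add, z01, B.psi_fst hg, ← B.sq1, B.ι_zero]
    exact main _ B.e1W h'
  · refine h.2.1 (B.ι_injective ?_)
    rw [B.ι_add, u10, B.psi_snd hg, ← B.sq2, B.ι_zero]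
    exact main _ B.e2W h'
  · refine h.2.2 (B.ι_injective ?_)
    have hm := main _ (mul_mem B.e1W B.e2W) h'
    rw [B.ι_add, B.ι_add, z01, u10, B.psi_fst hg, B.psi_snd hg, ← B.sq1, ← B.sq2]
    set a := B.e1⁻¹ * (g⁻¹ * B.e1 * g) with ha
    set b := B.e2⁻¹ * (g⁻¹ * B.e2 * g) with hb
    have haU : a ∈ X.U := X.comm_mem_U hg B.e1W
    have hbU : b ∈ X.U := X.comm_mem_U hg B.e2W
    have hc2 := X.hW.comm
    have e1 : B.e1 * B.e2 * (B.e1 * B.e2) * ((B.e1 * B.e2)⁻¹ * (g⁻¹ * (B.e1 * B.e2) * g)) =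
        (B.e1 * B.e1 * a) * (B.e2 * B.e2 * b) := by
      calc _ = B.e1 * (B.e2 * (g⁻¹ * B.e1 * g)) * (g⁻¹ * B.e2 * g) := by group
        _ = B.e1 * ((g⁻¹ * B.e1 * g) * B.e2) * (g⁻¹ * B.e2 * g) := by
            rw [hc2 _ B.e2W _ (by simpa using X.hW.normal.conj_mem _ B.e1W g⁻¹)]
        _ = _ := by rw [ha, hb]; group
    rw [e1] at hm
    have h1 : (B.e1 * B.e1 * a) ∈ X.U := mul_mem (by rw [B.sq1]; exact B.zU) haU
    exact (inv_eq_of_mul_eq_one_right h1.2).symm.trans (eq_inv_of_mul_eq_one_right hm).symm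

theorem noFix {g : S} (hg : g ∈ X.T) (h : FixCond (B.psi g)) : X.NoFix g := by
  intro w hw heq
  obtain ⟨c, hc, h'⟩ := B.cover hw
  rcases h' with h' | hrest
  · rw [h']; exact hc.2
  exfalso
  have hcg : g⁻¹ * c * g = c := by rw [mul_assoc, ← X.comm_U hg hc, inv_mul_cancel_left]
  have main : ∀ e ∈ X.W, w = e * c → e⁻¹ * (g⁻¹ * e * g) = 1 := fun e _ hwe => by
    rw [hwe, conj_mul, hcg] at heq
    rw [mul_right_cancel heq, inv_mul_cancel]
  rcases hrest with h' | h' | h'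
  · exact h.1 (B.ι_injective (by rw [B.psi_fst hg, B.ι_zero]; exact main _ B.e1W h'))
  · exact h.2.1 (B.ι_injective (by rw [B.psi_snd hg, B.ι_zero]; exact main _ B.e2W h'))
  · refine h.2.2 (B.ι_injective ?_)
    rw [B.psi_fst hg, B.psi_snd hg]
    have hm := main _ (mul_mem B.e1W B.e2W) h'
    set a := B.e1⁻¹ * (g⁻¹ * B.e1 * g) with ha
    set b := B.e2⁻¹ * (g⁻¹ * B.e2 * g) with hb
    have haU : a ∈ X.U := X.comm_mem_U hg B.e1W
    have hbU : b ∈ X.U := X.comm_mem_U hg B.e2W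
    have e1 : (B.e1 * B.e2)⁻¹ * (g⁻¹ * (B.e1 * B.e2) * g) = a * b := by
      calc _ = B.e2⁻¹ * a * (g⁻¹ * B.e2 * g) := by rw [ha]; group
        _ = a * b := by rw [X.hW.comm _ (inv_mem B.e2W) a haU.1, hb]; group
    rw [e1] at hm
    exact (inv_eq_of_mul_eq_one_right haU.2).symm.trans (inv_eq_of_mul_eq_one_right hm)

theorem not_T {s : S} (hs : s ∉ X.T) : s⁻¹ * B.u * s = B.u * B.z := by
  have hsu : s⁻¹ * B.u * s ∈ X.U := by
    simpa using (inferInstance : X.U.Normal).conj_mem B.u B.uU s⁻¹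
  have h1 : B.u * B.z ≠ 1 := fun h => B.uz (by
    rw [eq_inv_of_mul_eq_one_left h, inv_eq_of_mul_eq_one_right B.zU.2])
  have back : ∀ x, s⁻¹ * B.u * s = x → B.u = s * x * s⁻¹ := fun x hx => by rw [← hx]; group
  rcases four_cases X.card_U B.zU B.uU B.z1 B.u1 B.uz h1 hsu with h | h | h | h
  · exact absurd (by simpa using back _ h) B.u1
  · exact absurd (by rw [back _ h, B.zc s]; group) B.uz
  · refine absurd (Subgroup.mem_centralizer_iff.mpr fun x hx => ?_) hs
    have hu : B.u * s = s * B.u := by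
      calc B.u * s = s * (s⁻¹ * B.u * s) := by group
        _ = _ := by rw [h]
    rcases four_cases X.card_U B.zU B.uU B.z1 B.u1 B.uz h1 hx with h' | h' | h' | h' <;> rw [h']
    · simp
    · exact (B.zc s).symm
    · exact hu
    · rw [mul_assoc, ← B.zc s, ← mul_assoc, hu, mul_assoc]
  · exact h

include B in
theorem mul_mem_T {s h : S} (hs : s ∉ X.T) (hh : h ∉ X.T) : s * h ∈ X.T := by
  by_contra hsh
  have h1 := B.not_T hsh
  have e : (s * h)⁻¹ * B.u * (s * h) = h⁻¹ * (s⁻¹ * B.u * s) * h := by group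
  rw [e, B.not_T hs, conj_mul, B.not_T hh, mul_assoc h⁻¹, ← B.zc h, inv_mul_cancel_left] at h1
  exact B.z1 (mul_left_cancel (a := B.u * B.z) (by rw [mul_one]; exact h1))

theorem psi_conj {s g : S} (hs : s ∉ X.T) (hg : g ∈ X.T) :
    B.psi (s⁻¹ * g * s) = sigma (B.psi g) := by
  have hgs : s⁻¹ * g * s ∈ X.T := by simpa using (inferInstance : X.T.Normal).conj_mem g hg s⁻¹
  have hzs : s⁻¹ * B.z * s = B.z := by rw [mul_assoc, ← B.zc s, inv_mul_cancel_left]
  have hι : ∀ v : ZMod 2 × ZMod 2, s⁻¹ * B.ι v * s = B.ι (v.1, v.2 + v.1) := by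
    rintro ⟨a, b⟩
    have z2 : ∀ x : ZMod 2, x = 0 ∨ x = 1 := by decide
    rcases z2 a with rfl | rfl <;> rcases z2 b with rfl | rfl <;>
      simp [ι, hzs, B.not_T hs, show (1 : ZMod 2) + 1 = 0 from rfl]
    rw [conj_mul, B.not_T hs, hzs, mul_assoc, B.zU.2, mul_one]
  have hcs : ∀ e ∈ X.W, ∀ e' ∈ X.W, e' * e' = s * (e * e) * s⁻¹ →
      e⁻¹ * ((s⁻¹ * g * s)⁻¹ * e * (s⁻¹ * g * s)) =
        s⁻¹ * (e'⁻¹ * (g⁻¹ * e' * g)) * s := fun e he e' he' hee => by
    have hf : s * e * s⁻¹ ∈ X.W := X.hW.normal.conj_mem e he s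
    have hc : e'⁻¹ * (s * e * s⁻¹) ∈ X.U := by
      refine ⟨mul_mem (inv_mem he') hf, ?_⟩
      calc e'⁻¹ * (s * e * s⁻¹) * (e'⁻¹ * (s * e * s⁻¹))
          = e'⁻¹ * ((s * e * s⁻¹) * e'⁻¹) * (s * e * s⁻¹) := by group
        _ = (e' * e')⁻¹ * (s * (e * e) * s⁻¹) := by
            rw [X.hW.comm _ hf _ (inv_mem he')]; group
        _ = 1 := by rw [hee, inv_mul_cancel]
    set c := e'⁻¹ * (s * e * s⁻¹) with hc'
    calc e⁻¹ * ((s⁻¹ * g * s)⁻¹ * e * (s⁻¹ * g * s))
        = s⁻¹ * ((e' * c)⁻¹ * (g⁻¹ * e' * g) * (g⁻¹ * c * g)) * s := by rw [hc']; group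
      _ = s⁻¹ * (c⁻¹ * (e'⁻¹ * (g⁻¹ * e' * g)) * c) * s := by
          rw [show g⁻¹ * c * g = c by rw [mul_assoc, ← X.comm_U hg hc, inv_mul_cancel_left]]
          group
      _ = _ := by
          rw [X.hW.comm _ (inv_mem hc.1) _ (X.comm_mem_U hg he').1, inv_mul_cancel_right]
  refine Prod.ext (B.ι_injective ?_) (B.ι_injective ?_)
  · have hz2 : s * B.z * s⁻¹ = B.z := by rw [B.zc s]; group
    rw [B.psi_fst hgs, hcs _ B.e1W _ B.e1W (by rw [B.sq1, hz2]), ← B.psi_fst hg, hι]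
    rfl
  · have hu2 : s * B.u * s⁻¹ = B.u * B.z := by
      have h1 := B.not_T hs
      calc s * B.u * s⁻¹ = s * (B.u * B.z * B.z) * s⁻¹ := by rw [mul_assoc B.u, B.zU.2, mul_one]
        _ = s * (s⁻¹ * B.u * s * B.z) * s⁻¹ := by rw [h1]
        _ = B.u * (s * B.z) * s⁻¹ := by group
        _ = B.u * B.z := by rw [B.zc s]; group
    have he : B.e2 * B.e1 * (B.e2 * B.e1) = s * (B.e2 * B.e2) * s⁻¹ := by
      rw [B.sq2, hu2, show B.e2 * B.e1 * (B.e2 * B.e1) = B.e2 * (B.e1 * B.e2) * B.e1 by group,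
        X.hW.comm _ B.e1W _ B.e2W,
        show B.e2 * (B.e2 * B.e1) * B.e1 = (B.e2 * B.e2) * (B.e1 * B.e1) by group, B.sq2, B.sq1]
    have hmul : (B.e2 * B.e1)⁻¹ * (g⁻¹ * (B.e2 * B.e1) * g) =
        B.ι ((B.psi g).1 + (B.psi g).2) := by
      rw [B.ι_add, B.psi_fst hg, B.psi_snd hg]
      calc _ = B.e1⁻¹ * (B.e2⁻¹ * (g⁻¹ * B.e2 * g)) * (g⁻¹ * B.e1 * g) := by group
        _ = _ := by
            rw [X.hW.comm _ (inv_mem B.e1W) _ (X.comm_mem_U hg B.e2W).1, mul_assoc,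
              X.hW.comm _ (X.comm_mem_U hg B.e2W).1 _ (X.comm_mem_U hg B.e1W).1]
    rw [B.psi_snd hgs, hcs _ B.e2W _ (mul_mem B.e2W B.e1W) he, hmul, hι]
    rfl

theorem index_two_mem {P : Subgroup (Multiplicative V4)} (hP : 8 ≤ Nat.card P)
    (hA : Multiplicative.ofAdd vA ∈ P ↔ Multiplicative.ofAdd vB ∈ P)
    (hT : Multiplicative.ofAdd vT ∈ P ↔ Multiplicative.ofAdd vT' ∈ P) :
    Multiplicative.ofAdd vN ∈ P := by
  by_cases hi : P = ⊤
  · rw [hi]; exact Subgroup.mem_top _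
  have h16 : Nat.card (Multiplicative V4) = 16 := by
    rw [Nat.card_congr Multiplicative.toAdd, Nat.card_eq_fintype_card]; rfl
  have hidx : P.index = 2 := by
    have h1 := Subgroup.card_mul_index P
    rw [h16] at h1
    have h2 : P.index ≠ 1 := fun h => hi (Subgroup.index_eq_one.mp h)
    have h3 : P.index ≠ 0 := Subgroup.index_ne_zero_of_finite
    have h4 : Nat.card P * P.index ≥ 8 * P.index := Nat.mul_le_mul_right _ hP
    omega
  have h1 := (Subgroup.mul_mem_iff_of_index_two hidx).mpr hA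
  have h2 := (Subgroup.mul_mem_iff_of_index_two hidx).mpr hT
  have h3 := mul_mem h1 h2
  simp only [← ofAdd_add] at h3
  exact (show vA + vB + (vT + vT') = vN by decide) ▸ h3

theorem invCond_five : InvCond vN ∧ InvCond vA ∧ InvCond vB ∧ InvCond vT ∧ InvCond vT' := by
  unfold InvCond; decide

omit [Finite S] in
theorem mem_T_conj {g : S} (hg : g ∈ X.T) (h : S) : h⁻¹ * g * h ∈ X.T := by
  simpa using (inferInstance : X.T.Normal).conj_mem g hg h⁻¹

theorem psi_inv {g : S} (hg : g ∈ X.T) : B.psi g⁻¹ = B.psi g := by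
  have h := B.psi_mul hg (inv_mem hg)
  rw [mul_inv_cancel, (B.mem_C_iff (one_mem _)).mp (one_mem _)] at h
  have aux : ∀ a b : V4, 0 = a + b → b = a := by decide
  exact aux _ _ h

theorem stable {g : S} (hg : g ∈ X.T)
    (hfix : ∀ s ∉ X.T, sigma (B.psi g) = B.psi g) (h : S) : g⁻¹ * (h⁻¹ * g * h) ∈ X.C := by
  have hgT := mem_T_conj hg h
  rw [B.mem_C_iff (mul_mem (inv_mem hg) hgT), B.psi_mul (inv_mem hg) hgT, B.psi_inv hg]
  have aux : ∀ a : V4, a + a = 0 := by decide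
  by_cases hh : h ∈ X.T
  · rw [B.psi_mul (mul_mem (inv_mem hh) hg) hh, B.psi_mul (inv_mem hh) hg, B.psi_inv hh]
    have aux2 : ∀ a b : V4, a + (b + a + b) = 0 := by decide
    exact aux2 _ _
  · rw [B.psi_conj hh hg, hfix h hh, aux]

theorem key' {g : S} (hg : g ∈ X.T) (h : InvCond (B.psi g))
    (hfix : ∀ s ∉ X.T, sigma (B.psi g) = B.psi g) (h0 : B.psi g ≠ 0) : g * g ∉ X.Q :=
  X.key hg (fun hC => h0 ((B.mem_C_iff hg).mp hC)) (B.noInv hg h) (B.stable hg hfix)

include B in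
theorem sq_mem_C {g : S} (hg : g ∈ X.T) : g * g ∈ X.C := by
  rw [B.mem_C_iff (mul_mem hg hg), B.psi_mul hg hg]
  have aux : ∀ a : V4, a + a = 0 := by decide
  exact aux _

/-- `T` does not induce all sixteen maps. -/
theorem range_le_eight : Nat.card B.phi.range ≤ 8 := by
  have h16 : Nat.card (Multiplicative V4) = 16 := by
    rw [Nat.card_congr Multiplicative.toAdd, Nat.card_eq_fintype_card]; rfl
  by_contra hlt
  have hd := Subgroup.card_subgroup_dvd_card B.phi.range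
  rw [h16] at hd
  have h2 : Nat.card B.phi.range = 16 := by
    have := Nat.le_of_dvd (by norm_num) hd
    interval_cases (Nat.card B.phi.range) <;> first | rfl | omega
  have htop : B.phi.range = ⊤ := Subgroup.eq_top_of_le_card _ (by omega)
  have surj : ∀ v : V4, ∃ g ∈ X.T, B.psi g = v := fun v => by
    obtain ⟨g, hg⟩ : Multiplicative.ofAdd v ∈ B.phi.range := htop ▸ Subgroup.mem_top _
    exact ⟨g, g.2, hg⟩
  obtain ⟨n, hn, hnv⟩ := surj vN
  obtain ⟨t, ht, htv⟩ := surj vT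
  obtain ⟨t', ht', htv'⟩ := surj vT'
  have hnQ : n * n ∉ X.Q := B.key' hn (hnv ▸ invCond_five.1)
    (fun _ _ => by rw [hnv]; decide) (by rw [hnv]; decide)
  have hfc : ∀ v, v = vT ∨ v = vT' → FixCond v := by
    rintro v (rfl | rfl) <;> · unfold FixCond; decide
  have hf1 := B.noFix ht (hfc _ (Or.inl htv))
  have hi1 := B.noInv ht (htv ▸ invCond_five.2.2.2.1)
  have hi2 := B.noInv ht' (htv' ▸ invCond_five.2.2.2.2)
  have hf2 := B.noFix ht' (hfc _ (Or.inr htv'))
  have hsq : ∀ g ∈ X.T, X.NoFix g → g * g ∈ X.U := fun g hg hf =>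
    X.mem_U_of_fix hf (B.sq_mem_C hg) (by group)
  have hCW : ∀ d ∈ X.C, d ^ 4 = 1 := by
    intro d hd
    by_contra hne
    obtain ⟨k, h1, h2⟩ := exists_pow_order X.pGroup (k := 2) hne
    have h8 := X.fix_sq ht hi1 (X.U_le_Q (hsq t ht hf1)) (pow_mem hd _) h1
    have h3 := X.mem_U_of_fix hf1 (mul_mem (pow_mem hd _) (pow_mem hd _)) h8
    refine h2 ?_
    rw [show 2 ^ 2 = 2 * 2 from rfl, pow_mul, pow_two, pow_two]
    exact h3.2
  have hcom : ∀ g ∈ X.T, X.NoInv g → X.NoFix g →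
      ∃ c ∈ X.U, n⁻¹ * g * n = g * c := fun g hg hi hf => by
    refine ⟨g⁻¹ * (n⁻¹ * g * n), ?_, by group⟩
    set v := g⁻¹ * (n⁻¹ * g * n) with hv
    have hvC : v ∈ X.C := by
      have hgn := mem_T_conj hg n
      rw [hv, B.mem_C_iff (mul_mem (inv_mem hg) hgn), B.psi_mul (inv_mem hg) hgn, B.psi_inv hg,
        B.psi_mul (mul_mem (inv_mem hn) hg) hn, B.psi_mul (inv_mem hn) hg, B.psi_inv hn]
      have aux : ∀ a b : V4, a + (b + a + b) = 0 := by decide
      exact aux _ _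
    have hvW : v ∈ X.W := X.mem_W_of_pow_four hvC (hCW v hvC)
    refine X.mem_U_of_inv hi hvC ?_
    have h1 : g * v * (g * v) = g * g := by
      rw [show g * v * (g * v) = n⁻¹ * (g * g) * n by rw [hv]; group, mul_assoc,
        ← X.comm_U hn (hsq g hg hf), inv_mul_cancel_left]
    calc g⁻¹ * v * g * v = (g * g)⁻¹ * (g * v * (g * v)) := by group
      _ = 1 := by rw [h1, inv_mul_cancel]
  obtain ⟨c, hc, h1⟩ := hcom t ht hi1 hf1
  obtain ⟨c', hc', h2⟩ := hcom t' ht' hi2 hf2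
  set y := t * t' with hy
  have hyT : y ∈ X.T := mul_mem ht ht'
  have hyv : FixCond (B.psi y) := by
    rw [hy, B.psi_mul ht ht', htv, htv']; unfold FixCond; decide
  have hny : n⁻¹ * y * n = y * (c * c') := by
    rw [hy, conj_mul, h1, h2]
    calc t * c * (t' * c') = t * (c * t') * c' := by group
      _ = t * t' * (c * c') := by rw [← X.comm_U ht' hc]; group
  have hcc : c * c' ∈ X.U := mul_mem hc hc'
  have hyn : y⁻¹ * n * y = n * (c * c') := by
    calc y⁻¹ * n * y = y⁻¹ * n * (y * (c * c')) * (c * c')⁻¹ := by group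
      _ = y⁻¹ * n * (n⁻¹ * y * n) * (c * c')⁻¹ := by rw [hny]
      _ = n * (c * c')⁻¹ := by group
      _ = n * (c * c') := by rw [inv_eq_of_mul_eq_one_right hcc.2]
  refine hnQ (X.U_le_Q (X.mem_U_of_fix (B.noFix hyT hyv) (B.sq_mem_C hn) ?_))
  calc y⁻¹ * (n * n) * y = (y⁻¹ * n * y) * (y⁻¹ * n * y) := by group
    _ = n * ((c * c') * n) * (c * c') := by rw [hyn]; group
    _ = n * n * ((c * c') * (c * c')) := by rw [← X.comm_U hn hcc]; group
    _ = n * n := by rw [hcc.2, mul_one]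

include B in
/-- A square outside `Q` halves the bound for the part in `C`. -/
theorem card_D_le_two {N H : Subgroup S} (h : SqSub N H) {g : S} (hg : g ∈ H) (hgT : g ∈ X.T)
    (hQ : g * g ∉ X.Q) : Nat.card ↥(H ⊓ X.C) ≤ 2 * Nat.card ↥(N ⊓ X.C) := by
  have : Fact (Nat.Prime 2) := ⟨Nat.prime_two⟩
  let M0 := Subgroup.closure {y | ∃ d ∈ H ⊓ X.C, d * d = y}
  have hM0D : M0 ≤ H ⊓ X.C := (Subgroup.closure_le _).mpr fun y hy => by
    obtain ⟨d, hd, rfl⟩ := hy; exact mul_mem hd hd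
  have hM0N : M0 ≤ N ⊓ X.C := (Subgroup.closure_le _).mpr fun y hy => by
    obtain ⟨d, hd, rfl⟩ := hy; exact (h.inf X.C).2 d hd
  have hM0Q : M0 ≤ X.Q := (Subgroup.closure_le _).mpr fun y hy => by
    obtain ⟨d, hd, rfl⟩ := hy; exact Subgroup.subset_closure ⟨d, hd.2, rfl⟩
  have hlt : M0 < N ⊓ X.C := lt_of_le_of_ne hM0N fun he => hQ (hM0Q (by
    rw [he]; exact ⟨h.2 g hg, B.sq_mem_C hgT⟩))
  have h1 := card_le_of_le_centralizer X.pGroup X.hW X.max (N := M0)
    ⟨hM0D, fun d hd => Subgroup.subset_closure ⟨d, hd, rfl⟩⟩ inf_le_right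
  have h2 := PGroup.mul_card_le_card X.pGroup hlt
  have h3 : Nat.card X.hW.sqOne = 4 := X.card_U
  rw [h3] at h1
  omega

theorem card_inter_ker (H : Subgroup S) :
    Nat.card ↥((H ⊓ X.T).subgroupOf X.T ⊓ B.phi.ker) = Nat.card ↥(H ⊓ X.C) := by
  rw [B.ker_phi]
  exact Nat.card_congr
    { toFun := fun x => ⟨((x : X.T) : S), x.2.1.1, x.2.2⟩
      invFun := fun x => ⟨⟨(x : S), X.C_le_T x.2.2⟩, ⟨x.2.1, X.C_le_T x.2.2⟩, x.2.2⟩
      left_inv := fun _ => rfl
      right_inv := fun _ => rfl }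

theorem card_le_sixteen (B : X.Basis) {N H : Subgroup S} (h : SqSub N H) :
    Nat.card H ≤ 16 * Nat.card N := by
  classical
  let img (K : Subgroup S) : Subgroup (Multiplicative V4) :=
    ((K ⊓ X.T).subgroupOf X.T).map B.phi
  have hsub : ∀ K : Subgroup S,
      Nat.card ((K ⊓ X.T).subgroupOf X.T) = Nat.card ↥(K ⊓ X.T) := fun K =>
    Nat.card_congr (Subgroup.subgroupOfEquivOfLe inf_le_right).toEquiv
  have hsplit : ∀ a b : ℕ, Nat.card (img H) ≤ a * Nat.card (img N) →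
      Nat.card ↥(H ⊓ X.C) ≤ b * Nat.card ↥(N ⊓ X.C) →
      Nat.card ↥(H ⊓ X.T) ≤ a * b * Nat.card ↥(N ⊓ X.T) := fun a b ha hb => by
    rw [← hsub H, ← hsub N]
    exact SqSub.card_le_of_split B.phi ha (by rw [B.card_inter_ker, B.card_inter_ker]; exact hb)
  have hN1 : 1 ≤ Nat.card (img N) := Nat.card_pos
  have hNT : Nat.card ↥(N ⊓ X.T) ≤ Nat.card N := Subgroup.card_le_of_le inf_le_left
  have hD4 : Nat.card ↥(H ⊓ X.C) ≤ 4 * Nat.card ↥(N ⊓ X.C) := by
    have h1 := card_le_of_le_centralizer X.pGroup X.hW X.max (h.inf X.C) inf_le_right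
    have h3 : Nat.card X.hW.sqOne = 4 := X.card_U
    rwa [h3] at h1
  have him : ∀ v, Multiplicative.ofAdd v ∈ img H → ∃ g ∈ H, g ∈ X.T ∧ B.psi g = v := by
    rintro v ⟨g, hg, hgv⟩
    exact ⟨g, hg.1, g.2, Multiplicative.ofAdd.injective hgv⟩
  have hme : ∀ g ∈ H, g ∈ X.T → Multiplicative.ofAdd (B.psi g) ∈ img H := fun g hg hgT =>
    ⟨⟨g, hgT⟩, ⟨hg, hgT⟩, rfl⟩
  -- a special value in the image gives the sharper bound
  have hspec : ∀ v, Multiplicative.ofAdd v ∈ img H → InvCond v → v ≠ 0 →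
      (∀ s ∉ X.T, sigma v = v) → Nat.card ↥(H ⊓ X.C) ≤ 2 * Nat.card ↥(N ⊓ X.C) := by
    intro v hv hi h0 hfix
    obtain ⟨g, hgH, hgT, rfl⟩ := him v hv
    exact B.card_D_le_two h hgH hgT (B.key' hgT hi hfix h0)
  have h5 := invCond_five
  have hle8 : Nat.card (img H) ≤ 8 :=
    (Subgroup.card_le_of_le (Subgroup.map_le_range _ _)).trans B.range_le_eight
  have hdvd : Nat.card (img H) ∣ 16 := by
    have h16 : Nat.card (Multiplicative V4) = 16 := by
      rw [Nat.card_congr Multiplicative.toAdd, Nat.card_eq_fintype_card]; rfl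
    exact h16 ▸ Subgroup.card_subgroup_dvd_card _
  by_cases hex : ∃ s ∈ H, s ∉ X.T
  · obtain ⟨s, hs, hsT⟩ := hex
    have hH : Nat.card H ≤ 2 * Nat.card ↥(H ⊓ X.T) := card_union_two s fun x hx => by
      by_cases hxT : x ∈ X.T
      · exact Or.inl ⟨hx, hxT⟩
      · exact Or.inr ⟨mul_mem hs hx, B.mul_mem_T hsT hxT⟩
    by_cases hmv : ∃ g ∈ H, g ∈ X.T ∧ sigma (B.psi g) ≠ B.psi g
    · obtain ⟨g, hgH, hgT, hne⟩ := hmv
      have hcN : g⁻¹ * (s⁻¹ * g * s) ∈ N := by
        have := h.comm_mem hgH hs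
        rwa [show g⁻¹ * (s⁻¹ * g * s) = g⁻¹ * s⁻¹ * g * s by group]
      have hN2 : 2 ≤ Nat.card (img N) := by
        have hcT := mul_mem (inv_mem hgT) (mem_T_conj hgT s)
        have hmem : Multiplicative.ofAdd (B.psi (g⁻¹ * (s⁻¹ * g * s))) ∈ img N :=
          ⟨⟨_, hcT⟩, ⟨hcN, hcT⟩, rfl⟩
        refine (Subgroup.one_lt_card_iff_ne_bot _).mpr fun hb => ?_
        rw [hb, Subgroup.mem_bot, ofAdd_eq_one, B.psi_mul (inv_mem hgT) (mem_T_conj hgT s),
          B.psi_inv hgT, B.psi_conj hsT hgT] at hmem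
        have aux : ∀ a b : V4, a + b = 0 → b = a := by decide
        exact hne (aux _ _ hmem)
      by_cases h8 : 8 ≤ Nat.card (img H)
      · -- the image is everything induced by `T`
        have heq : img H = B.phi.range :=
          Subgroup.eq_of_le_of_card_ge (Subgroup.map_le_range _ _) (B.range_le_eight.trans h8)
        have hinv : ∀ v, Multiplicative.ofAdd v ∈ img H →
            Multiplicative.ofAdd (sigma v) ∈ img H := fun v hv => by
          obtain ⟨x, -, hxT, rfl⟩ := him v hv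
          rw [← B.psi_conj hsT hxT, heq]
          exact ⟨⟨_, mem_T_conj hxT s⟩, rfl⟩
        have hvN := index_two_mem h8
          ⟨fun hv => (show sigma vA = vB by decide) ▸ hinv _ hv,
            fun hv => (show sigma vB = vA by decide) ▸ hinv _ hv⟩
          ⟨fun hv => (show sigma vT = vT' by decide) ▸ hinv _ hv,
            fun hv => (show sigma vT' = vT by decide) ▸ hinv _ hv⟩
        have := hsplit 4 2 (by omega)
          (hspec vN hvN h5.1 (by decide) fun _ _ => by decide)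
        omega
      · have hle4 : Nat.card (img H) ≤ 4 := by
          interval_cases (Nat.card (img H)) <;> omega
        have := hsplit 2 4 (by omega) hD4
        omega
    · push Not at hmv
      let F : Finset (Multiplicative V4) :=
        (Finset.univ.filter fun v : V4 => sigma v = v).map Multiplicative.ofAdd.toEmbedding
      have hFc : F.card = 4 := by decide
      have hsub : (img H : Set (Multiplicative V4)).toFinset ⊆ F := by
        intro x hx
        rw [Set.mem_toFinset] at hx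
        obtain ⟨g, hgH, hgT, hgv⟩ := him x.toAdd hx
        refine Finset.mem_map.mpr ⟨x.toAdd, ?_, rfl⟩
        rw [Finset.mem_filter]
        exact ⟨Finset.mem_univ _, hgv ▸ hmv g hgH hgT⟩
      have hcard : (img H : Set (Multiplicative V4)).toFinset.card = Nat.card (img H) := by
        rw [Set.toFinset_card, ← Nat.card_eq_fintype_card]; rfl
      by_cases h2 : Nat.card (img H) ≤ 2
      · have := hsplit 2 4 (by omega) hD4
        omega
      · have h4 : 4 ≤ Nat.card (img H) := by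
          have := Nat.le_of_dvd (by norm_num) hdvd
          interval_cases (Nat.card (img H)) <;> omega
        have hle := Finset.card_le_card hsub
        have hvN : Multiplicative.ofAdd vN ∈ (img H : Set (Multiplicative V4)).toFinset := by
          rw [Finset.eq_of_subset_of_card_le hsub (by omega)]
          decide
        rw [Set.mem_toFinset] at hvN
        have := hsplit 4 2 (by omega)
          (hspec vN hvN h5.1 (by decide) fun _ _ => by decide)
        omega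
  · push Not at hex
    have hH : Nat.card H = Nat.card ↥(H ⊓ X.T) := by rw [inf_eq_left.mpr hex]
    by_cases h8 : 8 ≤ Nat.card (img H)
    · have heq : img H = B.phi.range :=
        Subgroup.eq_of_le_of_card_ge (Subgroup.map_le_range _ _) (B.range_le_eight.trans h8)
      have hv : ∃ v, Multiplicative.ofAdd v ∈ img H ∧ InvCond v ∧ v ≠ 0 ∧
          ∀ s ∉ X.T, sigma v = v := by
        by_cases hall : ∀ s : S, s ∈ X.T
        · by_cases hc : Multiplicative.ofAdd vA ∈ img H ∨ Multiplicative.ofAdd vB ∈ img H ∨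
            Multiplicative.ofAdd vT ∈ img H ∨ Multiplicative.ofAdd vT' ∈ img H
          · rcases hc with hc | hc | hc | hc
            · exact ⟨vA, hc, h5.2.1, by decide, fun s hs => absurd (hall s) hs⟩
            · exact ⟨vB, hc, h5.2.2.1, by decide, fun s hs => absurd (hall s) hs⟩
            · exact ⟨vT, hc, h5.2.2.2.1, by decide, fun s hs => absurd (hall s) hs⟩
            · exact ⟨vT', hc, h5.2.2.2.2, by decide, fun s hs => absurd (hall s) hs⟩
          · push Not at hc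
            exact ⟨vN, index_two_mem h8 (iff_of_false hc.1 hc.2.1)
              (iff_of_false hc.2.2.1 hc.2.2.2), h5.1, by decide,
              fun s hs => absurd (hall s) hs⟩
        · push Not at hall
          obtain ⟨s, hsT⟩ := hall
          have hinv : ∀ v, Multiplicative.ofAdd v ∈ img H →
              Multiplicative.ofAdd (sigma v) ∈ img H := fun v hv => by
            obtain ⟨x, -, hxT, rfl⟩ := him v hv
            rw [← B.psi_conj hsT hxT, heq]
            exact ⟨⟨_, mem_T_conj hxT s⟩, rfl⟩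
          exact ⟨vN, index_two_mem h8
            ⟨fun hv => (show sigma vA = vB by decide) ▸ hinv _ hv,
              fun hv => (show sigma vB = vA by decide) ▸ hinv _ hv⟩
            ⟨fun hv => (show sigma vT = vT' by decide) ▸ hinv _ hv,
              fun hv => (show sigma vT' = vT by decide) ▸ hinv _ hv⟩,
            h5.1, by decide, fun _ _ => by decide⟩
      obtain ⟨v, hv1, hv2, hv3, hv4⟩ := hv
      have := hsplit 8 2 (by omega) (hspec v hv1 hv2 hv3 hv4)
      omega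
    · have hle4 : Nat.card (img H) ≤ 4 := by
        interval_cases (Nat.card (img H)) <;> omega
      have := hsplit 4 4 (by omega) hD4
      omega

end Basis

end Ctx

/-- Sections of exponent two have order at most sixteen. -/
theorem card_le_sixteen_mul_of_noEight (hS : IsPGroup 2 S) (hno : NoEight S) {N H : Subgroup S}
    (h : SqSub N H) : Nat.card H ≤ 16 * Nat.card N := by
  have : Fact (Nat.Prime 2) := ⟨Nat.prime_two⟩
  have hbot : AbFour (⊥ : Subgroup S) := ⟨inferInstance, fun a ha b hb => by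
    rw [Subgroup.mem_bot.mp ha, one_mul, mul_one], fun a ha => by
    rw [Subgroup.mem_bot.mp ha, one_pow]⟩
  obtain ⟨W, -, hW, hmax⟩ := exists_maximal_abFour hbot
  have := hW.normal
  have hU := card_sqOne_le hno hW
  by_cases h8 : Nat.card W ≤ 8
  · let π := QuotientGroup.mk' (Subgroup.centralizer (W : Set S))
    refine (SqSub.card_le_of_split π (a := 4) (b := 4)
      (card_le_four_mul_quotient hS W h8 (h.map π)) ?_).trans (le_of_eq rfl)
    rw [QuotientGroup.ker_mk']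
    exact (card_le_of_le_centralizer hS hW hmax (h.inf _) inf_le_right).trans
      (Nat.mul_le_mul_right _ hU)
  · have h16 : Nat.card W = 16 := by
      have h1 := card_le_sqOne_sq hW
      have h2 : Nat.card W ≤ 16 := h1.trans (by nlinarith)
      obtain ⟨k, hk⟩ := PGroup.card_eq_pow hS W
      have h3 : k ≤ 4 := (Nat.pow_le_pow_iff_right (show 1 < 2 by norm_num)).mp (hk ▸ h2)
      interval_cases k <;> omega
    obtain ⟨B⟩ := Ctx.exists_basis ⟨W, hS, hW, hmax, hno, h16⟩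
    exact B.card_le_sixteen h

end Cfsg.Agent.SecRank
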