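import Cfsg.Agent.Lib.SecRank.Basic
import Cfsg.Agent.Lib.PGroup.MaximalClassTwo

/-!
# 2-groups with an element having centralizer of order at most four

* `card_le_four_mul`: sections of exponent two have order at most four;
* `center_le_of_four`: subgroups with such a section of order four contain the centre.
-/

set_option autoImplicit false

namespace Cfsg.Agent.SecRank

variable {G : Type*} [Group G] [Finite G]

theorem exists_cyclic_two (hG : IsPGroup 2 G) (a : G)
    (hC : Nat.card (Subgroup.centralizer ({a} : Set G)) ≤ 4) (hbig : 4 < Nat.card G) :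
    ∃ R : Subgroup G, IsCyclic R ∧ R.index = 2 := by
  have : Fact (Nat.Prime 2) := ⟨Nat.prime_two⟩
  have hna : ¬ IsMulCommutative G := fun hc => by
    have htop : Subgroup.centralizer ({a} : Set G) = ⊤ := by
      rw [eq_top_iff]
      intro g _
      rw [Subgroup.mem_centralizer_singleton_iff]
      exact hc.is_comm.comm g a
    rw [htop, Subgroup.card_top] at hC
    omega
  obtain ⟨n, hn⟩ := hG.exists_card_eq
  have hn3 : 3 ≤ n := by
    by_contra hlt
    have := Nat.pow_le_pow_right (show 1 ≤ 2 by norm_num) (show n ≤ 2 by omega)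
    omega
  have hle : (commutator G).index ≤ 4 := by
    have h1 := Subgroup.card_mul_index (Subgroup.centralizer ({a} : Set G))
    rw [← Subgroup.card_mul_index (commutator G)] at h1
    have h2 := PGroup.index_centralizer_le_card_commutator a
    refine Nat.le_of_mul_le_mul_left ?_ (Nat.card_pos (α := commutator G))
    rw [← h1]
    calc _ ≤ 4 * Nat.card (commutator G) := Nat.mul_le_mul hC h2
      _ = _ := mul_comm _ _
  exact PGroup.exists_cyclic_index_two_of_commutator hn3 hn
    (PGroup.index_commutator_eq_four_of_le hn hna hle)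

theorem card_le_two_mul_of_cyclic {R N D : Subgroup G} [IsCyclic R] (hD : D ≤ R)
    (h : SqSub N D) : Nat.card D ≤ 2 * Nat.card N := by
  obtain ⟨d, hd⟩ := (Subgroup.isCyclic_iff_exists_zpowers_eq_top D).mp
    (Subgroup.isCyclic_of_le hD)
  refine card_union_two d fun y hy => ?_
  rw [← hd] at hy
  obtain ⟨i, rfl⟩ := hy
  have hdd : d * d ∈ N := h.2 d (hd ▸ Subgroup.mem_zpowers d)
  rcases Int.even_or_odd' i with ⟨k, hk | hk⟩
  · left
    show d ^ i ∈ N
    rw [hk, zpow_mul, zpow_two]
    exact zpow_mem hdd k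
  · right
    show d * d ^ i ∈ N
    rw [hk, show d * d ^ (2 * k + 1) = (d ^ (2 : ℤ)) ^ (k + 1) by
      rw [← zpow_mul, ← zpow_one_add]; ring_nf, zpow_two]
    exact zpow_mem hdd _

theorem card_inf_index_two {R : Subgroup G} (hR : R.index = 2) (H : Subgroup G) :
    Nat.card H ≤ 2 * Nat.card ↥(H ⊓ R) := by
  by_cases hle : H ≤ R
  · rw [inf_eq_left.mpr hle]; omega
  obtain ⟨x, hx, hxR⟩ := SetLike.not_le_iff_exists.mp hle
  refine card_union_two x fun y hy => ?_
  by_cases hyR : y ∈ R
  · exact Or.inl ⟨hy, hyR⟩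
  · exact Or.inr ⟨mul_mem hx hy, (Subgroup.mul_mem_iff_of_index_two hR).mpr (iff_of_false hxR hyR)⟩

/-- Sections of exponent two have order at most four. -/
theorem card_le_four_mul (hG : IsPGroup 2 G) (a : G)
    (hC : Nat.card (Subgroup.centralizer ({a} : Set G)) ≤ 4) {N H : Subgroup G} (h : SqSub N H) :
    Nat.card H ≤ 4 * Nat.card N := by
  by_cases hbig : 4 < Nat.card G
  · obtain ⟨R, hRc, hRi⟩ := exists_cyclic_two hG a hC hbig
    calc Nat.card H ≤ 2 * Nat.card ↥(H ⊓ R) := card_inf_index_two hRi H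
      _ ≤ 2 * (2 * Nat.card ↥(N ⊓ R)) :=
          Nat.mul_le_mul_left 2 (card_le_two_mul_of_cyclic inf_le_right (h.inf R))
      _ ≤ 4 * Nat.card N := by
          have := Subgroup.card_le_of_le (inf_le_left : N ⊓ R ≤ N)
          omega
  · exact ((Subgroup.card_le_card_group H).trans (not_lt.mp hbig)).trans
      (Nat.le_mul_of_pos_right 4 Nat.card_pos)

/-- A subgroup with an exponent two section of order four contains the centre. -/
theorem center_le_of_four (hG : IsPGroup 2 G) (a : G)
    (hC : Nat.card (Subgroup.centralizer ({a} : Set G)) ≤ 4) {N H : Subgroup G}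
    (hbad : 4 * Nat.card N ≤ Nat.card H) : Subgroup.center G ≤ H := by
  classical
  have : Fact (Nat.Prime 2) := ⟨Nat.prime_two⟩
  have h4H : 4 ≤ Nat.card H := le_trans (Nat.le_mul_of_pos_right 4 Nat.card_pos) hbad
  by_cases hbig : 4 < Nat.card G
  swap
  · have : H = ⊤ := Subgroup.eq_top_of_le_card H (by omega)
    rw [this]; exact le_top
  obtain ⟨R, hRc, hRi⟩ := exists_cyclic_two hG a hC hbig
  have : R.Normal := Subgroup.normal_of_index_eq_two hRi
  have haZ : a ∉ Subgroup.center G := fun haZ => by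
    have htop : Subgroup.centralizer ({a} : Set G) = ⊤ := by
      rw [eq_top_iff]
      intro g _
      rw [Subgroup.mem_centralizer_singleton_iff]
      exact Subgroup.mem_center_iff.mp haZ g
    rw [htop, Subgroup.card_top] at hC
    omega
  have hZ2 : Nat.card (Subgroup.center G) ≤ 2 := by
    have hinj : Function.Injective fun p : Bool × Subgroup.center G =>
        (⟨(if p.1 then a else 1) * (p.2 : G), by
          rw [Subgroup.mem_centralizer_singleton_iff]
          have := Subgroup.mem_center_iff.mp p.2.2 a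
          cases p.1 <;> simp [mul_assoc, ← this]⟩ : Subgroup.centralizer ({a} : Set G)) := by
      rintro ⟨b, z⟩ ⟨b', z'⟩ hzz
      have hzz' := congrArg Subtype.val hzz
      cases b <;> cases b' <;> simp only [Bool.false_eq_true, if_false, if_true, one_mul] at hzz'
      · rw [Subtype.ext hzz']
      · exact absurd (eq_mul_inv_of_mul_eq hzz'.symm ▸ mul_mem z.2 (inv_mem z'.2)) haZ
      · exact absurd (eq_mul_inv_of_mul_eq hzz' ▸ mul_mem z'.2 (inv_mem z.2)) haZ
      · rw [Subtype.ext (mul_left_cancel hzz')]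
    have := Nat.card_le_card_of_injective _ hinj
    rw [Nat.card_prod] at this
    have hb : Nat.card Bool = 2 := by simp
    rw [hb] at this
    omega
  have hne : R ≠ ⊥ := by
    intro hb
    rw [hb, Subgroup.index_bot] at hRi
    omega
  obtain ⟨ζ, hζR, hζZ, hζ2⟩ := PGroup.exists_orderOf_eq_mem_center hG R hne
  have hζ1 : ζ ≠ 1 := fun h => by rw [h, orderOf_one] at hζ2; omega
  have hcard : 2 ≤ Nat.card ↥(H ⊓ R) := by
    have := card_inf_index_two hRi H
    omega
  have hne2 : H ⊓ R ≠ ⊥ := fun hb => by rw [hb, Subgroup.card_bot] at hcard; omega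
  obtain ⟨η, hη, hη2⟩ : ∃ η ∈ H ⊓ R, orderOf η = 2 := by
    obtain ⟨k, hk⟩ := (hG.to_subgroup (H ⊓ R)).exists_card_eq
    have hd : 2 ∣ Nat.card ↥(H ⊓ R) := by
      rw [hk]
      refine dvd_pow_self 2 fun hk0 => ?_
      rw [hk0, pow_zero] at hk; omega
    obtain ⟨η, hη⟩ := exists_prime_orderOf_dvd_card' 2 hd
    exact ⟨η, η.2, by rw [Subgroup.orderOf_coe, hη]⟩
  have heq : η = ζ := by
    by_contra hne3
    have hη1 : η ≠ 1 := fun h => by rw [h, orderOf_one] at hη2; omega
    have := Fintype.ofFinite R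
    have hle := IsCyclic.card_pow_eq_one_le (α := R) (n := 2) two_pos
    have hsub : ({1, ⟨ζ, hζR⟩, ⟨η, hη.2⟩} : Finset R) ⊆
        (Finset.univ.filter fun x : R => x ^ 2 = 1) := by
      intro x hx
      simp only [Finset.mem_insert, Finset.mem_singleton] at hx
      rw [Finset.mem_filter]
      refine ⟨Finset.mem_univ _, ?_⟩
      rcases hx with rfl | rfl | rfl
      · exact one_pow 2
      · exact Subtype.ext (by simp [← hζ2, pow_orderOf_eq_one])
      · exact Subtype.ext (by simp [← hη2, pow_orderOf_eq_one])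
    have h3 : ({1, ⟨ζ, hζR⟩, ⟨η, hη.2⟩} : Finset R).card = 3 := by
      rw [Finset.card_insert_of_notMem (by simp [Subtype.ext_iff, hζ1.symm, hη1.symm]),
        Finset.card_insert_of_notMem (by simp [Subtype.ext_iff, Ne.symm hne3]), Finset.card_singleton]
    have := Finset.card_le_card hsub
    omega
  have hZle : Subgroup.center G ≤ Subgroup.zpowers ζ := by
    refine le_of_eq (Subgroup.eq_of_le_of_card_ge (Subgroup.zpowers_le.mpr hζZ) ?_).symm
    rw [Nat.card_zpowers, hζ2]; exact hZ2
  exact hZle.trans (Subgroup.zpowers_le.mpr (heq ▸ hη.1))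

end Cfsg.Agent.SecRank
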