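import Cfsg.Agent.Lib.SecRank.NoNormalEight
import Cfsg.Agent.Lib.SecRank.SmallCentralizer

/-!
# Harada: a self-centralizing elementary abelian subgroup of order eight bounds sectional 2-rank by 4

Let `B` be a maximal normal subgroup of exponent two, of order at least eight. One may assume an
involution `a` outside `B` such that `L = C_B(a)` is a four-group and `C(L) ∩ C(a) = L × ⟨a⟩`.

* `card_le_sixteen_mul_of_selfCentralizing`: sections of exponent two have order at most 16.
-/

set_option autoImplicit false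

namespace Cfsg.Agent.SecRank

universe u

variable {S : Type u} [Group S]

theorem comm_of_sq {B : Subgroup S} (hexp : ∀ x ∈ B, x * x = 1) {x y : S} (hx : x ∈ B)
    (hy : y ∈ B) : x * y = y * x := by
  have hinv : ∀ v ∈ B, v⁻¹ = v := fun v hv => inv_eq_of_mul_eq_one_right (hexp v hv)
  calc x * y = (x * y)⁻¹ := (hinv _ (mul_mem hx hy)).symm
    _ = y * x := by rw [mul_inv_rev, hinv _ hx, hinv _ hy]

/-- The commutator with `g` on a subgroup of an elementary abelian normal subgroup. -/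
theorem card_le_fix_mul [Finite S] {B : Subgroup S} [B.Normal] (hexp : ∀ x ∈ B, x * x = 1)
    {R R' : Subgroup S} (hR : R ≤ B) (g : S) (him : ∀ x ∈ R, x⁻¹ * (g⁻¹ * x * g) ∈ R') :
    Nat.card R ≤ Nat.card ↥(R ⊓ Subgroup.centralizer ({g} : Set S)) * Nat.card R' := by
  have hc : ∀ x ∈ R, g⁻¹ * x * g ∈ B := fun x hx => by
    simpa using (inferInstance : B.Normal).conj_mem x (hR hx) g⁻¹
  let f : R →* S :=
    { toFun := fun x => (x : S)⁻¹ * (g⁻¹ * x * g)
      map_one' := by simp
      map_mul' := fun x y => by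
        show ((x : S) * y)⁻¹ * (g⁻¹ * (x * y) * g) = _
        calc ((x : S) * y)⁻¹ * (g⁻¹ * (x * y) * g)
            = (y : S)⁻¹ * ((x : S)⁻¹ * (g⁻¹ * x * g)) * (g⁻¹ * y * g) := by group
          _ = ((x : S)⁻¹ * (g⁻¹ * x * g)) * (y : S)⁻¹ * (g⁻¹ * y * g) := by
              rw [comm_of_sq hexp (inv_mem (hR y.2)) (mul_mem (inv_mem (hR x.2)) (hc x x.2))]
          _ = _ := by group }
  have h := card_split f ⊤
  rw [Subgroup.card_top, top_inf_eq, ← MonoidHom.range_eq_map] at h
  rw [h, mul_comm]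
  refine Nat.mul_le_mul ?_ (Subgroup.card_le_of_le fun y hy => ?_)
  · refine Nat.card_le_card_of_injective
      (fun x : f.ker => (⟨((x : R) : S), (x : R).2, ?_⟩ :
        ↥(R ⊓ Subgroup.centralizer ({g} : Set S)))) fun x y hxy => ?_
    · show ((x : R) : S) ∈ Subgroup.centralizer ({g} : Set S)
      rw [Subgroup.mem_centralizer_singleton_iff]
      have hx : ((x : R) : S)⁻¹ * (g⁻¹ * (x : R) * g) = 1 := x.2
      have e := inv_mul_eq_one.mp hx
      calc ((x : R) : S) * g = g * (g⁻¹ * (x : R) * g) := by group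
        _ = g * (x : R) := by rw [← e]
    · exact Subtype.ext (Subtype.ext (congrArg Subtype.val hxy :))
  · obtain ⟨x, rfl⟩ := hy
    exact him x x.2

/-- Powers of two below a strict bound. -/
theorem half_le [Finite S] (hS : IsPGroup 2 S) {N H : Subgroup S} {k : ℕ}
    (h : Nat.card H < 2 ^ (k + 1) * Nat.card N) : Nat.card H ≤ 2 ^ k * Nat.card N := by
  have : Fact (Nat.Prime 2) := ⟨Nat.prime_two⟩
  obtain ⟨m, hm⟩ := PGroup.card_eq_pow hS H
  obtain ⟨n, hn⟩ := PGroup.card_eq_pow hS N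
  rw [hm, hn, ← pow_add] at h ⊢
  refine Nat.pow_le_pow_right two_pos ?_
  have := (Nat.pow_lt_pow_iff_right (show 1 < 2 by norm_num)).mp h
  omega

theorem le_centralizer_of_inf_bot {B : Subgroup S} [B.Normal] {N H : Subgroup S} (h : SqSub N H)
    (hBH : B ≤ H) (hNB : N ⊓ B = ⊥) : H ≤ Subgroup.centralizer (B : Set S) := by
  intro g hg
  rw [Subgroup.mem_centralizer_iff]
  intro x hx
  have hxg : x⁻¹ * (g⁻¹ * x * g) ∈ N ⊓ B := by
    refine Subgroup.mem_inf.mpr ⟨?_, mul_mem (inv_mem hx)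
      (by simpa using (inferInstance : B.Normal).conj_mem x hx g⁻¹)⟩
    have := h.comm_mem (hBH hx) hg
    rwa [show x⁻¹ * (g⁻¹ * x * g) = x⁻¹ * g⁻¹ * x * g by group]
  rw [hNB, Subgroup.mem_bot] at hxg
  have e := inv_mul_eq_one.mp hxg
  calc x * g = g * (g⁻¹ * x * g) := by group
    _ = g * x := by rw [← e]

/-- Splitting the bound over the quotient by a normal subgroup `W`. -/
theorem card_le_mk_mul [Finite S] (W : Subgroup S) [W.Normal] {N H : Subgroup S} {a b : ℕ}
    (h1 : Nat.card (H.map (QuotientGroup.mk' W)) ≤ a * Nat.card (N.map (QuotientGroup.mk' W)))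
    (h2 : Nat.card ↥(H ⊓ W) ≤ b * Nat.card ↥(N ⊓ W)) :
    Nat.card H ≤ a * b * Nat.card N :=
  SqSub.card_le_of_split (QuotientGroup.mk' W) h1 (by rwa [QuotientGroup.ker_mk'])

/-- A self-centralizing normal subgroup of exponent two and order eight. -/
theorem card_le_of_selfCentralizing_eight [Finite S] (hS : IsPGroup 2 S) {B : Subgroup S}
    [B.Normal] (h8 : Nat.card B = 8)
    (hC : Subgroup.centralizer (B : Set S) = B) {N H : Subgroup S} (h : SqSub N H) :
    Nat.card H ≤ 16 * Nat.card N := by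
  have h1 := card_le_four_mul_quotient hS B h8.le
    (h.map (QuotientGroup.mk' (Subgroup.centralizer (B : Set S))))
  by_cases hD : Nat.card ↥(H ⊓ B) < 2 ^ 3 * Nat.card ↥(N ⊓ B)
  · refine card_le_mk_mul (Subgroup.centralizer (B : Set S)) (a := 4) (b := 4) h1 ?_
    rw [hC]
    exact half_le hS hD
  have hDle : Nat.card ↥(H ⊓ B) ≤ 8 := h8 ▸ Subgroup.card_le_of_le inf_le_right
  have hN1 : Nat.card ↥(N ⊓ B) = 1 := by
    have : 0 < Nat.card ↥(N ⊓ B) := Nat.card_pos
    omega
  have hBH : B ≤ H := inf_eq_right.mp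
    (Subgroup.eq_of_le_of_card_ge inf_le_right (by rw [h8]; omega))
  have hle : H ≤ B := hC ▸ le_centralizer_of_inf_bot h hBH (Subgroup.card_eq_one.mp hN1)
  calc Nat.card H ≤ 8 := h8 ▸ Subgroup.card_le_of_le hle
    _ ≤ 16 * Nat.card N := le_trans (by norm_num) (Nat.le_mul_of_pos_right 16 Nat.card_pos)

/-- A maximal normal subgroup of exponent two with a suitable involution. -/
structure Pair (S : Type u) [Group S] where
  B : Subgroup S
  a : S
  pGroup : IsPGroup 2 S
  normal : B.Normal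
  exp : ∀ x ∈ B, x * x = 1
  max : ∀ E : Subgroup S, E.Normal → (∀ x ∈ E, x * x = 1) → B ≤ E → E ≤ B
  big : 4 < Nat.card B
  a_sq : a * a = 1
  a_not : a ∉ B
  card_L : Nat.card ↥(B ⊓ Subgroup.centralizer ({a} : Set S)) = 4
  self : ∀ x : S, x * a = a * x →
    (∀ l ∈ B ⊓ Subgroup.centralizer ({a} : Set S), x * l = l * x) →
      x ∈ B ⊓ Subgroup.centralizer ({a} : Set S) ∨
        a * x ∈ B ⊓ Subgroup.centralizer ({a} : Set S)

namespace Pair

variable (P : Pair S)

instance : P.B.Normal := P.normal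

/-- The fixed four-group. -/
def L : Subgroup S := P.B ⊓ Subgroup.centralizer ({P.a} : Set S)

theorem mem_L {x : S} : x ∈ P.L ↔ x ∈ P.B ∧ x * P.a = P.a * x := by
  show x ∈ P.B ∧ x ∈ Subgroup.centralizer ({P.a} : Set S) ↔ _
  rw [Subgroup.mem_centralizer_singleton_iff]

theorem a_inv : P.a⁻¹ = P.a := inv_eq_of_mul_eq_one_right P.a_sq

theorem commB {x y : S} (hx : x ∈ P.B) (hy : y ∈ P.B) : x * y = y * x := comm_of_sq P.exp hx hy

theorem conjB {x : S} (hx : x ∈ P.B) (g : S) : g⁻¹ * x * g ∈ P.B := by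
  simpa using P.normal.conj_mem x hx g⁻¹

theorem comm_mem_L {x : S} (hx : x ∈ P.B) : x⁻¹ * (P.a⁻¹ * x * P.a) ∈ P.L := by
  rw [P.mem_L]
  refine ⟨mul_mem (inv_mem hx) (P.conjB hx _), ?_⟩
  have hc : P.a * x * P.a ∈ P.B := by simpa [P.a_inv] using P.conjB hx P.a
  have hinv : x⁻¹ = x := inv_eq_of_mul_eq_one_right (P.exp x hx)
  rw [P.a_inv, hinv]
  calc x * (P.a * x * P.a) * P.a = x * P.a * x * (P.a * P.a) := by group
    _ = x * P.a * x := by rw [P.a_sq, mul_one]
    _ = (P.a * P.a) * (x * P.a * x) := by rw [P.a_sq, one_mul]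
    _ = P.a * ((P.a * x * P.a) * x) := by group
    _ = P.a * (x * (P.a * x * P.a)) := by rw [P.commB hc hx]

/-- An involution `a e` with `e` in `B` has `e` in `L`. -/
theorem mem_L_of_twist {e : S} (he : e ∈ P.B) (h : P.a * e * (P.a * e) = 1) : e ∈ P.L := by
  refine P.mem_L.mpr ⟨he, ?_⟩
  calc e * P.a = e⁻¹ * P.a⁻¹ := by rw [P.a_inv, inv_eq_of_mul_eq_one_right (P.exp e he)]
    _ = (P.a * e)⁻¹ := by group
    _ = P.a * e := inv_eq_of_mul_eq_one_right h

variable [Finite S]

theorem card_B_le : Nat.card P.B ≤ 16 := by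
  have h := card_le_fix_mul P.exp (le_refl P.B) P.a (fun x hx => P.comm_mem_L hx)
  have h4 : Nat.card P.L = 4 := P.card_L
  rw [P.card_L, h4] at h
  exact h

theorem card_B_cases : Nat.card P.B = 8 ∨ Nat.card P.B = 16 := by
  have : Fact (Nat.Prime 2) := ⟨Nat.prime_two⟩
  obtain ⟨k, hk⟩ := PGroup.card_eq_pow P.pGroup P.B
  have h1 := P.card_B_le
  have h2 := P.big
  have h3 : k ≤ 4 := (Nat.pow_le_pow_iff_right (show 1 < 2 by norm_num)).mp (hk ▸ h1)
  interval_cases k <;> omega

theorem card_le_union {X : Subgroup S}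
    (hX : ∀ x ∈ X, x * P.a = P.a * x ∧ ∀ l ∈ P.L, x * l = l * x) : Nat.card X ≤ 8 := by
  have h := card_union_two (H := X) (K := P.L) P.a fun x hx =>
    (P.self x (hX x hx).1 (hX x hx).2).imp id id
  have h4 : Nat.card P.L = 4 := P.card_L
  omega

/-- The centralizer of `a` has order at most 16. -/
theorem card_centralizer_le : Nat.card (Subgroup.centralizer ({P.a} : Set S)) ≤ 16 := by
  classical
  have : Fact (Nat.Prime 2) := ⟨Nat.prime_two⟩
  let X := Subgroup.centralizer ({P.a} : Set S)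
  have hLX : P.L ≤ X := inf_le_right
  have hXa : ∀ g ∈ X, g * P.a = P.a * g := fun g hg =>
    Subgroup.mem_centralizer_singleton_iff.mp hg
  have hconj : ∀ g ∈ X, ∀ x ∈ P.L, g⁻¹ * x * g ∈ P.L := fun g hg x hx =>
    P.mem_L.mpr ⟨P.conjB hx.1 g, Subgroup.mem_centralizer_singleton_iff.mp
      (show g⁻¹ * x * g ∈ X from mul_mem (mul_mem (inv_mem hg) (hLX hx)) hg)⟩
  have : (P.L.subgroupOf X).Normal := ⟨fun x hx g => by
    show (g : S) * (x : S) * (g : S)⁻¹ ∈ P.L
    have := hconj _ (inv_mem g.2) _ hx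
    rwa [inv_inv] at this⟩
  have hne : ¬ (P.L.subgroupOf X) ≤ ⊥ := fun hle => by
    have h4 : Nat.card P.L = 4 := P.card_L
    have := Subgroup.card_le_of_le hle
    rw [Subgroup.card_bot, Nat.card_congr (Subgroup.subgroupOfEquivOfLe hLX).toEquiv, h4] at this
    omega
  obtain ⟨f, hf, hf1, -, hfc⟩ :=
    exists_central_step (P.pGroup.to_subgroup X) bot_le hne
  have hf1' : (f : S) ≠ 1 := fun h => hf1 (by rw [Subgroup.mem_bot]; exact Subtype.ext h)
  have hfix : ∀ g ∈ X, g * (f : S) = f * g := fun g hg => by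
    have h1 := congrArg Subtype.val (Subgroup.mem_bot.mp (hfc ⟨g, hg⟩))
    have h2 : (f : S)⁻¹ * (g⁻¹ * f * g) = 1 := h1
    have e := inv_mul_eq_one.mp h2
    calc g * (f : S) = g * (g⁻¹ * f * g) := by rw [← e]
      _ = f * g := by group
  obtain ⟨l, hl, hlf⟩ : ∃ l ∈ P.L, l ∉ Subgroup.zpowers (f : S) := by
    refine SetLike.not_le_iff_exists.mp fun hle => ?_
    have h4 : Nat.card P.L = 4 := P.card_L
    have h1 := Subgroup.card_le_of_le hle
    rw [h4, Nat.card_zpowers] at h1
    have : orderOf (f : S) ≤ 2 := orderOf_le_of_pow_eq_one two_pos (by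
      rw [pow_two]; exact P.exp _ hf.1)
    omega
  have h := index_le_two_of_four (X := X)
    (X0 := X ⊓ Subgroup.centralizer (P.L : Set S)) (L := P.L) P.card_L
    (fun x hx => P.exp x hx.1) hconj hf hl hf1'
    (fun h => hlf (h ▸ one_mem _)) (fun h => hlf (h ▸ Subgroup.mem_zpowers _)) hfix ?_
  · refine h.trans ?_
    have := P.card_le_union (X := X ⊓ Subgroup.centralizer (P.L : Set S)) fun x hx =>
      ⟨hXa x hx.1, fun l hl => (Subgroup.mem_centralizer_iff.mp hx.2 l hl).symm⟩
    omega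
  · intro g hg hgl
    refine ⟨hg, Subgroup.mem_centralizer_iff.mpr fun x hx => ?_⟩
    have hfl : l * (f : S) ≠ 1 := fun h => hlf (by
      rw [eq_inv_of_mul_eq_one_left h]; exact inv_mem (Subgroup.mem_zpowers _))
    rcases four_cases P.card_L hf hl hf1' (fun h => hlf (h ▸ one_mem _))
      (fun h => hlf (h ▸ Subgroup.mem_zpowers _)) hfl hx with h' | h' | h' | h' <;> rw [h']
    · simp
    · exact (hfix g hg).symm
    · exact hgl.symm
    · exact (Commute.mul_right (show Commute g l from hgl) (show Commute g (f : S) from hfix g hg)).eq.symm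

omit [Finite S] in
/-- Elements centralizing `a` modulo `W ≤ C(B)`, when `L ≤ [W, a]` and `a W ∩ involutions = a L`. -/
theorem exists_fix {W : Subgroup S} [W.Normal]
    (hinv : ∀ e ∈ W, P.a * e * (P.a * e) = 1 → e ∈ P.L)
    (hsurj : ∀ e ∈ P.L, ∃ x ∈ W, x⁻¹ * P.a * x = P.a * e) {g : S}
    (hg : QuotientGroup.mk' W g * QuotientGroup.mk' W P.a =
      QuotientGroup.mk' W P.a * QuotientGroup.mk' W g) :
    ∃ x ∈ W, (g * x⁻¹) * P.a = P.a * (g * x⁻¹) := by
  have he : P.a⁻¹ * (g⁻¹ * P.a * g) ∈ W := by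
    have h1 : QuotientGroup.mk' W (g * P.a) = QuotientGroup.mk' W (P.a * g) := by
      rw [map_mul, map_mul, hg]
    have h2 := (QuotientGroup.eq (s := W)).mp h1
    rwa [show P.a⁻¹ * (g⁻¹ * P.a * g) = (g * P.a)⁻¹ * (P.a * g) by group]
  have hL := hinv _ he (by
    rw [mul_inv_cancel_left, show g⁻¹ * P.a * g * (g⁻¹ * P.a * g) = g⁻¹ * (P.a * P.a) * g by group,
      P.a_sq]
    group)
  obtain ⟨x, hx, hxa⟩ := hsurj _ hL
  rw [mul_inv_cancel_left] at hxa
  refine ⟨x, hx, ?_⟩
  calc g * x⁻¹ * P.a = g * (x⁻¹ * P.a * x) * x⁻¹ := by group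
    _ = g * (g⁻¹ * P.a * g) * x⁻¹ := by rw [hxa]
    _ = P.a * (g * x⁻¹) := by group

theorem card_centralizer_mk_le {W : Subgroup S} [W.Normal] (hLW : P.L ≤ W)
    (hinv : ∀ e ∈ W, P.a * e * (P.a * e) = 1 → e ∈ P.L)
    (hsurj : ∀ e ∈ P.L, ∃ x ∈ W, x⁻¹ * P.a * x = P.a * e) :
    Nat.card (Subgroup.centralizer ({QuotientGroup.mk' W P.a} : Set (S ⧸ W))) ≤ 4 := by
  let X := Subgroup.centralizer ({P.a} : Set S)
  have hsub : Subgroup.centralizer ({QuotientGroup.mk' W P.a} : Set (S ⧸ W)) ≤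
      X.map (QuotientGroup.mk' W) := by
    intro q hq
    obtain ⟨g, rfl⟩ := QuotientGroup.mk'_surjective W q
    rw [Subgroup.mem_centralizer_singleton_iff] at hq
    obtain ⟨x, hx, hgx⟩ := P.exists_fix hinv hsurj hq
    refine ⟨g * x⁻¹, Subgroup.mem_centralizer_singleton_iff.mpr hgx, ?_⟩
    rw [map_mul, map_inv, show QuotientGroup.mk' W x = 1 from (QuotientGroup.eq_one_iff x).mpr hx,
      inv_one, mul_one]
  refine (Subgroup.card_le_of_le hsub).trans ?_
  have h := card_split (QuotientGroup.mk' W) X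
  rw [QuotientGroup.ker_mk'] at h
  have h1 : 4 ≤ Nat.card ↥(X ⊓ W) :=
    le_of_eq_of_le P.card_L.symm (Subgroup.card_le_of_le fun x hx => ⟨hx.2, hLW hx⟩)
  have h2 : Nat.card X ≤ 16 := P.card_centralizer_le
  rw [h] at h2
  have := Nat.mul_le_mul_left (Nat.card (X.map (QuotientGroup.mk' W))) h1
  omega

omit [Finite S] in
theorem exists_conj {e : S} (h : ∃ x ∈ P.B, x⁻¹ * (P.a⁻¹ * x * P.a) = e) :
    ∃ x ∈ P.B, x⁻¹ * P.a * x = P.a * e := by
  obtain ⟨x, hx, rfl⟩ := h
  refine ⟨x, hx, ?_⟩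
  have hc : P.a⁻¹ * x * P.a ∈ P.B := P.conjB hx _
  rw [P.commB (inv_mem hx) hc, P.a_inv, inv_eq_of_mul_eq_one_right (P.exp x hx)]
  calc x * P.a * x = (P.a * P.a) * (x * P.a * x) := by rw [P.a_sq, one_mul]
    _ = P.a * (P.a * x * P.a * x) := by group

/-- The image of `B` under commutation with `a`. -/
def commA : Subgroup S where
  carrier := {e | ∃ x ∈ P.B, x⁻¹ * (P.a⁻¹ * x * P.a) = e}
  one_mem' := ⟨1, one_mem _, by simp⟩
  mul_mem' := by
    rintro _ _ ⟨x, hx, rfl⟩ ⟨y, hy, rfl⟩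
    refine ⟨x * y, mul_mem hx hy, ?_⟩
    calc (x * y)⁻¹ * (P.a⁻¹ * (x * y) * P.a)
        = y⁻¹ * (x⁻¹ * (P.a⁻¹ * x * P.a)) * (P.a⁻¹ * y * P.a) := by group
      _ = _ := by
          rw [P.commB (inv_mem hy) (mul_mem (inv_mem hx) (P.conjB hx _))]; group
  inv_mem' := by
    rintro _ ⟨x, hx, rfl⟩
    refine ⟨x⁻¹, inv_mem hx, ?_⟩
    rw [P.commB (inv_mem (inv_mem hx)) (P.conjB (inv_mem hx) _)]
    group

omit [Finite S] in
theorem commA_le : P.commA ≤ P.L := by
  rintro _ ⟨x, hx, rfl⟩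
  exact P.comm_mem_L hx

theorem card_B_le_commA : Nat.card P.B ≤ 4 * Nat.card P.commA := by
  have h := card_le_fix_mul P.exp (le_refl P.B) P.a (R' := P.commA) fun x hx => ⟨x, hx, rfl⟩
  rwa [P.card_L] at h

theorem a_notin_C : P.a ∉ Subgroup.centralizer (P.B : Set S) := fun h => by
  have hle : P.B ≤ P.L := fun x hx => P.mem_L.mpr ⟨hx, Subgroup.mem_centralizer_iff.mp h x hx⟩
  have h4 : Nat.card P.L = 4 := P.card_L
  have := Subgroup.card_le_of_le hle
  have := P.big
  omega

/-- A central element of `C(B)/B` twisted by `a` inside `[B, a]` lies in `B`. -/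
theorem mem_B_of_twist {c : S} (hc : c ∈ Subgroup.centralizer (P.B : Set S))
    (h : c⁻¹ * (P.a⁻¹ * c * P.a) ∈ P.commA) : c ∈ P.B := by
  obtain ⟨x, hx, hxe⟩ := h
  have hcomm : ∀ v ∈ P.B, c * v = v * c := fun v hv =>
    (Subgroup.mem_centralizer_iff.mp hc v hv).symm
  set e := x⁻¹ * (P.a⁻¹ * x * P.a) with he
  have heB : e ∈ P.B := mul_mem (inv_mem hx) (P.conjB hx _)
  have hcx : (c * x) * P.a = P.a * (c * x) := by
    calc c * x * P.a = P.a * ((P.a⁻¹ * c * P.a) * (P.a⁻¹ * x * P.a)) := by group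
      _ = P.a * ((c * (c⁻¹ * (P.a⁻¹ * c * P.a))) * (x * e)) := by rw [he]; group
      _ = P.a * (c * (e * x) * e) := by rw [← hxe]; group
      _ = P.a * (c * x * (e * e)) := by rw [P.commB heB hx]; group
      _ = P.a * (c * x) := by rw [P.exp e heB, mul_one]
  have hcxC : c * x ∈ Subgroup.centralizer (P.B : Set S) :=
    mul_mem hc (Subgroup.mem_centralizer_iff.mpr fun v hv => P.commB hv hx)
  rcases P.self (c * x) hcx (fun l hl => (Subgroup.mem_centralizer_iff.mp hcxC l hl.1).symm)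
    with h' | h'
  · have := mul_mem (show c * x ∈ P.B from h'.1) (inv_mem hx)
    rwa [mul_inv_cancel_right] at this
  · refine absurd ?_ P.a_notin_C
    have h2 : P.a * (c * x) ∈ Subgroup.centralizer (P.B : Set S) :=
      Subgroup.mem_centralizer_iff.mpr fun v hv => P.commB hv h'.1
    have := mul_mem h2 (inv_mem hcxC)
    rwa [mul_inv_cancel_right] at this

omit [Finite S] in
theorem twist_mem_L {c : S}
    (he : c⁻¹ * (P.a⁻¹ * c * P.a) ∈ P.B) : c⁻¹ * (P.a⁻¹ * c * P.a) ∈ P.L := by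
  set e := c⁻¹ * (P.a⁻¹ * c * P.a) with hedef
  refine P.mem_L.mpr ⟨he, ?_⟩
  have h1 : e * (P.a⁻¹ * e * P.a) = 1 := by
    calc e * (P.a⁻¹ * e * P.a)
        = c⁻¹ * (P.a⁻¹ * c * P.a) * ((P.a⁻¹ * c * P.a)⁻¹ * ((P.a * P.a)⁻¹ * c * (P.a * P.a))) := by
          rw [hedef]; group
      _ = 1 := by rw [P.a_sq]; group
  have h2 : P.a⁻¹ * e * P.a = e := by
    rw [eq_inv_of_mul_eq_one_right h1, inv_eq_of_mul_eq_one_right (P.exp e he)]
  calc e * P.a = P.a * (P.a⁻¹ * e * P.a) := by group
    _ = P.a * e := by rw [h2]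

theorem centralizer_eq_of_sixteen (h16 : Nat.card P.B = 16) :
    Subgroup.centralizer (P.B : Set S) = P.B := by
  have hBC : P.B ≤ Subgroup.centralizer (P.B : Set S) := fun x hx =>
    Subgroup.mem_centralizer_iff.mpr fun v hv => P.commB hv hx
  refine le_antisymm ?_ hBC
  by_contra hne
  obtain ⟨c, hc, hcB, -, hcg⟩ := exists_central_step P.pGroup hBC hne
  refine hcB (P.mem_B_of_twist hc ?_)
  have heq : P.commA = P.L := by
    refine Subgroup.eq_of_le_of_card_ge P.commA_le ?_
    have := P.card_B_le_commA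
    have h4 : Nat.card P.L = 4 := P.card_L
    omega
  rw [heq]
  exact P.twist_mem_L (hcg P.a)

/-- The case `|B| = 16`. -/
theorem card_le_sixteen (h16 : Nat.card P.B = 16) {N H : Subgroup S} (h : SqSub N H) :
    Nat.card H ≤ 16 * Nat.card N := by
  have hC := P.centralizer_eq_of_sixteen h16
  have heq : P.commA = P.L := by
    refine Subgroup.eq_of_le_of_card_ge P.commA_le ?_
    have := P.card_B_le_commA
    have h4 : Nat.card P.L = 4 := P.card_L
    omega
  have hinv : ∀ e ∈ P.B, P.a * e * (P.a * e) = 1 → e ∈ P.L := fun _ he h => P.mem_L_of_twist he h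
  have hsurj : ∀ e ∈ P.L, ∃ x ∈ P.B, x⁻¹ * P.a * x = P.a * e := fun e he =>
    P.exists_conj (heq.symm ▸ he :)
  have hcent := P.card_centralizer_mk_le (W := P.B) (fun x hx => hx.1) hinv hsurj
  let π := QuotientGroup.mk' P.B
  have hQ : IsPGroup 2 (S ⧸ P.B) := P.pGroup.to_quotient _
  have h4 := card_le_four_mul hQ (π P.a) hcent (h.map π)
  have hDle : Nat.card ↥(H ⊓ P.B) ≤ 16 := h16 ▸ Subgroup.card_le_of_le inf_le_right
  by_cases hD : Nat.card ↥(H ⊓ P.B) < 2 ^ 3 * Nat.card ↥(N ⊓ P.B)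
  · exact card_le_mk_mul P.B h4 (half_le P.pGroup hD)
  push Not at hD
  by_cases hHbar : Nat.card (H.map π) < 2 ^ 2 * Nat.card (N.map π)
  · by_cases h16D : Nat.card ↥(H ⊓ P.B) < 2 ^ 4 * Nat.card ↥(N ⊓ P.B)
    · exact card_le_mk_mul P.B (half_le hQ hHbar) (half_le P.pGroup h16D)
    · have hN1 : Nat.card ↥(N ⊓ P.B) = 1 := by
        have : 0 < Nat.card ↥(N ⊓ P.B) := Nat.card_pos
        omega
      have hBH : P.B ≤ H := inf_eq_right.mp
        (Subgroup.eq_of_le_of_card_ge inf_le_right (by rw [h16]; omega))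
      have hle : H ≤ P.B := hC ▸ le_centralizer_of_inf_bot h hBH (Subgroup.card_eq_one.mp hN1)
      calc Nat.card H ≤ 16 := h16 ▸ Subgroup.card_le_of_le hle
        _ ≤ 16 * Nat.card N := Nat.le_mul_of_pos_right 16 Nat.card_pos
  push Not at hHbar
  exfalso
  have hne : (⊤ : Subgroup (S ⧸ P.B)) ≠ ⊥ := fun ht => by
    have h1 := Subgroup.card_le_of_le (le_top : H.map π ≤ ⊤)
    rw [ht, Subgroup.card_bot] at h1
    have : 0 < Nat.card (N.map π) := Nat.card_pos
    omega
  have : Fact (Nat.Prime 2) := ⟨Nat.prime_two⟩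
  obtain ⟨q, -, hqc, hq2⟩ := PGroup.exists_orderOf_eq_mem_center hQ ⊤ hne
  obtain ⟨g, hg, hgq⟩ := center_le_of_four hQ (π P.a) hcent hHbar hqc
  have hga : π g * π P.a = π P.a * π g := hgq ▸ (Subgroup.mem_center_iff.mp hqc (π P.a)).symm
  obtain ⟨x, hx, hgx⟩ := P.exists_fix hinv hsurj hga
  set g0 := g * x⁻¹ with hg0
  have hg0B : g0 ∉ P.B := fun hh => by
    have hgB : g ∈ P.B := by have := mul_mem hh hx; rwa [hg0, inv_mul_cancel_right] at this
    have hq1 : q = 1 := by rw [← hgq]; exact (QuotientGroup.eq_one_iff g).mpr hgB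
    rw [hq1, orderOf_one] at hq2
    omega
  let R := P.B ⊓ Subgroup.centralizer ({g0} : Set S)
  have hR : Nat.card R ≤ 4 := by
    have h4L : Nat.card P.L = 4 := P.card_L
    by_cases hfix : ∀ l ∈ P.L, g0 * l = l * g0
    · rcases P.self g0 hgx hfix with hh | hh
      · exact absurd hh.1 hg0B
      · refine (Subgroup.card_le_of_le (H := R) (K := P.L) fun v hv => P.mem_L.mpr ⟨hv.1, ?_⟩).trans
          h4L.le
        have hvg : v * g0 = g0 * v := Subgroup.mem_centralizer_singleton_iff.mp hv.2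
        have hvag : v * (P.a * g0) = P.a * g0 * v := P.commB hv.1 hh.1
        calc v * P.a = v * (P.a * g0) * g0⁻¹ := by group
          _ = P.a * (g0 * v) * g0⁻¹ := by rw [hvag]; group
          _ = P.a * v := by rw [← hvg]; group
    · push Not at hfix
      obtain ⟨l, hl, hlne⟩ := hfix
      have hlt : R ⊓ P.L < P.L := lt_of_le_of_ne inf_le_right fun he =>
        hlne ((Subgroup.mem_centralizer_singleton_iff.mp (he.symm ▸ hl : l ∈ R ⊓ P.L).1.2).symm)
      have h2 := PGroup.mul_card_le_card P.pGroup hlt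
      have h3 := card_le_fix_mul P.exp (R := R) inf_le_left P.a (R' := R ⊓ P.L) fun v hv => by
        have hvB : v ∈ P.B := hv.1
        have hvC : v ∈ Subgroup.centralizer ({g0} : Set S) := hv.2
        refine ⟨Subgroup.mem_inf.mpr ⟨mul_mem (inv_mem hvB) (P.conjB hvB _), ?_⟩, P.comm_mem_L hvB⟩
        have hag : P.a ∈ Subgroup.centralizer ({g0} : Set S) :=
          Subgroup.mem_centralizer_singleton_iff.mpr hgx.symm
        exact mul_mem (inv_mem hvC) (mul_mem (mul_mem (inv_mem hag) hvC) hag)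
      have h5 : Nat.card ↥(R ⊓ Subgroup.centralizer ({P.a} : Set S)) ≤ Nat.card ↥(R ⊓ P.L) :=
        Subgroup.card_le_of_le fun v hv => ⟨hv.1, hv.1.1, hv.2⟩
      have h6 : Nat.card ↥(R ⊓ P.L) ≤ 2 := by omega
      calc Nat.card R ≤ _ := h3
        _ ≤ 2 * 2 := Nat.mul_le_mul (h5.trans h6) h6
        _ = 4 := by norm_num
  have hD2 : Nat.card ↥(H ⊓ P.B) ≤
      Nat.card ↥((H ⊓ P.B) ⊓ Subgroup.centralizer ({g} : Set S)) * Nat.card ↥(N ⊓ P.B) :=
    card_le_fix_mul P.exp inf_le_right g fun v hv => Subgroup.mem_inf.mpr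
      ⟨by have := h.comm_mem hv.1 hg
          rwa [show v⁻¹ * (g⁻¹ * v * g) = v⁻¹ * g⁻¹ * v * g by group],
        mul_mem (inv_mem (show v ∈ P.B from hv.2)) (P.conjB hv.2 g)⟩
  have h7 : Nat.card ↥((H ⊓ P.B) ⊓ Subgroup.centralizer ({g} : Set S)) ≤ 4 := by
    refine le_trans (Subgroup.card_le_of_le fun v hv => ?_) hR
    refine ⟨hv.1.2, Subgroup.mem_centralizer_singleton_iff.mpr ?_⟩
    have hvg : v * g = g * v := Subgroup.mem_centralizer_singleton_iff.mp hv.2
    rw [hg0, ← mul_assoc, hvg, mul_assoc, P.commB hv.1.2 (inv_mem hx), mul_assoc]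
  have h8 := Nat.mul_le_mul_right (Nat.card ↥(N ⊓ P.B)) h7
  have : 0 < Nat.card ↥(N ⊓ P.B) := Nat.card_pos
  omega

/-- The case `|B| = 8`. -/
theorem card_le_eight (h8 : Nat.card P.B = 8) {N H : Subgroup S} (h : SqSub N H) :
    Nat.card H ≤ 16 * Nat.card N := by
  have : Fact (Nat.Prime 2) := ⟨Nat.prime_two⟩
  have hBC : P.B ≤ Subgroup.centralizer (P.B : Set S) := fun x hx =>
    Subgroup.mem_centralizer_iff.mpr fun v hv => P.commB hv hx
  by_cases hC : Subgroup.centralizer (P.B : Set S) ≤ P.B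
  · exact card_le_of_selfCentralizing_eight P.pGroup h8 (le_antisymm hC hBC) h
  obtain ⟨w, hwC, hwB, hw2, hwg⟩ := exists_central_step P.pGroup hBC hC
  have hwcomm : ∀ v ∈ P.B, w * v = v * w := fun v hv =>
    (Subgroup.mem_centralizer_iff.mp hwC v hv).symm
  let W := P.B ⊔ Subgroup.zpowers w
  have hwW : w ∈ W := Subgroup.mem_sup_right (Subgroup.mem_zpowers w)
  have hBW : P.B ≤ W := le_sup_left
  have hWcard : Nat.card W = 16 := by
    show Nat.card ↥(P.B ⊔ Subgroup.zpowers w) = 16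
    rw [PGroup.card_sup_zpowers (p := 2) P.B hwB (by rw [pow_two]; exact hw2), h8]
  let K : Subgroup S :=
    { carrier := {v | v ∈ P.B ∨ w * v ∈ P.B}
      one_mem' := Or.inl (one_mem _)
      mul_mem' := by
        rintro x y (hx | hx) (hy | hy)
        · exact Or.inl (mul_mem hx hy)
        · right
          have e : w * (x * y) = x * (w * y) := by rw [← mul_assoc, hwcomm x hx, mul_assoc]
          rw [e]; exact mul_mem hx hy
        · right; rw [← mul_assoc]; exact mul_mem hx hy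
        · left
          have e : x * y = (w * w)⁻¹ * ((w * x) * (w * y)) := by
            calc x * y = (w * w)⁻¹ * (w * (w * x) * w⁻¹ * (w * y)) := by group
              _ = (w * w)⁻¹ * ((w * x) * (w * y)) := by
                  rw [hwcomm _ hx, mul_inv_cancel_right]
          rw [e]; exact mul_mem (inv_mem hw2) (mul_mem hx hy)
      inv_mem' := by
        rintro x (hx | hx)
        · exact Or.inl (inv_mem hx)
        · right
          have e : w * x⁻¹ = w * w * (w * x)⁻¹ := by
            calc w * x⁻¹ = w * (w * x)⁻¹ * w := by group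
              _ = w * (w * (w * x)⁻¹) := by rw [mul_assoc, ← hwcomm _ (inv_mem hx)]
              _ = _ := by group
          rw [e]; exact mul_mem hw2 (inv_mem hx) }
  have hWK : W ≤ K := sup_le (fun v hv => Or.inl hv) (Subgroup.zpowers_le.mpr (Or.inr hw2))
  have hWform : ∀ v ∈ W, v ∈ P.B ∨ ∃ y ∈ P.B, v = w * y := fun v hv => by
    rcases hWK hv with h' | h'
    · exact Or.inl h'
    · refine Or.inr ⟨(w * w)⁻¹ * (w * v), mul_mem (inv_mem hw2) h', by group⟩
  have hWn : W.Normal := by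
    constructor
    intro v hv g
    have hle : W ≤ W.comap (MulAut.conj g).toMonoidHom := by
      refine sup_le (fun u hu => hBW (P.normal.conj_mem u hu g)) (Subgroup.zpowers_le.mpr ?_)
      show g * w * g⁻¹ ∈ W
      rw [show g * w * g⁻¹ = w * (w⁻¹ * (g⁻¹⁻¹ * w * g⁻¹)) by group]
      exact mul_mem hwW (hBW (hwg g⁻¹))
    exact hle hv
  have hsqW : ∀ y ∈ P.B, w * y * (w * y) = w * w := fun y hy => by
    rw [show w * y * (w * y) = w * (y * w) * y by group, ← hwcomm y hy,
      show w * (w * y) * y = w * w * (y * y) by group, P.exp y hy, mul_one]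
  have hz1 : w * w ≠ 1 := fun h1 => by
    refine hwB (P.max W hWn (fun v hv => ?_) hBW hwW)
    rcases hWform v hv with h' | ⟨y, hy, rfl⟩
    · exact P.exp v h'
    · rw [hsqW y hy, h1]
  have hzc : ∀ g : S, g⁻¹ * (w * w) * g = w * w := fun g => by
    have e : g⁻¹ * (w * w) * g = w * (w⁻¹ * (g⁻¹ * w * g)) * (w * (w⁻¹ * (g⁻¹ * w * g))) := by
      group
    rw [e, hsqW _ (hwg g)]
  have hzL : w * w ∈ P.L := P.mem_L.mpr ⟨hw2, by
    calc w * w * P.a = P.a * (P.a⁻¹ * (w * w) * P.a) := by group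
      _ = P.a * (w * w) := by rw [hzc]⟩
  set l := w⁻¹ * (P.a⁻¹ * w * P.a) with hl
  have hlL : l ∈ P.L := P.twist_mem_L (hwg P.a)
  have hlA : l ∉ P.commA := fun hh => hwB (P.mem_B_of_twist hwC hh)
  have hA2 : 2 ≤ Nat.card P.commA := by have := P.card_B_le_commA; omega
  have hLcov : ∀ e ∈ P.L, e ∈ P.commA ∨ l * e ∈ P.commA := by
    obtain ⟨f, hf, hf1⟩ : ∃ f ∈ P.commA, f ≠ 1 := by
      by_contra! hall
      have := Subgroup.card_le_of_le (show P.commA ≤ ⊥ from fun x hx => Subgroup.mem_bot.mpr (hall x hx))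
      rw [Subgroup.card_bot] at this
      omega
    have hlf : l * f ≠ 1 := fun hh => hlA (by
      rw [eq_inv_of_mul_eq_one_left hh]; exact inv_mem hf)
    intro e he
    have hll : l * l = 1 := P.exp l hlL.1
    rcases four_cases P.card_L (P.commA_le hf) hlL hf1 (fun h => hlA (h ▸ one_mem _))
      (fun h => hlA (h ▸ hf)) hlf he with h' | h' | h' | h' <;> rw [h']
    · exact Or.inl (one_mem _)
    · exact Or.inl hf
    · exact Or.inr (hll ▸ one_mem _)
    · exact Or.inr (by rw [← mul_assoc, hll, one_mul]; exact hf)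
  have hwa : w⁻¹ * P.a * w = P.a * l := by
    have h1 : (P.a⁻¹ * w * P.a) * w⁻¹ = l := by
      rw [show P.a⁻¹ * w * P.a = w * l by rw [hl]; group, hwcomm l hlL.1, mul_inv_cancel_right]
    calc w⁻¹ * P.a * w = P.a * (P.a⁻¹ * w⁻¹ * P.a * w) := by group
      _ = P.a * ((P.a⁻¹ * w * P.a)⁻¹ * w) := by group
      _ = P.a * l⁻¹ := by
          rw [show (P.a⁻¹ * w * P.a)⁻¹ * w = l⁻¹ by rw [hl]; group]
      _ = P.a * l := by rw [inv_eq_of_mul_eq_one_right (P.exp l hlL.1)]
  have hwsurj : ∀ e ∈ P.L, ∃ x ∈ W, x⁻¹ * P.a * x = P.a * e := by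
    intro e he
    rcases hLcov e he with h' | h'
    · obtain ⟨x, hx, hxe⟩ := P.exists_conj h'
      exact ⟨x, hBW hx, hxe⟩
    · obtain ⟨x, hx, hxe⟩ := P.exists_conj h'
      refine ⟨w * x, mul_mem hwW (hBW hx), ?_⟩
      calc (w * x)⁻¹ * P.a * (w * x) = x⁻¹ * (w⁻¹ * P.a * w) * x := by group
        _ = (x⁻¹ * P.a * x) * (x⁻¹ * l * x) := by rw [hwa]; group
        _ = P.a * (l * e) * l := by
            rw [hxe, show x⁻¹ * l * x = l by
              rw [mul_assoc, ← P.commB hx hlL.1, inv_mul_cancel_left]]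
        _ = P.a * (l * (e * l)) := by group
        _ = P.a * e := by
            rw [P.commB he.1 hlL.1, ← mul_assoc l, P.exp l hlL.1, one_mul]
  by_cases hmove : ∀ x : S, x * P.a = P.a * x → ∀ v ∈ P.L, x * v = v * x
  · -- the centralizer of `a` is `L ∪ a L`
    let π := QuotientGroup.mk' P.B
    have hcent : Nat.card (Subgroup.centralizer ({π P.a} : Set (S ⧸ P.B))) ≤ 4 := by
      have hcard : Nat.card (Subgroup.zpowers (π w)) ≤ 2 := by
        rw [Nat.card_zpowers]
        refine orderOf_le_of_pow_eq_one two_pos ?_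
        rw [pow_two, ← map_mul]
        exact (QuotientGroup.eq_one_iff _).mpr hw2
      refine (card_union_two (K := Subgroup.zpowers (π w)) (π P.a) fun q hq => ?_).trans (by omega)
      obtain ⟨g, rfl⟩ := QuotientGroup.mk'_surjective P.B q
      rw [Subgroup.mem_centralizer_singleton_iff] at hq
      have he : P.a⁻¹ * (g⁻¹ * P.a * g) ∈ P.B := by
        have h1 : π (g * P.a) = π (P.a * g) := by rw [map_mul, map_mul, hq]
        have h2 := (QuotientGroup.eq (s := P.B)).mp h1
        rwa [show P.a⁻¹ * (g⁻¹ * P.a * g) = (g * P.a)⁻¹ * (P.a * g) by group]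
      have hgg : g⁻¹ * P.a * g * (g⁻¹ * P.a * g) = 1 := by
        rw [show g⁻¹ * P.a * g * (g⁻¹ * P.a * g) = g⁻¹ * (P.a * P.a) * g by group, P.a_sq]
        group
      obtain ⟨x, hx, hxa⟩ := hwsurj _ (P.mem_L_of_twist he (by rw [mul_inv_cancel_left]; exact hgg))
      rw [mul_inv_cancel_left] at hxa
      have hgx : (g * x⁻¹) * P.a = P.a * (g * x⁻¹) := by
        calc g * x⁻¹ * P.a = g * (x⁻¹ * P.a * x) * x⁻¹ := by group
          _ = g * (g⁻¹ * P.a * g) * x⁻¹ := by rw [hxa]
          _ = P.a * (g * x⁻¹) := by group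
      have hπx : π x ∈ Subgroup.zpowers (π w) := by
        rcases hWform x hx with h' | ⟨y, hy, rfl⟩
        · rw [show π x = 1 from (QuotientGroup.eq_one_iff x).mpr h']; exact one_mem _
        · rw [map_mul, show π y = 1 from (QuotientGroup.eq_one_iff y).mpr hy, mul_one]
          exact Subgroup.mem_zpowers _
      rcases P.self _ hgx (hmove _ hgx) with h' | h'
      · left
        rw [show g = (g * x⁻¹) * x by group, map_mul,
          show π (g * x⁻¹) = 1 from (QuotientGroup.eq_one_iff _).mpr h'.1, one_mul]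
        exact hπx
      · right
        rw [show g = (g * x⁻¹) * x by group, map_mul, ← mul_assoc, ← map_mul,
          show π (P.a * (g * x⁻¹)) = 1 from (QuotientGroup.eq_one_iff _).mpr h'.1, one_mul]
        exact hπx
    have hQ : IsPGroup 2 (S ⧸ P.B) := P.pGroup.to_quotient _
    have h4 := card_le_four_mul hQ (π P.a) hcent (h.map π)
    have hDle : Nat.card ↥(H ⊓ P.B) ≤ 8 := h8 ▸ Subgroup.card_le_of_le inf_le_right
    by_cases hD : Nat.card ↥(H ⊓ P.B) < 2 ^ 3 * Nat.card ↥(N ⊓ P.B)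
    · exact card_le_mk_mul P.B h4 (half_le P.pGroup hD)
    push Not at hD
    have hN1 : Nat.card ↥(N ⊓ P.B) = 1 := by
      have : 0 < Nat.card ↥(N ⊓ P.B) := Nat.card_pos
      omega
    by_cases hHbar : Nat.card (H.map π) < 2 ^ 2 * Nat.card (N.map π)
    · exact card_le_mk_mul P.B (b := 8) (half_le hQ hHbar) (by rw [hN1]; omega)
    push Not at hHbar
    exfalso
    have hwZ : π w ∈ Subgroup.center (S ⧸ P.B) := by
      rw [Subgroup.mem_center_iff]
      intro q
      obtain ⟨g, rfl⟩ := QuotientGroup.mk'_surjective P.B q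
      rw [← map_mul, ← map_mul]
      refine (QuotientGroup.eq (s := P.B)).mpr ?_
      have e : (g * w)⁻¹ * (w * g) = w⁻¹ * (g⁻¹ * w * g) := by group
      rw [e]; exact hwg g
    obtain ⟨g, hg, hgw⟩ := center_le_of_four hQ (π P.a) hcent hHbar hwZ
    have hy : w⁻¹ * g ∈ P.B := (QuotientGroup.eq (s := P.B)).mp hgw.symm
    have hgg : g * g = w * w := by
      conv_lhs => rw [show g = w * (w⁻¹ * g) by group]
      exact hsqW _ hy
    have hmem : g * g ∈ N ⊓ P.B := ⟨h.2 g hg, hgg ▸ hw2⟩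
    rw [Subgroup.card_eq_one.mp hN1, Subgroup.mem_bot, hgg] at hmem
    exact hz1 hmem
  · push Not at hmove
    obtain ⟨x0, hx0a, v0, hv0, hxv⟩ := hmove
    have hconjA : ∀ x : S, x * P.a = P.a * x → ∀ e ∈ P.commA, x⁻¹ * e * x ∈ P.commA := by
      rintro x hxa _ ⟨y, hy, rfl⟩
      refine ⟨x⁻¹ * y * x, P.conjB hy x, ?_⟩
      have h1 : x⁻¹ * P.a * x = P.a := by rw [mul_assoc, ← hxa, inv_mul_cancel_left]
      calc (x⁻¹ * y * x)⁻¹ * (P.a⁻¹ * (x⁻¹ * y * x) * P.a)
          = x⁻¹ * y⁻¹ * x * ((x⁻¹ * P.a * x)⁻¹ * (x⁻¹ * y * x) * (x⁻¹ * P.a * x)) := by rw [h1]; group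
        _ = x⁻¹ * (y⁻¹ * (P.a⁻¹ * y * P.a)) * x := by group
    obtain ⟨f, hf, hf1⟩ : ∃ f ∈ P.commA, f ≠ 1 := by
      by_contra! hall
      have := Subgroup.card_le_of_le (show P.commA ≤ ⊥ from fun x hx => Subgroup.mem_bot.mpr (hall x hx))
      rw [Subgroup.card_bot] at this
      omega
    have hlf : l * f ≠ 1 := fun hh => hlA (by
      rw [eq_inv_of_mul_eq_one_left hh]; exact inv_mem hf)
    have hl1 : l ≠ 1 := fun h => hlA (h ▸ one_mem _)
    have hlnf : l ≠ f := fun h => hlA (h ▸ hf)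
    have hA : ∀ e ∈ P.commA, e = 1 ∨ e = f := fun e he => by
      rcases four_cases P.card_L (P.commA_le hf) hlL hf1 hl1 hlnf hlf (P.commA_le he) with
        h' | h' | h' | h'
      · exact Or.inl h'
      · exact Or.inr h'
      · exact absurd (h' ▸ he) hlA
      · refine absurd ?_ hlA
        have := mul_mem (h' ▸ he : l * f ∈ P.commA) (inv_mem hf)
        rwa [mul_inv_cancel_right] at this
    -- elements of `C(a)` fixing `l` centralize `L`
    have hfixL : ∀ x : S, x * P.a = P.a * x → x * l = l * x → ∀ v ∈ P.L, x * v = v * x := by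
      intro x hxa hxl v hv
      have hxf : x * f = f * x := by
        rcases hA _ (hconjA x hxa f hf) with h' | h'
        · refine absurd ?_ hf1
          calc f = x * (x⁻¹ * f * x) * x⁻¹ := by group
            _ = 1 := by rw [h']; group
        · calc x * f = x * (x⁻¹ * f * x) := by rw [h']
            _ = f * x := by group
      rcases four_cases P.card_L (P.commA_le hf) hlL hf1 hl1 hlnf hlf hv with h' | h' | h' | h' <;>
        rw [h']
      · simp
      · exact hxf
      · exact hxl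
      · exact (Commute.mul_right (show Commute x l from hxl) (show Commute x f from hxf)).eq
    have hx0z : x0 * (w * w) = w * w * x0 := by
      calc x0 * (w * w) = x0 * (x0⁻¹ * (w * w) * x0) := by rw [hzc]
        _ = w * w * x0 := by group
    have hzf : w * w = f := by
      rcases four_cases P.card_L (P.commA_le hf) hlL hf1 hl1 hlnf hlf hzL with h' | h' | h' | h'
      · exact absurd h' hz1
      · exact h'
      · exact absurd (hfixL x0 hx0a (h' ▸ hx0z) v0 hv0) hxv
      · refine absurd (hfixL x0 hx0a ?_ v0 hv0) hxv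
        have hxf : x0 * f = f * x0 := by
          rcases hA _ (hconjA x0 hx0a f hf) with h'' | h''
          · refine absurd ?_ hf1
            calc f = x0 * (x0⁻¹ * f * x0) * x0⁻¹ := by group
              _ = 1 := by rw [h'']; group
          · calc x0 * f = x0 * (x0⁻¹ * f * x0) := by rw [h'']
              _ = f * x0 := by group
        have e : l = (w * w) * f⁻¹ := by rw [h', mul_inv_cancel_right]
        rw [e, ← mul_assoc, hx0z, mul_assoc (w * w), (Commute.inv_right hxf).eq, ← mul_assoc]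
    have hinv : ∀ e ∈ W, P.a * e * (P.a * e) = 1 → e ∈ P.L := by
      intro e he hh
      rcases hWform e he with h' | ⟨y, hy, rfl⟩
      · exact P.mem_L_of_twist h' hh
      exfalso
      obtain ⟨t, ht, hty⟩ : ∃ t ∈ P.commA, P.a⁻¹ * y * P.a = y * t :=
        ⟨_, ⟨y, hy, rfl⟩, by group⟩
      have e1 : P.a * (w * y) * (P.a * (w * y)) = w * l * (y * t) * (w * y) := by
        rw [← hty, show P.a * (w * y) * (P.a * (w * y)) =
          (P.a * w * P.a⁻¹) * (P.a * y * P.a) * (w * y) by group, hl]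
        simp only [P.a_inv]
        group
      have hly : l * (y * t) ∈ P.B := mul_mem hlL.1 (mul_mem hy (P.commA_le ht).1)
      have e2 : w * l * (y * t) * (w * y) = (w * w) * ((l * (y * t)) * y) := by
        rw [show w * l * (y * t) * (w * y) = w * ((l * (y * t)) * w) * y by group,
          ← hwcomm _ hly]
        group
      rw [e1, e2, P.commB hy (P.commA_le ht).1,
        show (l * (t * y)) * y = l * t * (y * y) by group, P.exp y hy, mul_one] at hh
      refine hlA ?_
      have e3 : l = (w * w)⁻¹ * t⁻¹ := by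
        have := eq_inv_of_mul_eq_one_right hh
        rw [← this, mul_inv_cancel_right]
      rw [e3, hzf]
      exact mul_mem (inv_mem hf) (inv_mem ht)
    have hLW : P.L ≤ W := fun v hv => hBW hv.1
    have hcent := P.card_centralizer_mk_le hLW hinv hwsurj
    let π := QuotientGroup.mk' W
    have hQ : IsPGroup 2 (S ⧸ W) := P.pGroup.to_quotient _
    have h4 := card_le_four_mul hQ (π P.a) hcent (h.map π)
    have hDle : Nat.card ↥(H ⊓ W) ≤ 16 := hWcard ▸ Subgroup.card_le_of_le inf_le_right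
    by_cases hD : Nat.card ↥(H ⊓ W) < 2 ^ 3 * Nat.card ↥(N ⊓ W)
    · exact card_le_mk_mul W h4 (half_le P.pGroup hD)
    push Not at hD
    have hNpos : 0 < Nat.card ↥(N ⊓ W) := Nat.card_pos
    have hWcomm : ∀ x ∈ W, ∀ v ∈ P.B, x * v = v * x := fun x hx v hv => by
      rcases hWform x hx with h' | ⟨y, hy, rfl⟩
      · exact P.commB h' hv
      · rw [mul_assoc, P.commB hy hv, ← mul_assoc, hwcomm v hv, mul_assoc]
    have hWw : ∀ x ∈ W, x * w = w * x := fun x hx => by
      rcases hWform x hx with h' | ⟨y, hy, rfl⟩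
      · exact (hwcomm x h').symm
      · rw [mul_assoc, ← hwcomm y hy]
    -- the two possibilities for `H ⊓ W`
    have hshape : (P.B ≤ H ∧ N ⊓ P.B = ⊥ ∧ Nat.card ↥(H ⊓ W) ≤ 2 ^ 3 * Nat.card ↥(N ⊓ W)) ∨
        (w ∈ H ∧ (∀ v ∈ N ⊓ W, v = 1 ∨ v = f) ∧
          Nat.card ↥(H ⊓ W) ≤ 2 ^ 3 * Nat.card ↥(N ⊓ W)) := by
      by_cases hB : H ⊓ W ≤ P.B
      · left
        have h1 : Nat.card ↥(H ⊓ W) ≤ 8 := h8 ▸ Subgroup.card_le_of_le hB
        have heq : H ⊓ W = P.B := Subgroup.eq_of_le_of_card_ge hB (by rw [h8]; omega)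
        refine ⟨heq ▸ inf_le_left, Subgroup.card_eq_one.mp ?_, by omega⟩
        have h2 := Subgroup.card_le_of_le (inf_le_inf_left N hBW)
        have h3 : 0 < Nat.card ↥(N ⊓ P.B) := Nat.card_pos
        omega
      · right
        obtain ⟨v, hv, hvB⟩ := SetLike.not_le_iff_exists.mp hB
        obtain ⟨y, hy, rfl⟩ := (hWform v hv.2).resolve_left hvB
        have hfN : f ∈ N ⊓ W := ⟨by rw [← hzf, ← hsqW y hy]; exact h.2 _ hv.1,
          hBW (P.commA_le hf).1⟩
        have hN2 : 2 ≤ Nat.card ↥(N ⊓ W) := by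
          refine (Subgroup.one_lt_card_iff_ne_bot _).mpr fun hb => hf1 ?_
          rw [hb, Subgroup.mem_bot] at hfN; exact hfN
        have heq : H ⊓ W = W := Subgroup.eq_of_le_of_card_ge inf_le_right (by omega)
        refine ⟨(heq.symm ▸ hwW : w ∈ H ⊓ W).1, fun u hu => ?_, by omega⟩
        have hNle : N ⊓ W = Subgroup.zpowers f := by
          refine (Subgroup.eq_of_le_of_card_ge (Subgroup.zpowers_le.mpr hfN) ?_).symm
          have : orderOf f = 2 := orderOf_eq_prime (by rw [pow_two]; exact P.exp f (P.commA_le hf).1) hf1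
          rw [Nat.card_zpowers, this]
          omega
        rw [hNle, Subgroup.mem_zpowers_iff] at hu
        obtain ⟨i, rfl⟩ := hu
        have hff : f * f = 1 := P.exp f (P.commA_le hf).1
        rcases Int.even_or_odd' i with ⟨k, hk | hk⟩
        · left; rw [hk, zpow_mul, zpow_two, hff, one_zpow]
        · right; rw [hk, zpow_add, zpow_mul, zpow_two, hff, one_zpow, one_mul, zpow_one]
    have hD8 : Nat.card ↥(H ⊓ W) ≤ 2 ^ 3 * Nat.card ↥(N ⊓ W) := by
      rcases hshape with ⟨-, -, h3⟩ | ⟨-, -, h3⟩ <;> exact h3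
    by_cases hHbar : Nat.card (H.map π) < 2 ^ 2 * Nat.card (N.map π)
    · exact card_le_mk_mul W (half_le hQ hHbar) hD8
    push Not at hHbar
    exfalso
    obtain ⟨g, hgH, g0, hg0a, hg0l, x, hx, hgx⟩ : ∃ g ∈ H, ∃ g0 : S, g0 * P.a = P.a * g0 ∧
        g0 * l ≠ l * g0 ∧ ∃ x ∈ W, g = g0 * x := by
      have hx0l : x0 * l ≠ l * x0 := fun hh => hxv (hfixL x0 hx0a hh v0 hv0)
      by_cases haZ : π P.a ∈ Subgroup.center (S ⧸ W)
      · have htop : Subgroup.centralizer ({π P.a} : Set (S ⧸ W)) = ⊤ := by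
          rw [eq_top_iff]
          intro q _
          rw [Subgroup.mem_centralizer_singleton_iff]
          exact Subgroup.mem_center_iff.mp haZ q
        rw [htop, Subgroup.card_top] at hcent
        have hHtop : H.map π = ⊤ := Subgroup.eq_top_of_le_card _ (by
          have : 0 < Nat.card (N.map π) := Nat.card_pos
          omega)
        obtain ⟨g, hg, hgx⟩ : π x0 ∈ H.map π := hHtop ▸ Subgroup.mem_top _
        exact ⟨g, hg, x0, hx0a, hx0l, x0⁻¹ * g, (QuotientGroup.eq (s := W)).mp hgx.symm, by group⟩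
      · have hne : (⊤ : Subgroup (S ⧸ W)) ≠ ⊥ := fun ht => by
          have h1 := Subgroup.card_le_of_le (le_top : H.map π ≤ ⊤)
          rw [ht, Subgroup.card_bot] at h1
          have : 0 < Nat.card (N.map π) := Nat.card_pos
          omega
        obtain ⟨q, -, hqc, hq2⟩ := PGroup.exists_orderOf_eq_mem_center hQ ⊤ hne
        obtain ⟨g, hg, hgq⟩ := center_le_of_four hQ (π P.a) hcent hHbar hqc
        have hga : π g * π P.a = π P.a * π g :=
          hgq ▸ (Subgroup.mem_center_iff.mp hqc (π P.a)).symm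
        obtain ⟨x, hx, hgx⟩ := P.exists_fix hinv hwsurj hga
        refine ⟨g, hg, g * x⁻¹, hgx, fun hh => ?_, x, hx, by group⟩
        have hπ : π (g * x⁻¹) = q := by
          rw [map_mul, map_inv, show π x = 1 from (QuotientGroup.eq_one_iff x).mpr hx,
            inv_one, mul_one, hgq]
        rcases P.self _ hgx (hfixL _ hgx hh) with h' | h'
        · have hq1 : q = 1 := hπ ▸ (QuotientGroup.eq_one_iff _).mpr (hLW h')
          rw [hq1, orderOf_one] at hq2
          omega
        · apply haZ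
          have h1 : π P.a * q = 1 := by
            rw [← hπ, ← map_mul]; exact (QuotientGroup.eq_one_iff _).mpr (hLW h')
          rw [eq_inv_of_mul_eq_one_left h1]
          exact inv_mem hqc
    rcases hshape with ⟨hBH, hN1, -⟩ | ⟨hwH, hNW, -⟩
    · have hgC := le_centralizer_of_inf_bot h hBH hN1 hgH
      have h1 : l * g = g * l := Subgroup.mem_centralizer_iff.mp hgC l hlL.1
      have h2 : x * l = l * x := hWcomm x hx l hlL.1
      refine hg0l ?_
      calc g0 * l = g * x⁻¹ * l := by rw [hgx]; group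
        _ = g * (l * x⁻¹) := by rw [mul_assoc, (Commute.inv_left h2).eq]
        _ = l * (g * x⁻¹) := by rw [← mul_assoc, ← h1, mul_assoc]
        _ = l * g0 := by rw [hgx]; group
    · have ht : w⁻¹ * (g⁻¹ * w * g) ∈ N ⊓ W := by
        refine Subgroup.mem_inf.mpr ⟨?_, mul_mem (inv_mem hwW)
          (by simpa using hWn.conj_mem w hwW g⁻¹)⟩
        have := h.comm_mem hwH hgH
        rwa [show w⁻¹ * (g⁻¹ * w * g) = w⁻¹ * g⁻¹ * w * g by group]
      set t := w⁻¹ * (g⁻¹ * w * g) with ht'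
      have htL : t ∈ P.L := by
        rcases hNW t ht with h' | h' <;> rw [h']
        · exact one_mem _
        · exact P.commA_le hf
      have hta : P.a⁻¹ * t * P.a = t := by
        rw [mul_assoc, (P.mem_L.mp htL).2, inv_mul_cancel_left]
      have hg0w : g0⁻¹ * w * g0 = w * t := by
        have e : g0⁻¹ * w * g0 = x * (g⁻¹ * w * g) * x⁻¹ := by rw [hgx]; group
        have e2 : g⁻¹ * w * g = w * t := by rw [ht']; group
        rw [e, e2, ← mul_assoc, hWw x hx, mul_assoc w, hWcomm x hx t htL.1, mul_assoc,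
          mul_assoc, mul_inv_cancel, mul_one]
      refine hg0l ?_
      have h1 : g0⁻¹ * l * g0 = l := by
        have hga : g0⁻¹ * P.a * g0 = P.a := by rw [mul_assoc, ← hg0a, inv_mul_cancel_left]
        calc g0⁻¹ * l * g0
            = (g0⁻¹ * w * g0)⁻¹ * ((g0⁻¹ * P.a * g0)⁻¹ * (g0⁻¹ * w * g0) * (g0⁻¹ * P.a * g0)) := by
              rw [hl]; group
          _ = (w * t)⁻¹ * ((P.a⁻¹ * w * P.a) * (P.a⁻¹ * t * P.a)) := by rw [hga, hg0w]; group
          _ = t⁻¹ * (l * t) := by rw [hta, hl]; group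
          _ = l := by rw [P.commB hlL.1 htL.1, inv_mul_cancel_left]
      calc g0 * l = g0 * (g0⁻¹ * l * g0) := by rw [h1]
        _ = l * g0 := by group

end Pair

/-- Sections of exponent two have order at most 16. -/
theorem card_le_sixteen_mul_of_selfCentralizing [Finite S] (hS : IsPGroup 2 S) {A : Subgroup S}
    (hexpA : ∀ x ∈ A, x * x = 1) (h8 : Nat.card A = 8)
    (hC : Subgroup.centralizer (A : Set S) = A) {N H : Subgroup S} (h : SqSub N H) :
    Nat.card H ≤ 16 * Nat.card N := by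
  classical
  have : Fact (Nat.Prime 2) := ⟨Nat.prime_two⟩
  by_cases hno : NoEight S
  · exact card_le_sixteen_mul_of_noEight hS hno h
  obtain ⟨B0, hB0n, hB0exp, hB0⟩ : ∃ B0 : Subgroup S, B0.Normal ∧ (∀ x ∈ B0, x * x = 1) ∧
      4 < Nat.card B0 := by
    simp only [NoEight] at hno
    push Not at hno
    exact hno
  obtain ⟨B, hB⟩ := (Set.toFinite {E : Subgroup S | E.Normal ∧ (∀ x ∈ E, x * x = 1) ∧
    4 < Nat.card E}).exists_maximal ⟨B0, hB0n, hB0exp, hB0⟩
  obtain ⟨hBn, hBexp, hB4⟩ := hB.prop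
  have hmax : ∀ E : Subgroup S, E.Normal → (∀ x ∈ E, x * x = 1) → B ≤ E → E ≤ B :=
    fun E h1 h2 h3 => hB.le_of_ge ⟨h1, h2, hB4.trans_le (Subgroup.card_le_of_le h3)⟩ h3
  suffices hP : (B = A ∨ ∃ a : S, a * a = 1 ∧ a ∉ B ∧
      Nat.card ↥(B ⊓ Subgroup.centralizer ({a} : Set S)) = 4 ∧
      ∀ x : S, x * a = a * x → (∀ l ∈ B ⊓ Subgroup.centralizer ({a} : Set S), x * l = l * x) →
        x ∈ B ⊓ Subgroup.centralizer ({a} : Set S) ∨
          a * x ∈ B ⊓ Subgroup.centralizer ({a} : Set S)) by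
    rcases hP with rfl | ⟨a, h1, h2, h3, h4⟩
    · exact card_le_of_selfCentralizing_eight hS h8 hC h
    · let P : Pair S := ⟨B, a, hS, hBn, hBexp, hmax, hB4, h1, h2, h3, h4⟩
      rcases P.card_B_cases with hc | hc
      · exact P.card_le_eight hc h
      · exact P.card_le_sixteen hc h
  by_cases hAB : A ≤ B
  · left
    refine le_antisymm (fun x hx => ?_) hAB
    rw [← hC, Subgroup.mem_centralizer_iff]
    exact fun y hy => comm_of_sq hBexp (hAB hy) hx
  right
  obtain ⟨z, hzB, hzc, hz2⟩ := PGroup.exists_orderOf_eq_mem_center hS B (fun hb => by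
    rw [hb, Subgroup.card_bot] at hB4; omega)
  have hz1 : z ≠ 1 := fun h => by rw [h, orderOf_one] at hz2; omega
  have hzA : z ∈ A := by
    rw [← hC, Subgroup.mem_centralizer_iff]
    exact fun y _ => Subgroup.mem_center_iff.mp hzc y
  have hzz : ∀ g : S, g * z = z * g := fun g => Subgroup.mem_center_iff.mp hzc g
  have hABlt : A ⊓ B < A := lt_of_le_of_ne inf_le_left fun he => hAB (he ▸ inf_le_right)
  have hAB4 : Nat.card ↥(A ⊓ B) ≤ 4 := by
    have := PGroup.mul_card_le_card hS hABlt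
    omega
  have hAc : ∀ x ∈ A, ∀ y ∈ A, x * y = y * x := fun x hx y hy => comm_of_sq hexpA hx hy
  have mem_A : ∀ x : S, (∀ y ∈ A, x * y = y * x) → x ∈ A := fun x hx => by
    rw [← hC, Subgroup.mem_centralizer_iff]
    exact fun y hy => (hx y hy).symm
  have hABpos : 2 ≤ Nat.card ↥(A ⊓ B) := by
    refine (Subgroup.one_lt_card_iff_ne_bot _).mpr fun hb => hz1 ?_
    have : z ∈ A ⊓ B := ⟨hzA, hzB⟩
    rwa [hb, Subgroup.mem_bot] at this
  by_cases h4 : Nat.card ↥(A ⊓ B) = 4
  · obtain ⟨a, haA, haB⟩ := SetLike.not_le_iff_exists.mp hAB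
    have ha2 : a * a = 1 := hexpA a haA
    have hidx : ((A ⊓ B).subgroupOf A).index = 2 := by
      have h1 := Subgroup.card_mul_index ((A ⊓ B).subgroupOf A)
      rw [Nat.card_congr (Subgroup.subgroupOfEquivOfLe inf_le_left).toEquiv, h4, h8] at h1
      omega
    have hcov : ∀ y ∈ A, y ∈ A ⊓ B ∨ a * y ∈ A ⊓ B := fun y hy => by
      by_cases hyB : y ∈ A ⊓ B
      · exact Or.inl hyB
      · exact Or.inr ((Subgroup.mul_mem_iff_of_index_two hidx (a := ⟨a, haA⟩) (b := ⟨y, hy⟩)).mpr
          (iff_of_false (fun h => haB h.2) hyB))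
    have hall : ∀ x : S, x * a = a * x → (∀ l ∈ A ⊓ B, x * l = l * x) → x ∈ A :=
      fun x hxa hxl => mem_A x fun y hy => by
        rcases hcov y hy with h' | h'
        · exact hxl y h'
        · have e : y = a * (a * y) := by rw [← mul_assoc, ha2, one_mul]
          rw [e, ← mul_assoc, hxa, mul_assoc, hxl _ h', ← mul_assoc]
    have hLeq : B ⊓ Subgroup.centralizer ({a} : Set S) = A ⊓ B := by
      ext x
      rw [Subgroup.mem_inf, Subgroup.mem_inf, Subgroup.mem_centralizer_singleton_iff]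
      exact ⟨fun ⟨h1, h2⟩ => ⟨hall x h2 fun l hl => comm_of_sq hBexp h1 hl.2, h1⟩,
        fun ⟨h1, h2⟩ => ⟨h2, hAc x h1 a haA⟩⟩
    refine ⟨a, ha2, haB, by rw [hLeq, h4], fun x hxa hxl => ?_⟩
    rw [hLeq] at hxl ⊢
    exact hcov x (hall x hxa hxl)
  have h2 : Nat.card ↥(A ⊓ B) = 2 := by
    obtain ⟨k, hk⟩ := PGroup.card_eq_pow hS (A ⊓ B)
    have : k ≤ 2 := (Nat.pow_le_pow_iff_right (show 1 < 2 by norm_num)).mp (hk ▸ hAB4)
    interval_cases k <;> omega
  have hABz : A ⊓ B = Subgroup.zpowers z :=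
    (Subgroup.eq_of_le_of_card_ge (Subgroup.zpowers_le.mpr (Subgroup.mem_inf.mpr ⟨hzA, hzB⟩))
      (by rw [Nat.card_zpowers, hz2, h2])).symm
  let K := Subgroup.normalizer (A : Set S)
  have hAK : A ≤ K := Subgroup.le_normalizer
  have : ((Subgroup.zpowers z).subgroupOf K).Normal := ⟨fun x hx g => by
    show (g : S) * (x : S) * (g : S)⁻¹ ∈ Subgroup.zpowers z
    obtain ⟨i, hi⟩ := hx
    rw [show (x : S) = z ^ i from hi.symm, (Commute.zpow_right (hzz (g : S)) i).eq,
      mul_inv_cancel_right]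
    exact Subgroup.zpow_mem _ (Subgroup.mem_zpowers z) i⟩
  have : (A.subgroupOf K).Normal := Subgroup.normal_in_normalizer
  obtain ⟨bK, hbA, hbz, -, hbg⟩ := exists_central_step (hS.to_subgroup K)
    (N := (Subgroup.zpowers z).subgroupOf K) (M := A.subgroupOf K)
    (fun x hx => (Subgroup.zpowers_le.mpr hzA) hx) (fun hle => by
      have h1 : A ≤ Subgroup.zpowers z := fun x hx => hle (show (⟨x, hAK hx⟩ : K) ∈ A.subgroupOf K from hx)
      have := Subgroup.card_le_of_le h1
      rw [h8, Nat.card_zpowers, hz2] at this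
      omega)
  set b := (bK : S) with hb
  have hbA' : b ∈ A := hbA
  have hbz' : b ∉ Subgroup.zpowers z := hbz
  have hzn : (Subgroup.zpowers z).Normal := ⟨fun x hx g => by
    obtain ⟨i, rfl⟩ := hx
    rw [show g * z ^ i = z ^ i * g from (Commute.zpow_right (hzz g) i).eq, mul_inv_cancel_right]
    exact Subgroup.zpow_mem _ (Subgroup.mem_zpowers z) i⟩
  let A0 := Subgroup.zpowers z ⊔ Subgroup.zpowers b
  have hA0card : Nat.card A0 = 4 := by
    show Nat.card ↥(Subgroup.zpowers z ⊔ Subgroup.zpowers b) = 4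
    rw [PGroup.card_sup_zpowers (p := 2) _ hbz' (by rw [pow_two, hexpA b hbA']; exact one_mem _),
      Nat.card_zpowers, hz2]
  have hA0A : A0 ≤ A := sup_le (Subgroup.zpowers_le.mpr hzA) (Subgroup.zpowers_le.mpr hbA')
  obtain ⟨a, haA, ha0⟩ : ∃ a ∈ A, a ∉ A0 := by
    refine SetLike.not_le_iff_exists.mp fun hle => ?_
    have := Subgroup.card_le_of_le hle
    rw [h8, hA0card] at this
    omega
  have ha2 : a * a = 1 := hexpA a haA
  have haz : a ∉ Subgroup.zpowers z := fun h => ha0 (Subgroup.mem_sup_left h)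
  have haB : a ∉ B := fun h => haz (hABz ▸ (⟨haA, h⟩ : a ∈ A ⊓ B))
  have hA0idx : (A0.subgroupOf A).index = 2 := by
    have h1 := Subgroup.card_mul_index (A0.subgroupOf A)
    rw [Nat.card_congr (Subgroup.subgroupOfEquivOfLe hA0A).toEquiv, hA0card, h8] at h1
    omega
  -- centralizing `z`, `a`, `b` puts an element into `A`
  have hgen : ∀ x : S, x * a = a * x → x * b = b * x → x ∈ A := fun x hxa hxb => mem_A x fun y hy => by
    have hle0 : A0 ≤ Subgroup.centralizer ({x} : Set S) :=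
      sup_le (Subgroup.zpowers_le.mpr (Subgroup.mem_centralizer_singleton_iff.mpr (hzz x).symm))
        (Subgroup.zpowers_le.mpr (Subgroup.mem_centralizer_singleton_iff.mpr hxb.symm))
    have hc : ∀ y ∈ A0, x * y = y * x := fun y hy =>
      (Subgroup.mem_centralizer_singleton_iff.mp (hle0 hy)).symm
    by_cases hy0 : y ∈ A0
    · exact hc y hy0
    · have hay : a * y ∈ A0 :=
        (Subgroup.mul_mem_iff_of_index_two hA0idx (a := ⟨a, haA⟩) (b := ⟨y, hy⟩)).mpr
          (iff_of_false ha0 hy0)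
      rw [show y = a * (a * y) by rw [← mul_assoc, ha2, one_mul], ← mul_assoc, hxa, mul_assoc,
        hc _ hay, ← mul_assoc]
  set L := B ⊓ Subgroup.centralizer ({a} : Set S) with hL
  have hLa : ∀ x ∈ L, x * a = a * x := fun x hx => Subgroup.mem_centralizer_singleton_iff.mp hx.2
  have hab : a * b = b * a := hAc a haA b hbA'
  have hLb : ∀ x ∈ L, x * b = b * x → x ∈ Subgroup.zpowers z := fun x hx hxb => by
    rw [← hABz]; exact ⟨hgen x (hLa x hx) hxb, hx.1⟩
  have hconjL : ∀ x ∈ L, b⁻¹ * x * b ∈ L := fun x hx => by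
    refine ⟨by simpa using hBn.conj_mem x hx.1 b⁻¹, ?_⟩
    show b⁻¹ * x * b ∈ Subgroup.centralizer ({a} : Set S)
    have hbC : b ∈ Subgroup.centralizer ({a} : Set S) :=
      Subgroup.mem_centralizer_singleton_iff.mpr hab.symm
    exact mul_mem (mul_mem (inv_mem hbC) hx.2) hbC
  have hbb : b⁻¹ = b := inv_eq_of_mul_eq_one_right (hexpA b hbA')
  have hLcard : Nat.card L = 4 := by
    have h1 := card_le_fix_mul hBexp (R := L) inf_le_left b (R' := Subgroup.zpowers z) fun x hx => by
      have hm : x⁻¹ * (b⁻¹ * x * b) ∈ L := mul_mem (inv_mem hx) (hconjL x hx)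
      refine hLb _ hm ?_
      have hc : b * x * b ∈ B := by simpa [hbb] using (hconjL x hx).1
      rw [hbb, inv_eq_of_mul_eq_one_right (hBexp x hx.1)]
      calc x * (b * x * b) * b = x * b * x * (b * b) := by group
        _ = x * b * x := by rw [hexpA b hbA', mul_one]
        _ = (b * b) * (x * b * x) := by rw [hexpA b hbA', one_mul]
        _ = b * ((b * x * b) * x) := by group
        _ = b * (x * (b * x * b)) := by rw [comm_of_sq hBexp hc hx.1]
    have h2 : Nat.card ↥(L ⊓ Subgroup.centralizer ({b} : Set S)) ≤ 2 := by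
      refine le_of_le_of_eq (Subgroup.card_le_of_le fun x hx =>
        hLb x hx.1 (Subgroup.mem_centralizer_singleton_iff.mp hx.2)) (by rw [Nat.card_zpowers, hz2])
    rw [Nat.card_zpowers, hz2] at h1
    have h3 := card_le_fix_mul hBexp (le_refl B) a (R' := L) fun x hx => by
      refine Subgroup.mem_inf.mpr ⟨mul_mem (inv_mem hx) (by simpa using hBn.conj_mem x hx a⁻¹), ?_⟩
      show x⁻¹ * (a⁻¹ * x * a) ∈ Subgroup.centralizer ({a} : Set S)
      rw [Subgroup.mem_centralizer_singleton_iff]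
      have hainv : a⁻¹ = a := inv_eq_of_mul_eq_one_right ha2
      have hc : a * x * a ∈ B := by simpa [hainv] using hBn.conj_mem x hx a⁻¹
      rw [hainv, inv_eq_of_mul_eq_one_right (hBexp x hx)]
      calc x * (a * x * a) * a = x * a * x * (a * a) := by group
        _ = x * a * x := by rw [ha2, mul_one]
        _ = (a * a) * (x * a * x) := by rw [ha2, one_mul]
        _ = a * ((a * x * a) * x) := by group
        _ = a * (x * (a * x * a)) := by rw [comm_of_sq hBexp hc hx]
    obtain ⟨k, hk⟩ := PGroup.card_eq_pow hS L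
    have hle : Nat.card L ≤ 4 := by
      calc Nat.card L ≤ _ := h1
        _ ≤ 2 * 2 := Nat.mul_le_mul_right 2 h2
        _ = 4 := rfl
    have hk2 : k ≤ 2 := (Nat.pow_le_pow_iff_right (show 1 < 2 by norm_num)).mp (hk ▸ hle)
    have h3' : Nat.card B ≤ Nat.card L * Nat.card L := h3
    rw [hk] at h3' ⊢
    interval_cases k <;> omega
  refine ⟨a, ha2, haB, hLcard, ?_⟩
  obtain ⟨l, hlL, hlz⟩ : ∃ l ∈ L, l ∉ Subgroup.zpowers z := by
    refine SetLike.not_le_iff_exists.mp fun hle => ?_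
    have := Subgroup.card_le_of_le hle
    rw [hLcard, Nat.card_zpowers, hz2] at this
    omega
  have hlb : l⁻¹ * (b⁻¹ * l * b) = z := by
    have hzL : z ∈ L := ⟨hzB, by
      show z ∈ Subgroup.centralizer ({a} : Set S)
      rw [Subgroup.mem_centralizer_singleton_iff]; exact (hzz a).symm⟩
    have hl1 : l ≠ 1 := fun h => hlz (h ▸ one_mem _)
    have hlnz : l ≠ z := fun h => hlz (h ▸ Subgroup.mem_zpowers z)
    have hlzne : l * z ≠ 1 := fun h => hlz (by
      rw [eq_inv_of_mul_eq_one_left h]; exact inv_mem (Subgroup.mem_zpowers z))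
    have hback : ∀ t, b⁻¹ * l * b = t → l = b * t * b⁻¹ := fun t ht => by rw [← ht]; group
    rcases four_cases hLcard hzL hlL hz1 hl1 hlnz hlzne (hconjL l hlL) with h' | h' | h' | h'
    · exact absurd (by simpa using hback _ h') hl1
    · exact absurd (by rw [hback _ h', hzz b]; group) hlnz
    · refine absurd (hLb l hlL ?_) hlz
      calc l * b = b * (b⁻¹ * l * b) := by group
        _ = b * l := by rw [h']
    · rw [h', inv_mul_cancel_left]
  intro x hxa hxl
  -- `G = C(L) ∩ C(a)` is `L ∪ a L`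
  let G := Subgroup.centralizer (L : Set S) ⊓ Subgroup.centralizer ({a} : Set S)
  have haG : a ∈ G := ⟨Subgroup.mem_centralizer_iff.mpr fun v hv => hLa v hv, by
    show a ∈ Subgroup.centralizer ({a} : Set S)
    rw [Subgroup.mem_centralizer_singleton_iff]⟩
  have hLG : L ≤ G := fun v hv => ⟨Subgroup.mem_centralizer_iff.mpr fun u hu =>
    comm_of_sq hBexp hu.1 hv.1, hv.2⟩
  let A' := L ⊔ Subgroup.zpowers a
  have hA'G : A' ≤ G := sup_le hLG (Subgroup.zpowers_le.mpr haG)
  have hA'form : ∀ v ∈ A', v ∈ L ∨ a * v ∈ L := by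
    let M : Subgroup S :=
      { carrier := {v | v ∈ L ∨ a * v ∈ L}
        one_mem' := Or.inl (one_mem _)
        mul_mem' := by
          rintro p q (hp | hp) (hq | hq)
          · exact Or.inl (mul_mem hp hq)
          · right
            rw [← mul_assoc, ← hLa p hp, mul_assoc]
            exact mul_mem hp hq
          · right; rw [← mul_assoc]; exact mul_mem hp hq
          · left
            have e : p * q = (a * p) * (a * q) := by
              have := hLa _ hp
              calc p * q = (a * a) * p * q := by rw [ha2, one_mul]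
                _ = a * (a * p) * q := by group
                _ = (a * p) * a * q := by rw [← this]
                _ = (a * p) * (a * q) := by group
            rw [e]; exact mul_mem hp hq
        inv_mem' := by
          rintro p (hp | hp)
          · exact Or.inl (inv_mem hp)
          · right
            have e : a * p⁻¹ = (a * p)⁻¹ := by
              have h1 := hLa _ hp
              have hpa : p * a = a * p := by
                calc p * a = a * (a * p * a) := by
                      rw [show a * (a * p * a) = a * a * (p * a) by group, ha2, one_mul]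
                  _ = a * (a * (a * p)) := by rw [h1]
                  _ = a * p := by rw [← mul_assoc a a, ha2, one_mul]
              calc a * p⁻¹ = (p * a)⁻¹ := by rw [mul_inv_rev, inv_eq_of_mul_eq_one_right ha2]
                _ = (a * p)⁻¹ := by rw [hpa]
            rw [e]; exact inv_mem hp }
    have hle : A' ≤ M := sup_le (fun v hv => Or.inl hv)
      (Subgroup.zpowers_le.mpr (Or.inr (ha2 ▸ one_mem L)))
    exact fun v hv => hle hv
  suffices hGA : G ≤ A' from hA'form x (hGA ⟨Subgroup.mem_centralizer_iff.mpr fun v hv => (hxl v hv).symm,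
    Subgroup.mem_centralizer_singleton_iff.mpr hxa⟩)
  by_contra hne
  let K2 := G ⊔ Subgroup.zpowers b
  have hbK2 : b ∈ K2 := Subgroup.mem_sup_right (Subgroup.mem_zpowers b)
  have hbG : ∀ g ∈ G, b⁻¹ * g * b ∈ G := fun g hg => by
    refine ⟨Subgroup.mem_centralizer_iff.mpr fun v hv => ?_, ?_⟩
    · have hv' : b * v * b⁻¹ ∈ L := by
        have := hconjL v hv
        rwa [hbb] at this ⊢
      have := Subgroup.mem_centralizer_iff.mp hg.1 _ hv'
      calc v * (b⁻¹ * g * b) = b⁻¹ * ((b * v * b⁻¹) * g) * b := by group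
        _ = b⁻¹ * (g * (b * v * b⁻¹)) * b := by rw [this]
        _ = (b⁻¹ * g * b) * v := by group
    · show b⁻¹ * g * b ∈ Subgroup.centralizer ({a} : Set S)
      have hbC : b ∈ Subgroup.centralizer ({a} : Set S) :=
        Subgroup.mem_centralizer_singleton_iff.mpr hab.symm
      exact mul_mem (mul_mem (inv_mem hbC) hg.2) hbC
  have hK2norm : ∀ Q : Subgroup S, (∀ g ∈ G, ∀ q ∈ Q, g * q * g⁻¹ ∈ Q) →
      (∀ q ∈ Q, b⁻¹ * q * b ∈ Q) → (Q.subgroupOf K2).Normal := by
    intro Q h1 h2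
    have hle : K2 ≤ Subgroup.normalizer (Q : Set S) := by
      refine sup_le (fun g hg => ?_) (Subgroup.zpowers_le.mpr ?_) <;>
        rw [Subgroup.mem_normalizer_iff]
      · intro q
        refine ⟨fun hq => h1 g hg q hq, fun hq => ?_⟩
        have := h1 g⁻¹ (inv_mem hg) _ hq
        rwa [show g⁻¹ * (g * q * g⁻¹) * g⁻¹⁻¹ = q by group] at this
      · intro q
        refine ⟨fun hq => by rw [hbb]; simpa [hbb] using h2 q hq, fun hq => ?_⟩
        have := h2 _ hq
        rwa [show b⁻¹ * (b * q * b⁻¹) * b = q by group] at this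
    exact Subgroup.normal_subgroupOf_of_le_normalizer hle
  have hGcent : ∀ g ∈ G, ∀ q ∈ A', g * q * g⁻¹ = q := fun g hg q hq => by
    have hle : A' ≤ Subgroup.centralizer ({g} : Set S) := sup_le
      (fun v hv => Subgroup.mem_centralizer_singleton_iff.mpr
        (Subgroup.mem_centralizer_iff.mp hg.1 v hv))
      (Subgroup.zpowers_le.mpr (Subgroup.mem_centralizer_singleton_iff.mpr
        (Subgroup.mem_centralizer_singleton_iff.mp hg.2).symm))
    rw [← Subgroup.mem_centralizer_singleton_iff.mp (hle hq), mul_inv_cancel_right]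
  have hA'b : ∀ q ∈ A', b⁻¹ * q * b ∈ A' := by
    have hle : A' ≤ A'.comap (MulAut.conj b⁻¹).toMonoidHom := by
      refine sup_le (fun v hv => Subgroup.mem_sup_left ?_) (Subgroup.zpowers_le.mpr ?_)
      · show b⁻¹ * v * b⁻¹⁻¹ ∈ L
        rw [inv_inv]; exact hconjL v hv
      · show b⁻¹ * a * b⁻¹⁻¹ ∈ A'
        rw [inv_inv, mul_assoc, hab, inv_mul_cancel_left]
        exact Subgroup.mem_sup_right (Subgroup.mem_zpowers a)
    intro q hq
    simpa using hle hq
  have := hK2norm A' (fun g hg q hq => (hGcent g hg q hq).symm ▸ hq) hA'b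
  have := hK2norm G (fun g hg q hq => mul_mem (mul_mem hg hq) (inv_mem hg)) hbG
  obtain ⟨cK, hcG, hcA, -, hcg⟩ := exists_central_step (hS.to_subgroup K2)
    (N := A'.subgroupOf K2) (M := G.subgroupOf K2) (fun v hv => hA'G hv)
    (fun hle => hne fun v hv =>
      hle (show (⟨v, Subgroup.mem_sup_left hv⟩ : K2) ∈ G.subgroupOf K2 from hv))
  set c := (cK : S) with hc
  have hcG' : c ∈ G := hcG
  have hcA' : c ∉ A' := hcA
  have he : c⁻¹ * (b⁻¹ * c * b) ∈ A' := hcg ⟨b, hbK2⟩
  set e := c⁻¹ * (b⁻¹ * c * b) with hedef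
  have hA'exp : ∀ v ∈ A', v * v = 1 := fun v hv => by
    rcases hA'form v hv with h' | h'
    · exact hBexp v h'.1
    · have h1 := hLa _ h'
      have hva : v * a = a * v := by
        calc v * a = a * (a * v * a) := by
              rw [show a * (a * v * a) = a * a * (v * a) by group, ha2, one_mul]
          _ = a * (a * (a * v)) := by rw [h1]
          _ = a * v := by rw [← mul_assoc a a, ha2, one_mul]
      calc v * v = (a * a) * (v * v) := by rw [ha2, one_mul]
        _ = a * (a * v) * v := by group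
        _ = a * (v * a) * v := by rw [hva]
        _ = (a * v) * (a * v) := by group
        _ = 1 := hBexp _ h'.1
  have heb : b⁻¹ * e * b = e := by
    have h1 : e * (b⁻¹ * e * b) = 1 := by
      calc e * (b⁻¹ * e * b) = c⁻¹ * (b * b)⁻¹ * c * (b * b) := by rw [hedef]; group
        _ = 1 := by rw [hexpA b hbA']; group
    rw [eq_inv_of_mul_eq_one_right h1, inv_eq_of_mul_eq_one_right (hA'exp e he)]
  have heA : e ∈ A := by
    refine hgen e ?_ ?_
    · exact Subgroup.mem_centralizer_singleton_iff.mp (hA'G he).2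
    · calc e * b = b * (b⁻¹ * e * b) := by group
        _ = b * e := by rw [heb]
  have hcb : c⁻¹ * b * c = b * e := by
    calc c⁻¹ * b * c = b * (c⁻¹ * (b⁻¹ * c * b))⁻¹ := by group
      _ = b * e := by rw [← hedef, inv_eq_of_mul_eq_one_right (hA'exp e he)]
  have hca : c * a = a * c := Subgroup.mem_centralizer_singleton_iff.mp hcG'.2
  have hmapA : ∀ y ∈ A, c⁻¹ * y * c ∈ A := fun y hy => by
    have hc0 : ∀ q ∈ A0, c⁻¹ * q * c ∈ A := by
      have hle : A0 ≤ A.comap (MulAut.conj c⁻¹).toMonoidHom := by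
        refine sup_le (Subgroup.zpowers_le.mpr ?_) (Subgroup.zpowers_le.mpr ?_)
        · show c⁻¹ * z * c⁻¹⁻¹ ∈ A
          rw [inv_inv, mul_assoc, ← hzz c, inv_mul_cancel_left]; exact hzA
        · show c⁻¹ * b * c⁻¹⁻¹ ∈ A
          rw [inv_inv, hcb]; exact mul_mem hbA' heA
      intro q hq
      simpa using hle hq
    by_cases hy0 : y ∈ A0
    · exact hc0 y hy0
    · have hay : a * y ∈ A0 :=
        (Subgroup.mul_mem_iff_of_index_two hA0idx (a := ⟨a, haA⟩) (b := ⟨y, hy⟩)).mpr
          (iff_of_false ha0 hy0)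
      have h1 : c⁻¹ * a * c = a := by rw [mul_assoc, ← hca, inv_mul_cancel_left]
      have e1 : c⁻¹ * y * c = (c⁻¹ * a * c) * (c⁻¹ * (a * y) * c) := by
        calc c⁻¹ * y * c = c⁻¹ * ((a * a) * y) * c := by rw [ha2, one_mul]
          _ = _ := by group
      rw [e1, h1]; exact mul_mem haA (hc0 _ hay)
  have hcK : c ∈ K := by
    have hK : A.map (MulAut.conj c⁻¹).toMonoidHom = A := Subgroup.eq_of_le_of_card_ge
      (by rintro _ ⟨y, hy, rfl⟩
          simpa using hmapA y hy)
      (by rw [Subgroup.card_map_of_injective (MulAut.conj c⁻¹).injective])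
    rw [Subgroup.mem_normalizer_iff]
    intro y
    refine ⟨fun hy => ?_, fun hy => by simpa [mul_assoc] using hmapA _ hy⟩
    obtain ⟨y', hy', he'⟩ := (hK.symm ▸ hy : y ∈ A.map (MulAut.conj c⁻¹).toMonoidHom)
    rw [← he']
    simpa [mul_assoc] using hy'
  have hez : e ∈ Subgroup.zpowers z := by
    have h1 : b⁻¹ * (c⁻¹ * b * c) ∈ Subgroup.zpowers z := hbg ⟨c, hcK⟩
    rwa [hcb, inv_mul_cancel_left] at h1
  have hfin : ∀ v ∈ G, v * b = b * v → v ∈ A' := fun v hv hvb => by
    have hvA : v ∈ A := hgen v (Subgroup.mem_centralizer_singleton_iff.mp hv.2) hvb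
    have hz' : z ∈ A' := Subgroup.mem_sup_left ⟨hzB, by
      show z ∈ Subgroup.centralizer ({a} : Set S)
      rw [Subgroup.mem_centralizer_singleton_iff]; exact (hzz a).symm⟩
    have hA0form : ∀ q ∈ A0, q ∈ Subgroup.zpowers z ∨ b * q ∈ Subgroup.zpowers z := by
      have hidx : ((Subgroup.zpowers z).subgroupOf A0).index = 2 := by
        have h1 := Subgroup.card_mul_index ((Subgroup.zpowers z).subgroupOf A0)
        rw [Nat.card_congr (Subgroup.subgroupOfEquivOfLe le_sup_left).toEquiv, hA0card,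
          Nat.card_zpowers, hz2] at h1
        omega
      intro q hq
      by_cases hqz : q ∈ Subgroup.zpowers z
      · exact Or.inl hqz
      · exact Or.inr ((Subgroup.mul_mem_iff_of_index_two hidx
          (a := ⟨b, Subgroup.mem_sup_right (Subgroup.mem_zpowers b)⟩) (b := ⟨q, hq⟩)).mpr
          (iff_of_false hbz' hqz))
    have hlcomm : ∀ q : S, q ∈ G → q * l = l * q := fun q hq =>
      (Subgroup.mem_centralizer_iff.mp hq.1 l hlL).symm
    have hbmove : b ∉ G := fun hbG' => by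
      have h1 := hlcomm b hbG'
      have e1 : l⁻¹ * (b⁻¹ * l * b) = 1 := by rw [mul_assoc b⁻¹, ← h1]; group
      exact hz1 (hlb.symm.trans e1)
    have key : ∀ q ∈ A0, q ∈ G → q ∈ A' := fun q hq hqG => by
      rcases hA0form q hq with h' | h'
      · exact (Subgroup.zpowers_le.mpr hz') h'
      · refine absurd ?_ hbmove
        have := mul_mem (hA'G ((Subgroup.zpowers_le.mpr hz') h')) (inv_mem hqG)
        rwa [mul_inv_cancel_right] at this
    by_cases hv0 : v ∈ A0
    · exact key v hv0 hv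
    · have hav : a * v ∈ A0 :=
        (Subgroup.mul_mem_iff_of_index_two hA0idx (a := ⟨a, haA⟩) (b := ⟨v, hvA⟩)).mpr
          (iff_of_false ha0 hv0)
      have := mul_mem (show a ∈ A' from Subgroup.mem_sup_right (Subgroup.mem_zpowers a))
        (key _ hav (mul_mem haG hv))
      rwa [← mul_assoc, ha2, one_mul] at this
  have hcbc : b⁻¹ * c * b = c * e := by rw [hedef]; group
  obtain ⟨i, hi⟩ := hez
  rcases Int.even_or_odd' i with ⟨k, hk | hk⟩
  · have he1 : e = 1 := by
      rw [← hi, hk]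
      show z ^ (2 * k) = 1
      rw [zpow_mul, zpow_two, show z * z = 1 by rw [← pow_two, ← hz2, pow_orderOf_eq_one], one_zpow]
    refine hcA' (hfin c hcG' ?_)
    calc c * b = b * (b⁻¹ * c * b) := by group
      _ = b * c := by rw [hcbc, he1, mul_one]
  · have he1 : e = z := by
      rw [← hi, hk]
      show z ^ (2 * k + 1) = z
      rw [zpow_add, zpow_mul, zpow_two, show z * z = 1 by rw [← pow_two, ← hz2, pow_orderOf_eq_one],
        one_zpow, one_mul, zpow_one]
    have hclG : c * l ∈ G := mul_mem hcG' (hLG hlL)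
    have hcl : c * l * b = b * (c * l) := by
      have hzsq : z * z = 1 := by rw [← pow_two, ← hz2, pow_orderOf_eq_one]
      calc c * l * b = b * ((b⁻¹ * c * b) * (l * (l⁻¹ * (b⁻¹ * l * b)))) := by group
        _ = b * (c * (z * l) * z) := by rw [hcbc, he1, hlb]; group
        _ = b * (c * (l * z) * z) := by rw [hzz l]
        _ = b * (c * l * (z * z)) := by group
        _ = b * (c * l) := by rw [hzsq, mul_one]
    have := mul_mem (hfin _ hclG hcl) (inv_mem (Subgroup.mem_sup_left hlL : l ∈ A'))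
    rw [mul_inv_cancel_right] at this
    exact hcA' this

end Cfsg.Agent.SecRank
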